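import Mathlib
import Groth.Prelude.Def_W4bk4goldsch45
import Groth.Agent.H23Ext.Conorm

/-!
The divisor of a projective map, and its behaviour in a finite extension.
-/

set_option autoImplicit false
set_option linter.unusedSectionVars false

namespace Groth.Agent.H23Proj

open Groth.Agent.H23FunFld Groth.Agent.H23Ext

variable {k K K' : Type*} [Field k] [Field K] [Field K'] [Algebra k K] [Algebra K K'] [Algebra k K']
  [IsScalarTower k K K'] [FiniteDimensional K K'] {ι : Type*} [Fintype ι] [Nonempty ι]

theorem mapDiv_apply (hK : IsFF k K) (φ : ι → K) (P : FunFld.Place k K) :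
    FunFld.mapDiv k φ P = -Finset.univ.inf' Finset.univ_nonempty (fun i => P.ord (φ i)) := by
  have hfin : (Function.support fun P : FunFld.Place k K =>
      -Finset.univ.inf' Finset.univ_nonempty (fun i => P.ord (φ i))).Finite := by
    refine (Set.finite_iUnion fun i => H23Ext.finite_support hK (φ i)).subset fun R hR => ?_
    by_contra hno
    simp only [Set.mem_iUnion, Function.mem_support, not_exists, not_not] at hno
    exact hR (by simp [hno])
  rw [FunFld.mapDiv, dif_pos hfin]
  rfl

theorem mapDiv_algebraMap (hK : FunFld.IsFunctionField k K) (φ : ι → K) :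
    FunFld.mapDiv k (algebraMap K K' ∘ φ) = FunFld.conorm K' (FunFld.mapDiv k φ) := by
  ext Q
  obtain ⟨P, e, he⟩ := exists_below hK.1 Q
  rw [conorm_apply _ he (finite_isOver hK P), mapDiv_apply hK.1, mapDiv_apply (isFF_extension hK.1),
    mul_neg]
  refine congrArg Neg.neg (Eq.trans ?_ (Finset.apply_inf'_eq_inf'_comp Finset.univ_nonempty
    (f := fun i => P.ord (φ i)) (fun z : ℤ => (e : ℤ) * z)
      (fun a b => mul_min_of_nonneg _ _ (Int.natCast_nonneg e))).symm)
  congr 1
  funext i
  exact IsOverWith.ord_eq he (φ i)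

theorem deg_mapDiv_algebraMap (hK : FunFld.IsFunctionField k K) (φ : ι → K) :
    (FunFld.mapDiv k (algebraMap K K' ∘ φ)).deg = Module.finrank K K' * (FunFld.mapDiv k φ).deg := by
  rw [mapDiv_algebraMap hK, deg_conorm hK]

end Groth.Agent.H23Proj
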