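import Mathlib
import Groth.Prelude.Def_W4bk4goldsch45
import Groth.Agent.H23FunFld.Degree
import Groth.Agent.H23FunFld.Approx

/-!
Elementary facts about projective maps of a function field over an algebraically closed field.
-/

set_option autoImplicit false
set_option linter.style.haveILetI false

namespace Groth.Agent.H23Proj

open WithZero Groth.Agent.H23FunFld

variable {k K : Type*} [Field k] [Field K] [Algebra k K]

theorem eq_one_of_isAlgClosed [IsAlgClosed k] (hK : FunFld.IsFunctionField k K) (P : FunFld.Place k K)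
    {z : K} (hz : P.1 z ≤ 1) : ∃ c : k, P.1 (z - algebraMap k K c) < 1 := by
  haveI : @Module.Finite k (IsLocalRing.ResidueField P.O) _ _ Algebra.toModule :=
    finiteDimensional_residueField hK P
  haveI : Algebra.IsAlgebraic k (IsLocalRing.ResidueField P.O) := Algebra.IsAlgebraic.of_finite _ _
  obtain ⟨c, hc⟩ := (IsAlgClosed.algebraMap_bijective_of_isIntegral (k := k)).2
    (IsLocalRing.residue P.O ⟨z, hz⟩)
  refine ⟨c, ?_⟩
  have h0 : IsLocalRing.residue P.O (⟨z, hz⟩ - algebraMap k P.O c) = 0 := by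
    rw [map_sub, ← hc, sub_eq_zero]
    rfl
  rw [IsLocalRing.residue_eq_zero_iff, IsLocalRing.mem_maximalIdeal, mem_nonunits_iff] at h0
  have hmem : P.1 (z - algebraMap k K c) ≤ 1 := ((⟨z, hz⟩ : P.O) - algebraMap k P.O c).2
  exact lt_of_le_of_ne hmem fun h1 =>
    h0 ((Valuation.Integers.isUnit_iff_valuation_eq_one (Valuation.integer.integers P.1)).2 h1)

theorem deg_eq_one_of_isAlgClosed [IsAlgClosed k] (hK : FunFld.IsFunctionField k K) (P : FunFld.Place k K) :
    P.deg = 1 := by
  haveI : @Module.Finite k (IsLocalRing.ResidueField P.O) _ _ Algebra.toModule :=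
    finiteDimensional_residueField hK P
  haveI : Algebra.IsAlgebraic k (IsLocalRing.ResidueField P.O) := Algebra.IsAlgebraic.of_finite _ _
  exact (AlgEquiv.ofBijective (Algebra.ofId k (IsLocalRing.ResidueField P.O))
    (IsAlgClosed.algebraMap_bijective_of_isIntegral (k := k))).toLinearEquiv.finrank_eq.symm.trans
    (Module.finrank_self k)

/-- An entry of least order. -/
theorem exists_max {ι : Type*} [Finite ι] [Nonempty ι] (P : FunFld.Place k K) (φ : ι → K) :
    ∃ j, ∀ i, P.1 (φ i) ≤ P.1 (φ j) := Finite.exists_max fun i => P.1 (φ i)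

theorem max_ne_zero {ι : Type*} {P : FunFld.Place k K} {φ : ι → K} {j : ι}
    (hj : ∀ i, P.1 (φ i) ≤ P.1 (φ j)) {i : ι} (hi : φ i ≠ 0) : φ j ≠ 0 := fun h => by
  have := hj i
  rw [h, map_zero, le_zero_iff] at this
  exact hi ((Valuation.zero_iff _).1 this)

theorem val_ratio_le_one {ι : Type*} {P : FunFld.Place k K} {φ : ι → K} {j : ι} (h0 : φ j ≠ 0)
    (hj : ∀ i, P.1 (φ i) ≤ P.1 (φ j)) (i : ι) : P.1 (φ i / φ j) ≤ 1 := by
  rw [map_div₀, div_le_one₀ (zero_lt_iff.2 (val_ne_zero P h0))]
  exact hj i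

/-- The functions congruent to a constant modulo every member of a family of balls. -/
def congConst (P : FunFld.Place k K) (n : ℕ) : Subalgebra k K where
  carrier := {z | ∃ c : k, P.1 (z - algebraMap k K c) ≤ exp (-((n : ℤ) + 1))}
  mul_mem' := by
    rintro a b ⟨c, hc⟩ ⟨d, hd⟩
    refine ⟨c * d, ?_⟩
    have h1 : ∀ {u : K} {e : k}, P.1 (u - algebraMap k K e) ≤ exp (-((n : ℤ) + 1)) → P.1 u ≤ 1 := by
      intro u e h
      have h2 := P.1.map_add (u - algebraMap k K e) (algebraMap k K e)
      rw [sub_add_cancel] at h2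
      refine h2.trans (max_le (h.trans ?_) (P.2.1 e))
      rw [← exp_zero, exp_le_exp]; omega
    rw [map_mul, show a * b - algebraMap k K c * algebraMap k K d =
      a * (b - algebraMap k K d) + (a - algebraMap k K c) * algebraMap k K d by ring]
    refine (P.1.map_add _ _).trans (max_le ?_ ?_) <;> rw [map_mul]
    · exact (mul_le_of_le_one_left zero_le (h1 hc)).trans hd
    · exact (mul_le_of_le_one_right zero_le (P.2.1 d)).trans hc
  add_mem' := by
    rintro a b ⟨c, hc⟩ ⟨d, hd⟩
    refine ⟨c + d, ?_⟩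
    rw [map_add, add_sub_add_comm]
    exact (P.1.map_add _ _).trans (max_le hc hd)
  algebraMap_mem' c := ⟨c, by simp⟩

theorem mem_congConst {P : FunFld.Place k K} {n : ℕ} {z : K} :
    z ∈ congConst P n ↔ ∃ c : k, P.1 (z - algebraMap k K c) ≤ exp (-((n : ℤ) + 1)) := Iff.rfl

end Groth.Agent.H23Proj
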