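import Mathlib
import Groth.Agent.H23Ext.Over
import Groth.Agent.H23FunFld.Weil
import Groth.Agent.H23FunFld.Approx

/-!
A valuation ring of a function field is a localisation of a finitely generated algebra.
-/

set_option autoImplicit false

namespace Groth.Agent.H23Proj

open WithZero Groth.Agent.H23FunFld

variable {k K : Type*} [Field k] [Field K] [Algebra k K]

theorem exists_place_ne (hK : FunFld.IsFunctionField k K) (P : FunFld.Place k K) :
    ∃ Q : FunFld.Place k K, Q ≠ P := by
  obtain ⟨x, hx, -⟩ := hK.1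
  obtain ⟨Q₁, h₁⟩ := exists_place_lt_one hK hx
  obtain ⟨Q₂, h₂⟩ := exists_place_lt_one hK (x := x⁻¹) fun h => hx (by simpa using h.inv)
  by_contra hno
  simp only [not_exists, not_not] at hno
  rw [hno Q₁] at h₁
  rw [hno Q₂, map_inv₀] at h₂
  have h0 : P.1 x ≠ 0 := val_ne_zero P fun h => hx (h ▸ isAlgebraic_zero)
  exact absurd h₂ (not_lt.2 ((one_le_inv₀ (zero_lt_iff.2 h0)).2 h₁.le))

/-- `O_P` is a localisation of a finitely generated subalgebra. -/
theorem exists_fg_localization (hK : FunFld.IsFunctionField k K) (P : FunFld.Place k K) :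
    ∃ G : Finset K, (∀ a ∈ G, P.1 a ≤ 1) ∧ ∀ z : K, P.1 z ≤ 1 →
      ∃ u ∈ Algebra.adjoin k (G : Set K), ∃ w ∈ Algebra.adjoin k (G : Set K), P.1 w = 1 ∧ z * w = u := by
  classical
  obtain ⟨Q, hQP⟩ := exists_place_ne hK P
  obtain ⟨x, hxt, hxQ, hxR⟩ := Groth.Agent.H23Ext.exists_only_zero hK Q
  set y := x⁻¹
  set n := Q.ord x
  have hx0 : x ≠ 0 := fun h => hxt (h ▸ isAlgebraic_zero)
  have hy0 : y ≠ 0 := inv_ne_zero hx0
  let X : FunFld.Divisor k K := Finsupp.single Q n
  have hyL : y ∈ FunFld.L X := fun R => by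
    rw [val_le_exp_iff R hy0, ord_inv]
    rcases eq_or_ne R Q with rfl | hR
    · simp [X, n]
    · rw [Finsupp.single_eq_of_ne hR, neg_neg]
      exact hxR R hR
  have hdQ : (1 : ℤ) ≤ Q.deg := by have := deg_pos hK Q; omega
  have hdX : 1 ≤ X.deg := by
    rw [deg_single]
    nlinarith
  have hXP : X P = 0 := Finsupp.single_eq_of_ne hQP.symm
  let g : ℕ := FunFld.genus k K
  have hmono : ∀ {a b : ℕ}, a ≤ b → FunFld.L (a • X) ≤ FunFld.L (b • X) := fun {a b} hab =>
    L_mono (fun R => by
      simp only [Finsupp.smul_apply, nsmul_eq_mul]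
      refine mul_le_mul_of_nonneg_right (by exact_mod_cast hab) ?_
      rcases eq_or_ne R Q with rfl | hR
      · rw [Finsupp.single_eq_same]; exact hxQ.le
      · rw [Finsupp.single_eq_of_ne hR])
  have hdeg : ∀ m : ℕ, 2 * g ≤ m → 2 * (g : ℤ) - 1 ≤ (m • X).deg := fun m hm => by
    rw [deg_nsmul]
    nlinarith
  haveI : ∀ m : ℕ, FiniteDimensional k (FunFld.L (m • X)) := fun m => finiteDimensional_L hK _
  set m₀ := 2 * g + 1
  obtain ⟨s, hs⟩ := (IsNoetherian.noetherian (⊤ : Submodule k (FunFld.L (m₀ • X))))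
  set G : Finset K := insert y (s.image Subtype.val)
  set A := Algebra.adjoin k (G : Set K)
  have hbase : FunFld.L (m₀ • X) ≤ A.toSubmodule := fun z hz => by
    have : (⟨z, hz⟩ : FunFld.L (m₀ • X)) ∈ Submodule.span k (s : Set (FunFld.L (m₀ • X))) := by
      rw [hs]; trivial
    have h2 := Submodule.mem_map_of_mem (f := (FunFld.L (m₀ • X)).subtype) this
    rw [Submodule.map_span] at h2
    refine Submodule.span_le.2 ?_ h2
    rintro _ ⟨w, hw, rfl⟩
    exact Algebra.subset_adjoin (Finset.mem_insert_of_mem (Finset.mem_image_of_mem _ hw))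
  have hyA : y ∈ A := Algebra.subset_adjoin (Finset.mem_insert_self _ _)
  have hall : ∀ m : ℕ, FunFld.L (m • X) ≤ A.toSubmodule := by
    intro m
    induction m with
    | zero => exact (hmono (Nat.zero_le m₀)).trans hbase
    | succ m ih =>
      rcases le_or_gt (m + 1) m₀ with hm | hm
      · exact (hmono hm).trans hbase
      obtain ⟨p, rfl⟩ : ∃ p, m = p + 1 := ⟨m - 1, by omega⟩
      set B := (FunFld.L ((p + 1) • X)).map (LinearMap.mulLeft k y)
      have hinj : Function.Injective (LinearMap.mulLeft k y) := mul_right_injective₀ hy0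
      have hBle : B ≤ FunFld.L ((p + 2) • X) := by
        rintro _ ⟨w, hw, rfl⟩
        have := mul_mem_L hyL hw
        rwa [← succ_nsmul' X (p + 1)] at this
      have hinf : FunFld.L ((p + 1) • X) ⊓ B ≤ (FunFld.L (p • X)).map (LinearMap.mulLeft k y) := by
        rintro _ ⟨hz, w, hw, rfl⟩
        refine ⟨w, fun R => ?_, rfl⟩
        rcases eq_or_ne R Q with rfl | hR
        · rcases eq_or_ne w 0 with rfl | hw0
          · simp
          have h1 := hz R
          rw [LinearMap.mulLeft_apply, val_le_exp_iff R (mul_ne_zero hy0 hw0), ord_mul R hy0 hw0,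
            ord_inv] at h1
          rw [val_le_exp_iff R hw0]
          simp only [X, Finsupp.smul_apply, Finsupp.single_eq_same, nsmul_eq_mul, Nat.cast_add,
            Nat.cast_one] at h1 ⊢
          linarith
        · have h1 := hw R
          simp only [X, Finsupp.smul_apply, Finsupp.single_eq_of_ne hR, nsmul_zero] at h1 ⊢
          exact h1
      haveI : FiniteDimensional k B := inferInstance
      have hBdim : Module.finrank k B = FunFld.ell ((p + 1) • X) :=
        (Submodule.equivMapOfInjective _ hinj _).finrank_eq.symm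
      have h3 := Submodule.finrank_sup_add_finrank_inf_eq (FunFld.L ((p + 1) • X)) B
      have h4 : Module.finrank k (FunFld.L ((p + 1) • X) ⊓ B : Submodule k K) ≤ FunFld.ell (p • X) := by
        refine (Submodule.finrank_mono hinf).trans ?_
        exact (Submodule.equivMapOfInjective _ hinj _).finrank_eq.symm.le
      have e1 := ell_of_deg_large hK (hdeg (p + 2) (by omega))
      have e2 := ell_of_deg_large hK (hdeg (p + 1) (by omega))
      have e3 := ell_of_deg_large hK (hdeg p (by omega))
      simp only [deg_nsmul, Nat.cast_add, Nat.cast_ofNat, Nat.cast_one] at e1 e2 e3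
      have hsup : FunFld.L ((p + 1) • X) ⊔ B = FunFld.L ((p + 2) • X) := by
        refine Submodule.eq_of_le_of_finrank_le (sup_le (hmono (by omega)) hBle) ?_
        have h5 : (FunFld.ell ((p + 2) • X) : ℤ) ≤
            Module.finrank k (FunFld.L ((p + 1) • X) ⊔ B : Submodule k K) := by
          rw [hBdim] at h3
          change _ = FunFld.ell ((p + 1) • X) + FunFld.ell ((p + 1) • X) at h3
          push_cast at e1 e2 e3 ⊢
          linarith
        exact_mod_cast h5
      rw [show p + 1 + 1 = p + 2 from rfl, ← hsup]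
      refine sup_le ih ?_
      rintro _ ⟨w, hw, rfl⟩
      exact A.mul_mem hyA (ih hw)
  refine ⟨G, fun a ha => ?_, fun z hz => ?_⟩
  · rcases Finset.mem_insert.1 ha with rfl | ha
    · have := hyL P
      rwa [hXP, exp_zero] at this
    · obtain ⟨w, -, rfl⟩ := Finset.mem_image.1 ha
      have := w.2 P
      rwa [Finsupp.smul_apply, hXP, nsmul_zero, exp_zero] at this
  set N := poleDiv (k := k) z
  have hN0 : 0 ≤ N := poleDiv_nonneg hK z
  have hNP : N P = 0 := by
    rw [poleDiv_apply hK]
    rcases eq_or_ne z 0 with rfl | hz0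
    · simp [ord_zero]
    · have := (val_le_one_iff P hz0).1 hz; omega
  obtain ⟨m, hm⟩ : ∃ m : ℕ, 2 * (g : ℤ) - 1 + N.deg + P.deg ≤ m :=
    ⟨(2 * (g : ℤ) - 1 + N.deg + P.deg).toNat, Int.self_le_toNat _⟩
  set D := m • X - N
  have hD : 2 * (g : ℤ) - 1 ≤ (D - Finsupp.single P 1).deg := by
    rw [deg_sub, deg_sub, deg_nsmul, deg_single P, one_mul]
    have : (m : ℤ) ≤ m * X.deg := le_mul_of_one_le_right (Int.natCast_nonneg m) hdX
    omega
  have hDdeg : 2 * (g : ℤ) - 1 ≤ D.deg := by
    rw [deg_sub, deg_single P, one_mul] at hD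
    have := deg_pos hK P
    omega
  obtain ⟨w, hw, hw'⟩ : ∃ w ∈ FunFld.L D, w ∉ FunFld.L (D - Finsupp.single P 1) := by
    by_contra hcon
    simp only [not_exists, not_and, not_not] at hcon
    haveI := finiteDimensional_L hK (D - Finsupp.single P 1)
    have h1 : FunFld.ell D ≤ FunFld.ell (D - Finsupp.single P 1) := Submodule.finrank_mono hcon
    have e1 := ell_of_deg_large hK hDdeg
    have e2 := ell_of_deg_large hK hD
    rw [deg_sub, deg_single P, one_mul] at e2
    have := deg_pos hK P
    omega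
  have hDP : D P = 0 := by simp [D, hXP, hNP]
  have hwP : P.1 w = 1 := by
    by_contra hne
    refine hw' fun R => ?_
    rcases eq_or_ne R P with rfl | hR
    · have h1 := hw R
      rw [hDP, exp_zero] at h1
      rw [Finsupp.sub_apply, hDP, Finsupp.single_eq_same, zero_sub]
      simpa using pow_le_exp_of_lt_one (lt_of_le_of_ne h1 hne) 1
    · have h1 := hw R
      rwa [Finsupp.sub_apply, Finsupp.single_eq_of_ne hR, sub_zero]
  refine ⟨z * w, hall m ?_, w, hall m ?_, hwP, rfl⟩
  · have := mul_mem_L (mem_L_poleDiv hK z) hw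
    rwa [add_sub_cancel] at this
  · exact L_mono (sub_le_self _ hN0) hw

end Groth.Agent.H23Proj
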