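import Mathlib
import Groth.Agent.H23Proj.Basic
import Groth.Agent.H23Proj.Gens
import Groth.Agent.H23Curve.Basic

/-!
A linear system of large degree separating points and tangent vectors gives a nonsingular map.
-/

set_option autoImplicit false
set_option linter.style.haveILetI false

namespace Groth.Agent.H23Proj

open WithZero Groth.Agent.H23FunFld

variable {k K : Type*} [Field k] [Field K] [Algebra k K]

theorem mulLeft_map_le {C D : FunFld.Divisor k K} {x : K} (hx : x ∈ FunFld.L C) :
    (FunFld.L D).map (LinearMap.mulLeft k x) ≤ FunFld.L (C + D) := by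
  rintro _ ⟨w, hw, rfl⟩
  exact mul_mem_L hx hw

/-- The base point free pencil trick. -/
theorem pencil_trick (hK : FunFld.IsFunctionField k K) {E F : FunFld.Divisor k K} {s₁ s₂ : K}
    (h₁ : s₁ ∈ FunFld.L E) (h₂ : s₂ ∈ FunFld.L E) (hs₁ : s₁ ≠ 0) (hs₂ : s₂ ≠ 0)
    (hatt : ∀ R : FunFld.Place k K, R.1 s₁ = exp (E R) ∨ R.1 s₂ = exp (E R))
    (hnum : (FunFld.ell (F + E) : ℤ) + FunFld.ell (F - E) ≤ 2 * (FunFld.ell F : ℤ)) :
    FunFld.L (F + E) ≤
      (FunFld.L F).map (LinearMap.mulLeft k s₁) ⊔ (FunFld.L F).map (LinearMap.mulLeft k s₂) := by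
  haveI := finiteDimensional_L hK F
  haveI := finiteDimensional_L hK (F - E)
  haveI := finiteDimensional_L hK (F + E)
  set B₁ := (FunFld.L F).map (LinearMap.mulLeft k s₁)
  set B₂ := (FunFld.L F).map (LinearMap.mulLeft k s₂)
  have hinf : B₁ ⊓ B₂ ≤ (FunFld.L (F - E)).map (LinearMap.mulLeft k (s₁ * s₂)) := by
    rintro _ ⟨⟨a, ha, rfl⟩, b, hb, hab⟩
    simp only [LinearMap.mulLeft_apply] at hab ⊢
    refine ⟨a / s₂, fun R => ?_, by simp only [LinearMap.mulLeft_apply]; field_simp⟩
    rw [Finsupp.sub_apply, sub_eq_add_neg, exp_add, exp_neg, ← div_eq_mul_inv]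
    rcases hatt R with h | h
    · have e : a / s₂ = b / s₁ := by
        rw [div_eq_div_iff hs₂ hs₁]
        linear_combination -hab
      rw [e, map_div₀, h]
      exact div_le_div_of_nonneg_right (hb R) zero_le
    · rw [map_div₀, h]
      exact div_le_div_of_nonneg_right (ha R) zero_le
  have e₁ : Module.finrank k B₁ = FunFld.ell F :=
    (Submodule.equivMapOfInjective _ (mul_right_injective₀ hs₁) _).finrank_eq.symm
  have e₂ : Module.finrank k B₂ = FunFld.ell F :=
    (Submodule.equivMapOfInjective _ (mul_right_injective₀ hs₂) _).finrank_eq.symm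
  have h3 := Submodule.finrank_sup_add_finrank_inf_eq B₁ B₂
  have h4 : Module.finrank k (B₁ ⊓ B₂ : Submodule k K) ≤ FunFld.ell (F - E) :=
    (Submodule.finrank_mono hinf).trans
      (Submodule.equivMapOfInjective _ (mul_right_injective₀ (mul_ne_zero hs₁ hs₂)) _).finrank_eq.symm.le
  have hle : B₁ ⊔ B₂ ≤ FunFld.L (F + E) := by
    rw [add_comm F E]
    exact sup_le (mulLeft_map_le h₁) (mulLeft_map_le h₂)
  refine (Submodule.eq_of_le_of_finrank_le hle ?_).ge
  have : (FunFld.ell (F + E) : ℤ) ≤ Module.finrank k (B₁ ⊔ B₂ : Submodule k K) := by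
    rw [e₁, e₂] at h3
    omega
  exact_mod_cast this

/-- Nonsingularity from separation. -/
theorem isNonsingularAt_of_sep [IsAlgClosed k] (hK : FunFld.IsFunctionField k K)
    (D : FunFld.Divisor k K) (hdeg : 2 * (FunFld.genus k K : ℤ) - 2 ≤ D.deg) (hdeg1 : 1 ≤ D.deg)
    {ι : Type*} [Finite ι] (φ : ι → K) (hspan : Submodule.span k (Set.range φ) = FunFld.L D)
    (P : FunFld.Place k K)
    (hsep : ∀ Q : FunFld.Place k K, FunFld.ell (D - Finsupp.single P 1 - Finsupp.single Q 1) + 2 ≤ FunFld.ell D) :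
    FunFld.IsNonsingularAt φ P := by
  classical
  have h1deg := deg_eq_one_of_isAlgClosed hK
  have hstep : ∀ (E : FunFld.Divisor k K) (R : FunFld.Place k K),
      FunFld.ell E ≤ FunFld.ell (E - Finsupp.single R 1) + 1 := fun E R => by
    have h := Groth.Agent.H23Curve.ell_le_succ hK (h1deg R) (E - Finsupp.single R 1)
    rwa [sub_add_cancel] at h
  -- the entry of least order
  obtain ⟨v, hv, hv'⟩ : ∃ v ∈ FunFld.L D, v ∉ FunFld.L (D - Finsupp.single P 1) := by
    by_contra hcon
    simp only [not_exists, not_and, not_not] at hcon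
    haveI := finiteDimensional_L hK (D - Finsupp.single P 1)
    have h1 : FunFld.ell D ≤ FunFld.ell (D - Finsupp.single P 1) := Submodule.finrank_mono hcon
    have h2 := hstep (D - Finsupp.single P 1) P
    have := hsep P
    omega
  haveI : Nonempty ι := by
    by_contra hemp
    rw [not_nonempty_iff] at hemp
    rw [← hspan, Set.range_eq_empty, Submodule.span_empty, Submodule.mem_bot] at hv
    exact hv' (hv ▸ zero_mem _)
  obtain ⟨j, hj⟩ := exists_max P φ
  have hjmax : ∀ z ∈ FunFld.L D, P.1 z ≤ P.1 (φ j) := by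
    rw [← hspan]
    intro z hz
    induction hz using Submodule.span_induction with
    | mem x hx => obtain ⟨i, rfl⟩ := hx; exact hj i
    | zero => rw [map_zero]; exact zero_le
    | add x y _ _ hx hy => exact (P.1.map_add x y).trans (max_le hx hy)
    | smul c x _ hx => exact (val_smul_le P c x).trans hx
  have hjD : φ j ∈ FunFld.L D := hspan ▸ Submodule.subset_span ⟨j, rfl⟩
  have hPj : P.1 (φ j) = exp (D P) := by
    refine le_antisymm (hjD P) (not_lt.1 fun hlt => hv' fun R => ?_)
    rcases eq_or_ne R P with rfl | hR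
    · rw [Finsupp.sub_apply, Finsupp.single_eq_same]
      have hvlt := (hjmax v hv).trans_lt hlt
      rcases eq_or_ne v 0 with rfl | hv0
      · simp
      rw [val_eq_exp R hv0, exp_lt_exp] at hvlt
      rw [val_le_exp_iff R hv0]
      omega
    · rw [Finsupp.sub_apply, Finsupp.single_eq_of_ne hR, sub_zero]
      exact hv R
  have hj0 : φ j ≠ 0 := fun h => exp_ne_zero (by rw [← hPj, h, map_zero])
  set D' := D + FunFld.div k (φ j)
  have hdd : FunFld.div k (φ j) P = -D P := by
    rw [div_apply hK, FunFld.Place.ord, hPj, log_exp]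
  have hD'P : D' P = 0 := by simp [D', hdd]
  have hshift : ∀ E : FunFld.Divisor k K, FunFld.ell (E + FunFld.div k (φ j)) = FunFld.ell E :=
    fun E => ell_eq_of_eq_add_div hK hj0
  have hsep' : ∀ Q : FunFld.Place k K,
      FunFld.ell (D' - Finsupp.single P 1 - Finsupp.single Q 1) + 2 ≤ FunFld.ell D' := fun Q => by
    rw [show D' - Finsupp.single P 1 - Finsupp.single Q 1 =
      (D - Finsupp.single P 1 - Finsupp.single Q 1) + FunFld.div k (φ j) by simp only [D']; abel,
      hshift, hshift]
    exact hsep Q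
  have hdeg' : D'.deg = D.deg := by rw [deg_add, deg_div hK, add_zero]
  set A := Algebra.adjoin k (Set.range fun i => φ i / φ j)
  have hVA : FunFld.L D' ≤ A.toSubmodule := by
    intro z hz
    have hz' : z * φ j ∈ FunFld.L D := fun R => by
      rw [map_mul, val_eq_exp R hj0]
      refine (mul_le_mul' (hz R) le_rfl).trans (le_of_eq ?_)
      rw [← exp_add, Finsupp.add_apply, div_apply hK]
      congr 1; ring
    rw [← hspan] at hz'
    have key : ∀ w ∈ Submodule.span k (Set.range φ), w / φ j ∈ A := fun w hw => by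
      induction hw using Submodule.span_induction with
      | mem x hx => obtain ⟨i, rfl⟩ := hx; exact Algebra.subset_adjoin ⟨i, rfl⟩
      | zero => rw [zero_div]; exact A.zero_mem
      | add x y _ _ hx hy => rw [add_div]; exact A.add_mem hx hy
      | smul c x _ hx => rw [smul_div_assoc]; exact A.smul_mem hx c
    simpa [hj0] using key _ hz'
  have hAO : ∀ a ∈ A, P.1 a ≤ 1 := fun a ha =>
    Algebra.adjoin_le (S := ({ P.O.toSubring with algebraMap_mem' := fun c => P.2.1 c } : Subalgebra k K))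
      (Set.range_subset_iff.2 (val_ratio_le_one hj0 hj)) ha
  -- the pencil
  set E := D' - Finsupp.single P 1
  have hEell : FunFld.ell D' ≤ FunFld.ell E + 1 := hstep D' P
  haveI := finiteDimensional_L hK E
  obtain ⟨s₁, hs₁, hs₁0⟩ : ∃ s ∈ FunFld.L E, s ≠ 0 := by
    by_contra hcon
    simp only [not_exists, not_and, not_not] at hcon
    have h0 : FunFld.L E = ⊥ := (Submodule.eq_bot_iff _).2 hcon
    have h1 : FunFld.ell E = 0 := by rw [FunFld.ell, h0, finrank_bot]
    have := hsep' P
    omega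
  let bad : Set (FunFld.Place k K) := {R | R.1 s₁ ≠ exp (E R)}
  have hbad : bad.Finite := by
    refine (((Groth.Agent.H23Ext.finite_support hK.1 s₁).union E.support.finite_toSet)).subset fun R hR => ?_
    by_contra hno
    simp only [Set.mem_union, Function.mem_support, Finset.mem_coe, Finsupp.mem_support_iff, not_or,
      not_not] at hno
    exact hR (by rw [val_eq_exp R hs₁0, hno.1, hno.2, neg_zero])
  haveI : Finite bad := hbad
  let p : Option bad → Submodule k (FunFld.L E) := fun o =>
    o.elim ⊥ fun R => (FunFld.L (E - Finsupp.single (R : FunFld.Place k K) 1)).comap (FunFld.L E).subtype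
  have hp : ∀ o, p o ≠ ⊤ := by
    rintro (_ | R) htop
    · have : (⟨s₁, hs₁⟩ : FunFld.L E) ∈ p none := htop ▸ Submodule.mem_top
      exact hs₁0 (congrArg Subtype.val ((Submodule.mem_bot k).1 this))
    · have hle : FunFld.L E ≤ FunFld.L (E - Finsupp.single (R : FunFld.Place k K) 1) :=
        fun z hz => (htop ▸ Submodule.mem_top : (⟨z, hz⟩ : FunFld.L E) ∈ p (some R))
      haveI := finiteDimensional_L hK (E - Finsupp.single (R : FunFld.Place k K) 1)
      have h1 : FunFld.ell E ≤ FunFld.ell (E - Finsupp.single (R : FunFld.Place k K) 1) :=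
        Submodule.finrank_mono hle
      have := hsep' R
      omega
  obtain ⟨⟨s₂, hs₂⟩, hs₂'⟩ := Submodule.exists_forall_notMem_of_forall_ne_top p hp
  have hs₂0 : s₂ ≠ 0 := fun h => hs₂' none ((Submodule.mem_bot k).2 (Subtype.ext h))
  have hatt : ∀ R : FunFld.Place k K, R.1 s₁ = exp (E R) ∨ R.1 s₂ = exp (E R) := by
    intro R
    by_contra hcon
    rw [not_or] at hcon
    refine hs₂' (some ⟨R, hcon.1⟩) fun S => ?_
    rw [Finsupp.sub_apply]
    rcases eq_or_ne S R with rfl | hS
    · rw [Finsupp.single_eq_same]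
      have h1 := lt_of_le_of_ne (hs₂ S) hcon.2
      change S.1 s₂ ≤ _
      rw [val_eq_exp S hs₂0, exp_lt_exp] at h1
      rw [val_le_exp_iff S hs₂0]
      omega
    · rw [Finsupp.single_eq_of_ne hS, sub_zero]
      exact hs₂ S
  have hEdeg : E.deg = D.deg - 1 := by rw [deg_sub, deg_single P, one_mul, h1deg P, hdeg']; simp
  have hEP : E P = -1 := by simp [E, hD'P]
  have hstepL : ∀ m : ℕ, 2 ≤ m → ∀ b ∈ FunFld.L ((m + 1) • D'), ∃ (c : k) (a₁ a₂ : K),
      a₁ ∈ FunFld.L (m • D') ∧ a₂ ∈ FunFld.L (m • D') ∧ b = algebraMap k K c + s₁ * a₁ + s₂ * a₂ := by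
    intro m hm b hb
    have hbO : P.1 b ≤ 1 := by simpa [hD'P] using hb P
    obtain ⟨c, hc⟩ := eq_one_of_isAlgClosed hK P hbO
    have hb' : b - algebraMap k K c ∈ FunFld.L (m • D' + E) := fun R => by
      have hRE : (m • D' + E) R = ((m + 1) • D') R - Finsupp.single P 1 R := by
        simp [E, succ_nsmul]; ring
      rw [hRE]
      rcases eq_or_ne R P with rfl | hR
      · rw [Finsupp.single_eq_same, Finsupp.smul_apply, hD'P, nsmul_zero, zero_sub]
        simpa using pow_le_exp_of_lt_one hc 1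
      · rw [Finsupp.single_eq_of_ne hR, sub_zero]
        refine (R.1.map_sub _ _).trans (max_le (hb R) ((R.2.1 c).trans ?_))
        rw [← exp_zero, exp_le_exp, Finsupp.smul_apply, nsmul_eq_mul]
        refine mul_nonneg (Nat.cast_nonneg _) ?_
        have h1 := hjD R
        rw [val_le_exp_iff R hj0] at h1
        rw [Finsupp.add_apply, div_apply hK]
        linarith
    have hnum : (FunFld.ell (m • D' + E) : ℤ) + FunFld.ell (m • D' - E) ≤
        2 * (FunFld.ell (m • D') : ℤ) := by
      have h2m : 2 * D.deg ≤ (m : ℤ) * D.deg :=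
        mul_le_mul_of_nonneg_right (by exact_mod_cast hm) (by omega)
      rw [ell_of_deg_large hK (by rw [deg_add (m • D') E, deg_nsmul, hdeg', hEdeg]; omega),
        ell_of_deg_large hK (by rw [deg_sub (m • D') E, deg_nsmul, hdeg', hEdeg]; omega),
        ell_of_deg_large hK (by rw [deg_nsmul, hdeg']; omega), deg_add (m • D') E, deg_sub (m • D') E,
        deg_nsmul, hdeg', hEdeg]
      omega
    have h3 := pencil_trick hK hs₁ hs₂ hs₁0 hs₂0 hatt hnum hb'
    obtain ⟨_, ⟨a₁, ha₁, rfl⟩, _, ⟨a₂, ha₂, rfl⟩, he⟩ := Submodule.mem_sup.1 h3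
    refine ⟨c, a₁, a₂, ha₁, ha₂, ?_⟩
    simp only [LinearMap.mulLeft_apply] at he
    rw [add_assoc, he]; ring
  -- the local ring
  let R₀ : Subalgebra k K :=
    { carrier := {z | ∃ u ∈ A, ∃ w ∈ A, P.1 w = 1 ∧ z * w = u}
      mul_mem' := by
        rintro a b ⟨u, hu, w, hw, hw1, e⟩ ⟨u', hu', w', hw', hw1', e'⟩
        exact ⟨u * u', A.mul_mem hu hu', w * w', A.mul_mem hw hw', by rw [map_mul, hw1, hw1', one_mul],
          by rw [← e, ← e']; ring⟩
      add_mem' := by
        rintro a b ⟨u, hu, w, hw, hw1, e⟩ ⟨u', hu', w', hw', hw1', e'⟩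
        exact ⟨u * w' + u' * w, A.add_mem (A.mul_mem hu hw') (A.mul_mem hu' hw), w * w',
          A.mul_mem hw hw', by rw [map_mul, hw1, hw1', one_mul], by rw [← e, ← e']; ring⟩
      algebraMap_mem' := fun c => ⟨_, A.algebraMap_mem c, 1, A.one_mem, map_one _, mul_one _⟩ }
  have hAR : A ≤ R₀ := fun a ha => ⟨a, ha, 1, A.one_mem, map_one _, mul_one _⟩
  have hsA : s₁ ∈ A ∧ s₂ ∈ A := by
    have hED : E ≤ D' := sub_le_self _ (Finsupp.single_nonneg.2 zero_le_one)
    exact ⟨hVA (L_mono hED hs₁), hVA (L_mono hED hs₂)⟩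
  have hD'0 : 0 ≤ D' := fun R => by
    have h1 := (val_le_exp_iff R hj0).1 (hjD R)
    simp only [D', Finsupp.add_apply, div_apply hK, Finsupp.coe_zero, Pi.zero_apply]
    linarith
  -- Nakayama on `L(2 D')`
  have htwo : FunFld.L (2 • D') ≤ R₀.toSubmodule := by
    haveI := finiteDimensional_L hK (2 • D')
    let β := Module.finBasis k (FunFld.L (2 • D'))
    set N := Module.finrank k (FunFld.L (2 • D'))
    have hex : ∀ i, ∃ (c : k) (M : Fin N → K), (∀ l, M l ∈ A ∧ P.1 (M l) < 1) ∧
        ((β i : FunFld.L (2 • D')) : K) = algebraMap k K c + ∑ l, M l * ((β l : FunFld.L (2 • D')) : K) := by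
      intro i
      obtain ⟨c, a₁, a₂, ha₁, ha₂, e⟩ := hstepL 2 le_rfl _
        (L_mono (nsmul_le_nsmul_left hD'0 (by omega : 2 ≤ 2 + 1)) (β i).2)
      refine ⟨c, fun l => β.repr ⟨a₁, ha₁⟩ l • s₁ + β.repr ⟨a₂, ha₂⟩ l • s₂, fun l => ⟨?_, ?_⟩, ?_⟩
      · exact A.add_mem (A.smul_mem hsA.1 _) (A.smul_mem hsA.2 _)
      · have hlt : ∀ {s : K}, s ∈ FunFld.L E → P.1 s < 1 := fun {s} hs => by
          refine (hs P).trans_lt ?_
          rw [hEP, ← exp_zero, exp_lt_exp]; omega
        exact (P.1.map_add _ _).trans_lt (max_lt ((val_smul_le P _ _).trans_lt (hlt hs₁))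
          ((val_smul_le P _ _).trans_lt (hlt hs₂)))
      · have he : ∀ (a : K) (ha : a ∈ FunFld.L (2 • D')),
            a = ∑ l, β.repr ⟨a, ha⟩ l • ((β l : FunFld.L (2 • D')) : K) := fun a ha => by
          have h := congrArg Subtype.val (β.sum_repr ⟨a, ha⟩)
          rw [Submodule.coe_sum] at h
          exact h.symm
        rw [e]
        conv_lhs => rw [he a₁ ha₁, he a₂ ha₂]
        rw [add_assoc, Finset.mul_sum, Finset.mul_sum, ← Finset.sum_add_distrib]
        congr 1
        refine Finset.sum_congr rfl fun l _ => ?_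
        simp only [Algebra.smul_def]; ring
    choose c M hM hMeq using hex
    let Mm : Matrix (Fin N) (Fin N) A := fun i l => ⟨M i l, (hM i l).1⟩
    let W : Matrix (Fin N) (Fin N) K := (1 - Mm).map A.val
    have hW : W.mulVec (fun l => ((β l : FunFld.L (2 • D')) : K)) = fun i => algebraMap k K (c i) := by
      funext i
      have hW' : W = 1 - Matrix.of (fun i l => M i l) := by
        ext a b
        simp [W, Mm, Matrix.map_apply, Matrix.one_apply, apply_ite]
      rw [hW', Matrix.sub_mulVec, Matrix.one_mulVec]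
      simp only [Pi.sub_apply, Matrix.mulVec, dotProduct, Matrix.of_apply]
      rw [hMeq i, add_sub_cancel_right]
    have hdet : W.det = ((1 - Mm).det : K) := (RingHom.map_det A.val.toRingHom _).symm
    have hdet1 : P.1 ((1 - Mm).det : K) = 1 := by
      let ιA : A →+* P.O := A.val.toRingHom.codRestrict P.O fun a => hAO a a.2
      let ρ : A →+* IsLocalRing.ResidueField P.O := (IsLocalRing.residue P.O).comp ιA
      have h0 : ρ ((1 - Mm).det) = 1 := by
        rw [RingHom.map_det]
        have : ρ.mapMatrix (1 - Mm) = 1 := by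
          rw [map_sub, map_one]
          refine sub_eq_self.2 ?_
          ext a b
          refine (IsLocalRing.residue_eq_zero_iff _).2 ?_
          rw [IsLocalRing.mem_maximalIdeal, mem_nonunits_iff]
          intro hu
          exact (hM a b).2.ne ((Valuation.Integers.isUnit_iff_valuation_eq_one
            (Valuation.integer.integers P.1)).1 hu)
        rw [this, Matrix.det_one]
      have hu : IsUnit (ιA (1 - Mm).det) := by
        by_contra hnu
        have := (IsLocalRing.residue_eq_zero_iff (ιA (1 - Mm).det)).2 hnu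
        exact one_ne_zero (h0.symm.trans this)
      exact (Valuation.Integers.isUnit_iff_valuation_eq_one (Valuation.integer.integers P.1)).1 hu
    have hgen : ∀ i, ((β i : FunFld.L (2 • D')) : K) ∈ R₀ := by
      intro i
      refine ⟨((Matrix.adjugate (1 - Mm)).mulVec (fun l => algebraMap k A (c l)) i : A), SetLike.coe_mem _,
        ((1 - Mm).det : K), SetLike.coe_mem _, hdet1, ?_⟩
      have h1 := congrArg (fun u => (Matrix.adjugate W).mulVec u i) hW
      simp only [Matrix.mulVec_mulVec, Matrix.adjugate_mul, Matrix.smul_mulVec, Matrix.one_mulVec,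
        Pi.smul_apply, smul_eq_mul] at h1
      rw [hdet, mul_comm] at h1
      rw [h1, show (Matrix.adjugate W) = (Matrix.adjugate (1 - Mm)).map A.val from
        (RingHom.map_adjugate A.val.toRingHom _).symm]
      simp only [Matrix.mulVec, dotProduct, Matrix.map_apply, AddSubmonoidClass.coe_finsetSum,
        MulMemClass.coe_mul]
      rfl
    intro z hz
    have h := congrArg Subtype.val (β.sum_repr ⟨z, hz⟩)
    rw [Submodule.coe_sum] at h
    rw [show z = _ from h.symm]
    exact Submodule.sum_mem _ fun l _ => Submodule.smul_mem _ _ (hgen l)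
  have hall : ∀ m : ℕ, FunFld.L (m • D') ≤ R₀.toSubmodule := by
    intro m
    induction m with
    | zero => exact (L_mono (nsmul_le_nsmul_left hD'0 (Nat.zero_le 2))).trans htwo
    | succ m ih =>
      rcases le_or_gt 2 m with hm | hm
      · intro b hb
        obtain ⟨c, a₁, a₂, ha₁, ha₂, rfl⟩ := hstepL m hm b hb
        exact R₀.add_mem (R₀.add_mem (R₀.algebraMap_mem c) (R₀.mul_mem (hAR hsA.1) (ih ha₁)))
          (R₀.mul_mem (hAR hsA.2) (ih ha₂))
      · exact (L_mono (nsmul_le_nsmul_left hD'0 (by omega))).trans htwo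
  intro z hz
  set N := poleDiv (k := k) z
  have hNP : N P = 0 := by
    rw [poleDiv_apply hK]
    rcases eq_or_ne z 0 with rfl | hz0
    · simp [ord_zero]
    · have := (val_le_one_iff P hz0).1 hz; omega
  obtain ⟨m, hm⟩ : ∃ m : ℕ, 2 * (FunFld.genus k K : ℤ) + N.deg + 1 ≤ m :=
    ⟨(2 * (FunFld.genus k K : ℤ) + N.deg + 1).toNat, Int.self_le_toNat _⟩
  set F := m • D' - N
  have hFdeg : 2 * (FunFld.genus k K : ℤ) ≤ F.deg := by
    rw [deg_sub, deg_nsmul, hdeg']
    have : (m : ℤ) ≤ m * D.deg := le_mul_of_one_le_right (Int.natCast_nonneg m) hdeg1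
    omega
  obtain ⟨w, hw, hw'⟩ : ∃ w ∈ FunFld.L F, w ∉ FunFld.L (F - Finsupp.single P 1) := by
    by_contra hcon
    simp only [not_exists, not_and, not_not] at hcon
    haveI := finiteDimensional_L hK (F - Finsupp.single P 1)
    have h1 : FunFld.ell F ≤ FunFld.ell (F - Finsupp.single P 1) := Submodule.finrank_mono hcon
    have e1 := ell_of_deg_large hK (D := F) (by omega)
    have e2 := ell_of_deg_large hK (D := F - Finsupp.single P 1) (by
      rw [deg_sub, deg_single P, one_mul, h1deg P]; omega)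
    rw [deg_sub, deg_single P, one_mul, h1deg P] at e2
    omega
  have hFP : F P = 0 := by simp [F, hD'P, hNP]
  have hwP : P.1 w = 1 := by
    by_contra hne
    refine hw' fun S => ?_
    rcases eq_or_ne S P with rfl | hS
    · have h1 := hw S
      rw [hFP, exp_zero] at h1
      rw [Finsupp.sub_apply, hFP, Finsupp.single_eq_same, zero_sub]
      simpa using pow_le_exp_of_lt_one (lt_of_le_of_ne h1 hne) 1
    · have h1 := hw S
      rwa [Finsupp.sub_apply, Finsupp.single_eq_of_ne hS, sub_zero]
  have hzw : z * w ∈ FunFld.L (m • D') := by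
    have := mul_mem_L (mem_L_poleDiv hK z) hw
    rwa [add_sub_cancel] at this
  obtain ⟨u, hu, v₁, hv₁, hv1, e⟩ := hall m hzw
  obtain ⟨u', hu', v₂, hv₂, hv2, e'⟩ := hall m (L_mono (sub_le_self _ (poleDiv_nonneg hK z)) hw)
  refine ⟨j, hj0, hj, u * v₂, A.mul_mem hu hv₂, u' * v₁, A.mul_mem hu' hv₁, ?_, ?_⟩
  · rw [map_mul, hv1, mul_one, ← e', map_mul, hwP, hv2, one_mul]
  · rw [← e, ← e']; ring

end Groth.Agent.H23Proj
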