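import Mathlib
import Groth.Agent.H23Proj.Conorm
import Groth.Agent.H23Proj.Embed

/-!
Powers of the linear system of a birational effective projective map.
-/

set_option autoImplicit false
set_option linter.style.haveILetI false
set_option linter.unusedSectionVars false

namespace Groth.Agent.H23Proj

open WithZero Groth.Agent.H23FunFld

variable {k K : Type*} [Field k] [Field K] [Algebra k K] {ι : Type*} [Fintype ι] [Nonempty ι] {φ : ι → K}

local notation "V" => Submodule.span k (Set.range φ)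
local notation "DD" => FunFld.mapDiv k φ

theorem one_mem_V {i₀ : ι} (h₀ : φ i₀ = 1) : (1 : K) ∈ V := h₀ ▸ Submodule.subset_span ⟨i₀, rfl⟩

theorem V_pow_mono {i₀ : ι} (h₀ : φ i₀ = 1) {a b : ℕ} (h : a ≤ b) : V ^ a ≤ V ^ b := by
  obtain ⟨c, rfl⟩ := Nat.exists_eq_add_of_le h
  induction c with
  | zero => exact le_rfl
  | succ c ih =>
    refine (ih (Nat.le_add_right a c)).trans fun v hv => ?_
    rw [← add_assoc, pow_succ]
    have := Submodule.mul_mem_mul hv (one_mem_V (k := k) h₀)
    rwa [mul_one] at this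

theorem mul_mem_V {a b : ℕ} {u v : K} (hu : u ∈ V ^ a) (hv : v ∈ V ^ b) : u * v ∈ V ^ (a + b) := by
  rw [pow_add]; exact Submodule.mul_mem_mul hu hv

/-- Elements of `k[φ/s]` become elements of a power of the span after multiplying by a power of `s`. -/
theorem exists_pow_mul_mem {s : K} (hs : s ∈ V) (hs0 : s ≠ 0) {a : K}
    (ha : a ∈ Algebra.adjoin k (Set.range fun i => φ i / s)) : ∃ n : ℕ, a * s ^ n ∈ V ^ n := by
  induction ha using Algebra.adjoin_induction with
  | mem x hx =>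
    obtain ⟨i, rfl⟩ := hx
    refine ⟨1, ?_⟩
    rw [pow_one, pow_one]
    simpa [hs0] using Submodule.subset_span (R := k) (Set.mem_range_self (f := φ) i)
  | algebraMap c =>
    refine ⟨0, ?_⟩
    rw [pow_zero, pow_zero, mul_one]
    exact Submodule.mem_one.2 ⟨c, rfl⟩
  | add x y _ _ hx hy =>
    obtain ⟨n, hn⟩ := hx
    obtain ⟨m, hm⟩ := hy
    refine ⟨n + m, ?_⟩
    have hpow : ∀ l, s ^ l ∈ V ^ l := fun l => Submodule.pow_mem_pow _ hs l
    rw [add_mul]
    refine add_mem ?_ ?_
    · rw [pow_add s, ← mul_assoc]; exact mul_mem_V hn (hpow m)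
    · rw [add_comm n m, pow_add s, ← mul_assoc]; exact mul_mem_V hm (hpow n)
  | mul x y _ _ hx hy =>
    obtain ⟨n, hn⟩ := hx
    obtain ⟨m, hm⟩ := hy
    refine ⟨n + m, ?_⟩
    rw [show x * y * s ^ (n + m) = x * s ^ n * (y * s ^ m) by ring]
    exact mul_mem_V hn hm

/-- Elements of a power of the span, divided by the same power of an entry, lie in `k[φ/φⱼ]`. -/
theorem div_pow_mem (j : ι) {n : ℕ} {v : K} (hv : v ∈ V ^ n) :
    v / φ j ^ n ∈ Algebra.adjoin k (Set.range fun i => φ i / φ j) := by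
  induction n generalizing v with
  | zero =>
    obtain ⟨c, rfl⟩ := Submodule.mem_one.1 (by simpa using hv)
    rw [pow_zero, div_one]
    exact Subalgebra.algebraMap_mem _ c
  | succ n ih =>
    rw [pow_succ] at hv
    refine Submodule.mul_induction_on hv (fun a ha b hb => ?_) (fun x y hx hy => ?_)
    · rw [pow_succ, mul_div_mul_comm]
      refine Subalgebra.mul_mem _ (ih ha) ?_
      induction hb using Submodule.span_induction with
      | mem x hx => obtain ⟨i, rfl⟩ := hx; exact Algebra.subset_adjoin ⟨i, rfl⟩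
      | zero => rw [zero_div]; exact zero_mem _
      | add x y _ _ hx hy => rw [add_div]; exact add_mem hx hy
      | smul c x _ hx => rw [smul_div_assoc]; exact Subalgebra.smul_mem _ hx c
    · rw [add_div]; exact add_mem hx hy

variable (hK : FunFld.IsFunctionField k K)
include hK

theorem val_entry_le (Q : FunFld.Place k K) (i : ι) (hi : φ i ≠ 0) : Q.1 (φ i) ≤ exp (DD Q) := by
  rw [val_le_exp_iff Q hi, mapDiv_apply hK.1]
  exact neg_le_neg (Finset.inf'_le (fun i => Q.ord (φ i)) (Finset.mem_univ i))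

theorem exists_attain (hne : ∀ i, φ i ≠ 0) (Q : FunFld.Place k K) : ∃ j, Q.1 (φ j) = exp (DD Q) := by
  obtain ⟨j, -, hj⟩ := Finset.exists_mem_eq_inf' Finset.univ_nonempty (fun i => Q.ord (φ i))
  exact ⟨j, by rw [val_eq_exp Q (hne j), mapDiv_apply hK.1, hj]⟩

theorem V_le_L (hne : ∀ i, φ i ≠ 0) : V ≤ FunFld.L DD :=
  Submodule.span_le.2 (Set.range_subset_iff.2 fun i Q => val_entry_le hK Q i (hne i))

theorem V_pow_le_L (hne : ∀ i, φ i ≠ 0) (n : ℕ) : V ^ n ≤ FunFld.L (n • DD) := by
  induction n with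
  | zero =>
    intro v hv
    obtain ⟨c, rfl⟩ := Submodule.mem_one.1 (by simpa using hv)
    intro R
    simpa using R.2.1 c
  | succ n ih =>
    rw [pow_succ, succ_nsmul]
    exact Submodule.mul_le.2 fun a ha b hb => mul_mem_L (ih ha) (V_le_L hK hne hb)

variable {i₀ : ι} (h₀ : φ i₀ = 1) (hne : ∀ i, φ i ≠ 0)
include h₀

theorem DD_nonneg : (0 : FunFld.Divisor k K) ≤ DD := fun Q => by
  have h := val_entry_le (φ := φ) hK Q i₀ (by rw [h₀]; exact one_ne_zero)
  rw [h₀, map_one, ← exp_zero, exp_le_exp] at h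
  exact h

variable (hgen : IntermediateField.adjoin k (Set.range φ) = ⊤)
include hne hgen

theorem one_le_deg : 1 ≤ (DD).deg := by
  by_contra hlt
  have h := deg_nonneg_lt hK (DD_nonneg hK h₀) (by omega)
  obtain ⟨x, hx, -⟩ := hK.1
  have hall : IntermediateField.adjoin k (Set.range φ) ≤ ⊥ := by
    rw [IntermediateField.adjoin_le_iff]
    rintro _ ⟨i, rfl⟩
    have h1 : φ i ∈ FunFld.L (0 : FunFld.Divisor k K) := h ▸ V_le_L hK hne (Submodule.subset_span ⟨i, rfl⟩)
    rw [L_zero hK] at h1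
    obtain ⟨c, hc⟩ := Submodule.mem_one.1 h1
    exact IntermediateField.mem_bot.2 ⟨c, hc⟩
  rw [hgen] at hall
  obtain ⟨c, hc⟩ := IntermediateField.mem_bot.1 (hall (IntermediateField.mem_top : x ∈ ⊤))
  exact hx (hc ▸ isAlgebraic_algebraMap c)

theorem nsmul_DD_mono {a b : ℕ} (hab : a ≤ b) : FunFld.L (a • DD) ≤ FunFld.L (b • DD) :=
  L_mono (nsmul_le_nsmul_left (DD_nonneg hK h₀) hab)

variable [IsAlgClosed k]

/-- A member of the span attaining the bound at every pole of the system. -/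
theorem exists_s : ∃ s ∈ V, s ≠ 0 ∧ ∀ Q : FunFld.Place k K, Q.1 (1 : K) = exp (DD Q) ∨ Q.1 s = exp (DD Q) := by
  classical
  let p : Option (DD).support → Submodule k (V : Submodule k K) := fun o =>
    o.elim ⊥ fun Q => (FunFld.L (DD - Finsupp.single (Q : FunFld.Place k K) 1)).comap (V : Submodule k K).subtype
  have hp : ∀ o, p o ≠ ⊤ := by
    rintro (_ | Q) htop
    · have : (⟨1, one_mem_V h₀⟩ : (V : Submodule k K)) ∈ p none := htop ▸ Submodule.mem_top
      exact one_ne_zero (congrArg Subtype.val ((Submodule.mem_bot k).1 this))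
    · obtain ⟨j, hj⟩ := exists_attain hK hne (Q : FunFld.Place k K)
      have : (⟨φ j, Submodule.subset_span ⟨j, rfl⟩⟩ : (V : Submodule k K)) ∈ p (some Q) :=
        htop ▸ Submodule.mem_top
      have h0 : φ j ∈ FunFld.L (DD - Finsupp.single (Q : FunFld.Place k K) 1) := this
      have h1 : (Q : FunFld.Place k K).1 (φ j) ≤ exp ((DD - Finsupp.single (Q : FunFld.Place k K) 1 : FunFld.Divisor k K) (Q : FunFld.Place k K)) := h0 Q
      rw [hj, Finsupp.sub_apply, Finsupp.single_eq_same, exp_le_exp] at h1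
      omega
  obtain ⟨⟨s, hs⟩, hs'⟩ := Submodule.exists_forall_notMem_of_forall_ne_top p hp
  have hs0 : s ≠ 0 := fun h => hs' none ((Submodule.mem_bot k).2 (Subtype.ext h))
  refine ⟨s, hs, hs0, fun Q => ?_⟩
  by_cases hQ : DD Q = 0
  · left; rw [hQ, map_one, exp_zero]
  right
  by_contra hne'
  refine hs' (some ⟨Q, Finsupp.mem_support_iff.2 hQ⟩) fun S => ?_
  change S.1 s ≤ _
  rw [Finsupp.sub_apply]
  rcases eq_or_ne S Q with rfl | hS
  · rw [Finsupp.single_eq_same]
    have h1 := lt_of_le_of_ne (V_le_L hK hne hs S) hne'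
    rw [val_eq_exp S hs0, exp_lt_exp] at h1
    rw [val_le_exp_iff S hs0]
    omega
  · rw [Finsupp.single_eq_of_ne hS, sub_zero]
    exact V_le_L hK hne hs S

/-- High powers are generated in bounded degree. -/
theorem exists_generation : ∃ s ∈ V, s ≠ 0 ∧ ∃ m₁ : ℕ, ∀ m, m₁ ≤ m →
    FunFld.L ((m + 1) • DD) ≤ FunFld.L (m • DD) ⊔ (FunFld.L (m • DD)).map (LinearMap.mulLeft k s) := by
  obtain ⟨s, hs, hs0, hatt⟩ := exists_s hK h₀ hne hgen
  refine ⟨s, hs, hs0, 2 * FunFld.genus k K + 1, fun m hm => ?_⟩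
  have hd := one_le_deg hK h₀ hne hgen
  have h1 : (1 : K) ∈ FunFld.L DD := V_le_L hK hne (one_mem_V h₀)
  have hle : (m : ℤ) - 1 ≤ ((m : ℤ) - 1) * (DD).deg :=
    le_mul_of_one_le_right (by omega) hd
  have hnum : (FunFld.ell (m • DD + DD) : ℤ) + FunFld.ell (m • DD - DD) ≤
      2 * (FunFld.ell (m • DD) : ℤ) := by
    rw [ell_of_deg_large hK (by rw [deg_add, deg_nsmul]; linarith),
      ell_of_deg_large hK (by rw [deg_sub, deg_nsmul]; linarith),
      ell_of_deg_large hK (by rw [deg_nsmul]; linarith), deg_add, deg_sub, deg_nsmul]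
    linarith
  have h2 := pencil_trick hK h1 (V_le_L hK hne hs) one_ne_zero hs0 hatt hnum
  rw [succ_nsmul]
  refine h2.trans (sup_le_sup_right ?_ _)
  rintro _ ⟨w, hw, rfl⟩
  rwa [LinearMap.mulLeft_apply, one_mul]

/-- A conductor. -/
theorem exists_conductor : ∃ (r : ℕ) (h : K), h ≠ 0 ∧ h ∈ V ^ r ∧
    ∃ m₁ : ℕ, ∀ m, m₁ ≤ m → ∀ z ∈ FunFld.L (m • DD), h * z ∈ V ^ (m + r) := by
  classical
  obtain ⟨s, hs, hs0, m₁, hstep⟩ := exists_generation hK h₀ hne hgen
  haveI := finiteDimensional_L hK (m₁ • DD)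
  obtain ⟨S, hS⟩ := IsNoetherian.noetherian (⊤ : Submodule k (FunFld.L (m₁ • DD)))
  have hex : ∀ T : Finset (FunFld.L (m₁ • DD)), ∃ (r : ℕ) (h : K), h ≠ 0 ∧ h ∈ V ^ r ∧
      ∀ z ∈ T, h * (z : K) ∈ V ^ r := by
    intro T
    induction T using Finset.induction_on with
    | empty => exact ⟨0, 1, one_ne_zero, Submodule.mem_one.2 ⟨1, map_one _⟩, by simp⟩
    | insert z T _ ih =>
      obtain ⟨r, h, hh0, hh, hT⟩ := ih
      have hz : (z : K) ∈ IntermediateField.adjoin k (Set.range φ) := hgen ▸ IntermediateField.mem_top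
      obtain ⟨u, hu, w, hw, hzuw⟩ := IntermediateField.mem_adjoin_iff_div.1 hz
      have hfun : (fun i => φ i / φ i₀) = φ := funext fun i => by rw [h₀, div_one]
      rcases eq_or_ne w 0 with rfl | hw0
      · refine ⟨r, h, hh0, hh, fun y hy => ?_⟩
        rcases Finset.mem_insert.1 hy with rfl | hy
        · rw [hzuw, div_zero, mul_zero]; exact zero_mem _
        · exact hT y hy
      obtain ⟨a, ha⟩ := exists_pow_mul_mem (one_mem_V h₀ : (1 : K) ∈ V) one_ne_zero
        (a := u) (by simpa using hu)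
      obtain ⟨b, hb⟩ := exists_pow_mul_mem (one_mem_V h₀ : (1 : K) ∈ V) one_ne_zero
        (a := w) (by simpa using hw)
      rw [one_pow, mul_one] at ha hb
      refine ⟨r + (a + b), h * w, mul_ne_zero hh0 hw0,
        mul_mem_V hh (V_pow_mono h₀ (Nat.le_add_left b a) hb), fun y hy => ?_⟩
      rcases Finset.mem_insert.1 hy with rfl | hy
      · rw [hzuw, mul_assoc, mul_div_cancel₀ _ hw0]
        exact mul_mem_V hh (V_pow_mono h₀ (Nat.le_add_right a b) ha)
      · rw [mul_assoc, mul_comm w, ← mul_assoc]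
        exact mul_mem_V (hT y hy) (V_pow_mono h₀ (Nat.le_add_left b a) hb)
  obtain ⟨r, h, hh0, hh, hT⟩ := hex S
  refine ⟨r, h, hh0, hh, m₁, fun m hm => ?_⟩
  induction m, hm using Nat.le_induction with
  | base =>
    intro z hz
    have hzs : (⟨z, hz⟩ : FunFld.L (m₁ • DD)) ∈ Submodule.span k (S : Set (FunFld.L (m₁ • DD))) := by
      rw [hS]; trivial
    have key : ∀ y ∈ Submodule.span k (S : Set (FunFld.L (m₁ • DD))), h * (y : K) ∈ V ^ (m₁ + r) := by
      intro y hy
      induction hy using Submodule.span_induction with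
      | mem x hx => exact V_pow_mono h₀ (Nat.le_add_left r m₁) (hT x hx)
      | zero => simp
      | add x y _ _ hx hy => rw [Submodule.coe_add, mul_add]; exact add_mem hx hy
      | smul c x _ hx => rw [Submodule.coe_smul, mul_smul_comm]; exact Submodule.smul_mem _ c hx
    exact key _ hzs
  | succ m hm ih =>
    intro z hz
    obtain ⟨a, ha, _, ⟨b, hb, rfl⟩, rfl⟩ := Submodule.mem_sup.1 (hstep m hm hz)
    rw [mul_add, LinearMap.mulLeft_apply, mul_left_comm, show m + 1 + r = 1 + (m + r) by ring]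
    refine add_mem (V_pow_mono h₀ (Nat.le_add_left (m + r) 1) (ih a ha)) ?_
    exact mul_mem_V (by rwa [pow_one]) (ih b hb)

/-- Where a conductor attains its bound the map is nonsingular. -/
theorem isNonsingularAt_of_conductor {r : ℕ} {h : K} (hh : h ∈ V ^ r) {m₁ : ℕ}
    (hm₁ : ∀ m, m₁ ≤ m → ∀ z ∈ FunFld.L (m • DD), h * z ∈ V ^ (m + r))
    (Q : FunFld.Place k K) (hQ : Q.1 h = exp ((r • DD) Q)) : FunFld.IsNonsingularAt φ Q := by
  classical
  intro z hz
  obtain ⟨j, hj⟩ := exists_attain hK hne Q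
  have hjmax : ∀ i, Q.1 (φ i) ≤ Q.1 (φ j) := fun i => hj ▸ val_entry_le hK Q i (hne i)
  set N := poleDiv (k := k) z
  have hN0 : (0 : FunFld.Divisor k K) ≤ N := poleDiv_nonneg hK z
  have hNQ : N Q = 0 := by
    rw [poleDiv_apply hK]
    rcases eq_or_ne z 0 with rfl | hz0
    · simp [ord_zero]
    · have := (val_le_one_iff Q hz0).1 hz; omega
  have hd := one_le_deg hK h₀ hne hgen
  obtain ⟨m, hm, hm'⟩ : ∃ m : ℕ, m₁ ≤ m ∧ 2 * (FunFld.genus k K : ℤ) + N.deg + Q.deg ≤ m :=
    ⟨m₁ + (2 * (FunFld.genus k K : ℤ) + N.deg + Q.deg).toNat, Nat.le_add_right _ _, by push_cast; omega⟩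
  set F := m • DD - N
  have hFdeg : 2 * (FunFld.genus k K : ℤ) + Q.deg ≤ F.deg := by
    rw [deg_sub, deg_nsmul]
    have : (m : ℤ) ≤ m * (DD).deg := le_mul_of_one_le_right (Int.natCast_nonneg m) hd
    omega
  have hQd := deg_pos hK Q
  obtain ⟨w, hw, hw'⟩ : ∃ w ∈ FunFld.L F, w ∉ FunFld.L (F - Finsupp.single Q 1) := by
    by_contra hcon
    simp only [not_exists, not_and, not_not] at hcon
    haveI := finiteDimensional_L hK (F - Finsupp.single Q 1)
    have h1 : FunFld.ell F ≤ FunFld.ell (F - Finsupp.single Q 1) := Submodule.finrank_mono hcon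
    have e1 := ell_of_deg_large hK (D := F) (by omega)
    have e2 := ell_of_deg_large hK (D := F - Finsupp.single Q 1) (by rw [deg_sub, deg_single Q, one_mul]; omega)
    rw [deg_sub, deg_single Q, one_mul] at e2
    omega
  have hFQ : F Q = (m • DD) Q := by simp [F, hNQ]
  have hwQ : Q.1 w = exp ((m • DD) Q) := by
    by_contra hne'
    refine hw' fun S => ?_
    rcases eq_or_ne S Q with rfl | hS
    · rcases eq_or_ne w 0 with rfl | hw0
      · simp
      have h1 := hw S
      rw [hFQ] at h1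
      have h2 := lt_of_le_of_ne h1 hne'
      rw [val_eq_exp S hw0, exp_lt_exp] at h2
      rw [Finsupp.sub_apply, hFQ, Finsupp.single_eq_same, val_le_exp_iff S hw0]
      omega
    · have h1 := hw S
      rwa [Finsupp.sub_apply, Finsupp.single_eq_of_ne hS, sub_zero]
  have hzw : z * w ∈ FunFld.L (m • DD) := by
    have := mul_mem_L (mem_L_poleDiv hK z) hw
    rwa [add_sub_cancel] at this
  have hwD : w ∈ FunFld.L (m • DD) := L_mono (sub_le_self _ hN0) hw
  refine ⟨j, hne j, hjmax, _, div_pow_mem j (hm₁ m hm _ hzw), _, div_pow_mem j (hm₁ m hm _ hwD), ?_, ?_⟩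
  · rw [map_div₀, map_mul, map_pow, hj, hwQ, hQ, ← exp_add, ← exp_nsmul, ← exp_sub, ← exp_zero]
    congr 1
    simp only [Finsupp.smul_apply, nsmul_eq_mul, Nat.cast_add]
    ring
  · ring

/-- A birational map is nonsingular at almost all places. -/
theorem finite_singular : {Q : FunFld.Place k K | ¬ FunFld.IsNonsingularAt φ Q}.Finite := by
  obtain ⟨r, h, hh0, hh, m₁, hm₁⟩ := exists_conductor hK h₀ hne hgen
  refine ((Groth.Agent.H23Ext.finite_support hK.1 h).union (r • DD : FunFld.Divisor k K).support.finite_toSet).subset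
    fun Q hQ => ?_
  by_contra hno
  simp only [Set.mem_union, Function.mem_support, Finset.mem_coe, Finsupp.mem_support_iff, not_or,
    not_not] at hno
  exact hQ (isNonsingularAt_of_conductor hK h₀ hne hgen hh hm₁ Q
    (by rw [val_eq_exp Q hh0, hno.1, hno.2, neg_zero]))

/-- If high powers fill the linear systems the map is nonsingular. -/
theorem isNonsingularAt_of_full {m₁ : ℕ} (hfull : ∀ m, m₁ ≤ m → FunFld.L (m • DD) ≤ V ^ m)
    (Q : FunFld.Place k K) : FunFld.IsNonsingularAt φ Q := by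
  refine isNonsingularAt_of_conductor hK h₀ hne hgen (r := 0) (h := 1)
    (Submodule.mem_one.2 ⟨1, map_one _⟩) (m₁ := m₁) (fun m hm z hz => ?_) Q ?_
  · rw [one_mul, add_zero]; exact hfull m hm hz
  · simp

/-- A nonsingular map fills high linear systems. -/
theorem full_of_nonsingular (hns : ∀ Q : FunFld.Place k K, FunFld.IsNonsingularAt φ Q) :
    ∃ M₀ : ℕ, ∀ M, M₀ ≤ M → FunFld.L (M • DD) ≤ V ^ M := by
  classical
  obtain ⟨s₂, hs₂, hs₂0, m₁, hstep⟩ := exists_generation hK h₀ hne hgen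
  have haff : ∀ s ∈ V, s ≠ 0 → ∀ z ∈ FunFld.L (m₁ • DD), ∃ n : ℕ, z * s ^ n ∈ V ^ (n + m₁) := by
    intro s hs hs0 z hz
    set A := Algebra.adjoin k (Set.range fun i => φ i / s)
    set w := z / s ^ m₁
    suffices w ∈ A by
      obtain ⟨n, hn⟩ := exists_pow_mul_mem hs hs0 this
      refine ⟨n, ?_⟩
      rw [show z * s ^ n = w * s ^ n * s ^ m₁ by
        rw [mul_right_comm, div_mul_cancel₀ _ (pow_ne_zero _ hs0)]]
      exact mul_mem_V hn (Submodule.pow_mem_pow _ hs m₁)
    by_contra hwA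
    let J : Ideal A.toSubring :=
      { carrier := {a | (a : K) * w ∈ A}
        add_mem' := by
          intro a b ha hb
          change ((a + b : A.toSubring) : K) * w ∈ A
          rw [Subring.coe_add, add_mul]
          exact A.add_mem ha hb
        zero_mem' := by simp
        smul_mem' := by
          intro a b hb
          change ((a • b : A.toSubring) : K) * w ∈ A
          rw [smul_eq_mul, Subring.coe_mul, mul_assoc]
          exact A.mul_mem a.2 hb }
    have hJ : J ≠ ⊤ := fun htop => hwA (by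
      have h1 : (1 : A.toSubring) ∈ J := htop ▸ trivial
      have h2 : ((1 : A.toSubring) : K) * w ∈ A := h1
      rwa [Subring.coe_one, one_mul] at h2)
    obtain ⟨O, hle, hJO⟩ := Ideal.image_subset_nonunits_valuationSubring J hJ
    have hO : O ≠ ⊤ := by
      intro htop
      by_cases hJ0 : J = ⊥
      · have h1 : IntermediateField.adjoin k (Set.range fun i => φ i / s) = ⊤ := by
          rw [eq_top_iff, ← hgen, IntermediateField.adjoin_le_iff]
          rintro _ ⟨i, rfl⟩
          have hm : ∀ l, φ l / s ∈ IntermediateField.adjoin k (Set.range fun i => φ i / s) :=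
            fun l => IntermediateField.subset_adjoin _ _ ⟨l, rfl⟩
          have := div_mem (hm i) (hm i₀)
          rwa [h₀, div_div_div_cancel_right₀ hs0, div_one] at this
        obtain ⟨u, hu, v, hv, huv⟩ := IntermediateField.mem_adjoin_iff_div.1
          (h1 ▸ IntermediateField.mem_top : w ∈ IntermediateField.adjoin k (Set.range fun i => φ i / s))
        rcases eq_or_ne v 0 with rfl | hv0
        · exact hwA (by rw [huv, div_zero]; exact A.zero_mem)
        have : (⟨v, hv⟩ : A.toSubring) ∈ J := by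
          change v * w ∈ A
          rw [huv, mul_div_cancel₀ _ hv0]
          exact hu
        rw [hJ0, Submodule.mem_bot] at this
        exact hv0 (congrArg Subtype.val this)
      · obtain ⟨a, ha, ha0⟩ := Submodule.exists_mem_ne_zero_of_ne_bot hJ0
        have h1 := hJO ⟨a, ha, rfl⟩
        rw [SetLike.mem_coe, O.mem_nonunits_iff_or] at h1
        rcases h1 with h1 | h1
        · exact ha0 (Subtype.ext h1)
        · exact h1 (htop ▸ ValuationSubring.mem_top _)
    obtain ⟨Q, hQ⟩ := exists_place_of_valuationSubring hK O (fun c => hle (A.algebraMap_mem c)) hO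
    have hQA : ∀ a ∈ A, Q.1 a ≤ 1 := fun a ha => (hQ a).2 (hle ha)
    obtain ⟨j, hj⟩ := exists_attain hK hne Q
    have hQs : Q.1 s = exp (DD Q) := by
      refine le_antisymm (V_le_L hK hne hs Q) ?_
      have h1 := hQA _ (Algebra.subset_adjoin ⟨j, rfl⟩)
      rw [map_div₀, div_le_one₀ (zero_lt_iff.2 (val_ne_zero Q hs0)), hj] at h1
      exact h1
    have hw1 : Q.1 w ≤ 1 := by
      rw [map_div₀, map_pow, hQs, ← exp_nsmul, div_le_one₀ (zero_lt_iff.2 exp_ne_zero)]
      simpa [Finsupp.smul_apply] using hz Q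
    obtain ⟨j', hj'0, hj'max, u, hu, v, hv, hv1, huv⟩ := hns Q w hw1
    have hQj' : Q.1 (φ j') = exp (DD Q) :=
      le_antisymm (val_entry_le hK Q j' hj'0) (hj ▸ hj'max j)
    have hρ : φ j' / s ∈ A := Algebra.subset_adjoin ⟨j', rfl⟩
    have hclear : ∀ a ∈ Algebra.adjoin k (Set.range fun i => φ i / φ j'), ∃ n : ℕ,
        a * (φ j' / s) ^ n ∈ A := by
      intro a ha
      induction ha using Algebra.adjoin_induction with
      | mem x hx =>
        obtain ⟨i, rfl⟩ := hx
        refine ⟨1, ?_⟩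
        rw [pow_one, div_mul_div_comm, mul_comm (φ i), mul_div_mul_left _ _ hj'0]
        exact Algebra.subset_adjoin ⟨i, rfl⟩
      | algebraMap c => exact ⟨0, by rw [pow_zero, mul_one]; exact A.algebraMap_mem c⟩
      | add x y _ _ hx hy =>
        obtain ⟨n, hn⟩ := hx
        obtain ⟨m, hm⟩ := hy
        refine ⟨n + m, ?_⟩
        rw [add_mul]
        refine A.add_mem ?_ ?_
        · rw [pow_add, ← mul_assoc]; exact A.mul_mem hn (pow_mem hρ m)
        · rw [add_comm n m, pow_add, ← mul_assoc]; exact A.mul_mem hm (pow_mem hρ n)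
      | mul x y _ _ hx hy =>
        obtain ⟨n, hn⟩ := hx
        obtain ⟨m, hm⟩ := hy
        refine ⟨n + m, ?_⟩
        rw [show x * y * (φ j' / s) ^ (n + m) = x * (φ j' / s) ^ n * (y * (φ j' / s) ^ m) by ring]
        exact A.mul_mem hn hm
    obtain ⟨nu, hnu⟩ := hclear u hu
    obtain ⟨nv, hnv⟩ := hclear v hv
    set b := v * (φ j' / s) ^ nv * (φ j' / s) ^ nu
    have hbA : b ∈ A := A.mul_mem hnv (pow_mem hρ nu)
    have hbJ : (⟨b, hbA⟩ : A.toSubring) ∈ J := by
      change b * w ∈ A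
      rw [show b * w = u * (φ j' / s) ^ nu * (φ j' / s) ^ nv by rw [← huv]; ring]
      exact A.mul_mem hnu (pow_mem hρ nv)
    have hb1 : Q.1 b = 1 := by
      rw [map_mul, map_mul, map_pow, map_pow, map_div₀, hQj', hQs, div_self exp_ne_zero, hv1, one_pow, one_pow,
        one_mul, one_mul]
    have h1 := hJO ⟨_, hbJ, rfl⟩
    rw [SetLike.mem_coe, O.mem_nonunits_iff_or] at h1
    rcases h1 with h1 | h1
    · have : Q.1 b = 0 := (congrArg Q.1 h1).trans (map_zero _)
      rw [hb1] at this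
      exact one_ne_zero this
    · exact h1 ((hQ _).1 (by rw [map_inv₀]; exact inv_le_one_of_one_le₀ hb1.ge))
  haveI := finiteDimensional_L hK (m₁ • DD)
  obtain ⟨S, hS⟩ := IsNoetherian.noetherian (⊤ : Submodule k (FunFld.L (m₁ • DD)))
  choose n1 hn1 using fun z : FunFld.L (m₁ • DD) => haff 1 (one_mem_V h₀) one_ne_zero z z.2
  choose n2 hn2 using fun z : FunFld.L (m₁ • DD) => haff s₂ hs₂ hs₂0 z z.2
  set N := S.sup n1 + S.sup n2
  have hbase : ∀ e ∈ FunFld.L (m₁ • DD), e ∈ V ^ (N + m₁) ∧ s₂ ^ N * e ∈ V ^ (N + m₁) := by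
    intro e he
    have hes : (⟨e, he⟩ : FunFld.L (m₁ • DD)) ∈ Submodule.span k (S : Set (FunFld.L (m₁ • DD))) := by
      rw [hS]; trivial
    have key : ∀ y ∈ Submodule.span k (S : Set (FunFld.L (m₁ • DD))),
        (y : K) ∈ V ^ (N + m₁) ∧ s₂ ^ N * (y : K) ∈ V ^ (N + m₁) := by
      intro y hy
      induction hy using Submodule.span_induction with
      | mem x hx =>
        refine ⟨V_pow_mono h₀ ?_ (by simpa using hn1 x), ?_⟩
        · have := Finset.le_sup (f := n1) hx; omega
        · obtain ⟨c, hc⟩ : ∃ c, N = c + n2 x :=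
            ⟨N - n2 x, by have := Finset.le_sup (f := n2) hx; omega⟩
          rw [hc, show s₂ ^ (c + n2 x) * (x : K) = s₂ ^ c * ((x : K) * s₂ ^ n2 x) by ring, add_assoc]
          exact mul_mem_V (Submodule.pow_mem_pow _ hs₂ c) (hn2 x)
      | zero => simp
      | add a b _ _ ha hb =>
        rw [Submodule.coe_add, mul_add]; exact ⟨add_mem ha.1 hb.1, add_mem ha.2 hb.2⟩
      | smul c a _ ha =>
        rw [Submodule.coe_smul, mul_smul_comm]
        exact ⟨Submodule.smul_mem _ c ha.1, Submodule.smul_mem _ c ha.2⟩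
    exact key _ hes
  have hspan : ∀ j, FunFld.L ((m₁ + j) • DD) ≤
      Submodule.span k {y | ∃ a ≤ j, ∃ e ∈ FunFld.L (m₁ • DD), y = s₂ ^ a * e} := by
    intro j
    induction j with
    | zero => exact fun z hz => Submodule.subset_span ⟨0, le_rfl, z, hz, by rw [pow_zero, one_mul]⟩
    | succ j ih =>
      refine (hstep (m₁ + j) (Nat.le_add_right _ _)).trans (sup_le (ih.trans (Submodule.span_mono ?_)) ?_)
      · rintro y ⟨a, ha, e, he, rfl⟩; exact ⟨a, by omega, e, he, rfl⟩
      · refine (Submodule.map_mono ih).trans ?_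
        rw [Submodule.map_span]
        refine Submodule.span_mono ?_
        rintro _ ⟨_, ⟨a, ha, e, he, rfl⟩, rfl⟩
        exact ⟨a + 1, by omega, e, he, by simp [pow_succ']; ring⟩
  refine ⟨m₁ + 2 * N, fun M hM => ?_⟩
  obtain ⟨j, rfl⟩ := Nat.exists_eq_add_of_le (le_trans (Nat.le_add_right m₁ (2 * N)) hM)
  refine (hspan j).trans (Submodule.span_le.2 ?_)
  rintro _ ⟨a, ha, e, he, rfl⟩
  obtain ⟨h1, h2⟩ := hbase e he
  rcases le_or_gt N a with hNa | hNa
  · obtain ⟨c, rfl⟩ := Nat.exists_eq_add_of_le hNa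
    rw [pow_add s₂, mul_right_comm]
    exact V_pow_mono h₀ (by omega) (mul_mem_V h2 (Submodule.pow_mem_pow _ hs₂ c))
  · exact V_pow_mono h₀ (by omega) (mul_mem_V (Submodule.pow_mem_pow _ hs₂ a) h1)

end Groth.Agent.H23Proj
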