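import Mathlib
import Groth.Agent.H23Proj.Model

/-!
Plane models: degree and genus.
-/

set_option autoImplicit false
set_option linter.style.haveILetI false
set_option linter.unusedSectionVars false

namespace Groth.Agent.H23Proj

open WithZero Groth.Agent.H23FunFld MvPolynomial

variable {k K : Type*} [Field k] [Field K] [Algebra k K] (hK : FunFld.IsFunctionField k K) {x y : K}
  (hxy : IntermediateField.adjoin k ({x, y} : Set K) = ⊤)

theorem range_vec_three : Set.range ![(1 : K), x, y] = {1, x, y} := by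
  ext z
  simp [Matrix.range_cons, Matrix.range_empty]
  tauto

theorem count_simplex (m : ℕ) :
    2 * Nat.card {n : Fin 2 →₀ ℕ | (n.sum fun _ e => e) ≤ m} = (m + 1) * (m + 2) := by
  classical
  have hsum : ∀ n : Fin 2 →₀ ℕ, (n.sum fun _ e => e) = n 0 + n 1 := fun n => by
    rw [Finsupp.sum_fintype _ _ (fun _ => rfl), Fin.sum_univ_two]
  let e : {n : Fin 2 →₀ ℕ | (n.sum fun _ e => e) ≤ m} ≃ Σ i : Fin (m + 1), Fin ((i : ℕ) + 1) :=
    { toFun := fun n => ⟨⟨n.1 0 + n.1 1, by have := n.2; simp only [Set.mem_ofPred_eq, hsum] at this; omega⟩,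
        ⟨n.1 0, by simp⟩⟩
      invFun := fun p => ⟨Finsupp.equivFunOnFinite.symm ![(p.2 : ℕ), (p.1 : ℕ) - p.2], by
        have h1 := p.1.2
        have h2 := p.2.2
        simp only [Set.mem_ofPred_eq, hsum]
        simp
        omega⟩
      left_inv := fun n => by
        refine Subtype.ext (Finsupp.ext fun i => ?_)
        fin_cases i <;> simp
      right_inv := fun p => by
        obtain ⟨⟨i, hi⟩, ⟨j, hj⟩⟩ := p
        have hij : j + (i - j) = i := by simp only at hj; omega
        refine Sigma.ext (Fin.ext (by simpa using hij)) ((Fin.heq_ext_iff (by simp [hij])).2 (by simp)) }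
  rw [Nat.card_congr e, Nat.card_eq_fintype_card, Fintype.card_sigma]
  simp only [Fintype.card_fin]
  rw [Fin.sum_univ_eq_sum_range (fun i => i + 1), Finset.sum_add_distrib, mul_add, mul_comm 2,
    Finset.sum_range_id_mul_two]
  simp
  ring

theorem finrank_restrictTotalDegree (m : ℕ) :
    2 * Module.finrank k (restrictTotalDegree (Fin 2) k m) = (m + 1) * (m + 2) := by
  rw [restrictTotalDegree, Module.finrank_eq_nat_card_basis (basisRestrictSupport k _), count_simplex]

theorem span_pow_eq_map (m : ℕ) :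
    Submodule.span k (Set.range ![(1 : K), x, y]) ^ m =
      (restrictTotalDegree (Fin 2) k m).map (aeval ![x, y]).toLinearMap := by
  classical
  set W := Submodule.span k (Set.range ![(1 : K), x, y])
  have h1 : (1 : K) ∈ W := Submodule.subset_span ⟨0, rfl⟩
  have hmono : ∀ {a b : ℕ}, a ≤ b → W ^ a ≤ W ^ b := fun {a b} hab =>
    V_pow_mono (φ := ![(1 : K), x, y]) (i₀ := 0) rfl hab
  refine le_antisymm ?_ ?_
  · induction m with
    | zero =>
      intro v hv
      obtain ⟨c, rfl⟩ := Submodule.mem_one.1 (by simpa using hv)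
      exact ⟨C c, (mem_restrictTotalDegree _ _ _).2 (by simp), by simp⟩
    | succ m ih =>
      rw [pow_succ]
      refine Submodule.mul_le.2 fun a ha b hb => ?_
      obtain ⟨p, hp, rfl⟩ := ih ha
      have hW : W ≤ (restrictTotalDegree (Fin 2) k 1).map (aeval ![x, y]).toLinearMap := by
        rw [Submodule.span_le, range_vec_three, Set.insert_subset_iff, Set.insert_subset_iff,
          Set.singleton_subset_iff]
        exact ⟨⟨1, (mem_restrictTotalDegree _ _ _).2 (by simp), by simp⟩,
          ⟨X 0, (mem_restrictTotalDegree _ _ _).2 (totalDegree_X _).le, by simp⟩,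
          ⟨X 1, (mem_restrictTotalDegree _ _ _).2 (totalDegree_X _).le, by simp⟩⟩
      obtain ⟨q, hq, rfl⟩ := hW hb
      refine ⟨p * q, (mem_restrictTotalDegree _ _ _).2 ?_, by simp⟩
      have h2 := (mem_restrictTotalDegree _ _ _).1 hp
      have h3 := (mem_restrictTotalDegree _ _ _).1 hq
      exact (totalDegree_mul p q).trans (by omega)
  · rintro _ ⟨p, hp, rfl⟩
    have hp' := (mem_restrictTotalDegree _ _ _).1 hp
    rw [p.as_sum, map_sum]
    refine Submodule.sum_mem _ fun s hs => ?_
    rw [AlgHom.toLinearMap_apply, aeval_monomial, ← Algebra.smul_def]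
    refine Submodule.smul_mem _ _ ?_
    rw [Finsupp.prod_fintype _ _ (fun _ => pow_zero _), Fin.prod_univ_two]
    have hdeg : s 0 + s 1 ≤ m := by
      have := (Finset.le_sup (f := fun s : Fin 2 →₀ ℕ => s.sum fun _ e => e) hs).trans hp'
      rwa [Finsupp.sum_fintype _ _ (fun _ => rfl), Fin.sum_univ_two] at this
    refine hmono hdeg ?_
    rw [pow_add]
    exact Submodule.mul_mem_mul (Submodule.pow_mem_pow _ (show x ∈ W from Submodule.subset_span ⟨1, rfl⟩) _)
      (Submodule.pow_mem_pow _ (show y ∈ W from Submodule.subset_span ⟨2, rfl⟩) _)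

include hK hxy

/-- The relation ideal of a plane model is principal. -/
theorem exists_relation : ∃ f : MvPolynomial (Fin 2) k, Irreducible f ∧ aeval ![x, y] f = 0 := by
  classical
  obtain ⟨x₀, hx₀, hfin⟩ := hK.1
  set J := RingHom.ker (aeval ![x, y] : MvPolynomial (Fin 2) k →ₐ[k] K).toRingHom
  haveI : J.IsPrime := RingHom.ker_isPrime _
  have hJ : J ≠ ⊥ := by
    intro h
    have hinj : Function.Injective (aeval ![x, y] : MvPolynomial (Fin 2) k →ₐ[k] K) :=
      (RingHom.injective_iff_ker_eq_bot _).2 h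
    have hai : AlgebraicIndependent k ![x, y] := hinj
    have h1 : IsTranscendenceBasis k (fun _ : PUnit.{1} => x₀) := by
      have hai₀ : AlgebraicIndependent k (fun _ : PUnit.{1} => x₀) :=
        (algebraicIndependent_unique_type_iff (ι := PUnit.{1})).2 hx₀
      rw [hai₀.isTranscendenceBasis_iff_isAlgebraic, Set.range_const]
      exact IntermediateField.isAlgebraic_adjoin_iff_top.1
        (Algebra.IsAlgebraic.of_finite (IntermediateField.adjoin k ({x₀} : Set K)) K)
    have h2 := hai.lift_cardinalMk_le_trdeg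
    rw [← h1.lift_cardinalMk_eq_trdeg] at h2
    simp at h2
  obtain ⟨f, hfJ, hf⟩ := Ideal.IsPrime.exists_mem_prime_of_ne_bot ‹J.IsPrime› hJ
  exact ⟨f, hf.irreducible, hfJ⟩

variable {f : MvPolynomial (Fin 2) k} (hf : Irreducible f) (hfxy : aeval ![x, y] f = 0)
include hf hfxy

theorem ker_aeval (g : MvPolynomial (Fin 2) k) (hg : aeval ![x, y] g = 0) : f ∣ g := by
  classical
  by_contra hdvd
  set J := RingHom.ker (aeval ![x, y] : MvPolynomial (Fin 2) k →ₐ[k] K).toRingHom
  haveI : J.IsPrime := RingHom.ker_isPrime _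
  haveI : (Ideal.span ({f} : Set (MvPolynomial (Fin 2) k))).IsPrime :=
    (Ideal.span_singleton_prime hf.ne_zero).2 hf.prime
  let p0 : PrimeSpectrum (MvPolynomial (Fin 2) k) := ⟨⊥, Ideal.isPrime_bot⟩
  let p1 : PrimeSpectrum (MvPolynomial (Fin 2) k) := ⟨Ideal.span {f}, inferInstance⟩
  let p2 : PrimeSpectrum (MvPolynomial (Fin 2) k) := ⟨J, inferInstance⟩
  have h01 : p0 < p1 := by
    change (⊥ : Ideal _) < Ideal.span {f}
    rw [bot_lt_iff_ne_bot, Ne, Ideal.span_singleton_eq_bot]
    exact hf.ne_zero
  have h12 : p1 < p2 := by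
    change Ideal.span {f} < J
    refine lt_of_le_of_ne ((Ideal.span_singleton_le_iff_mem _).2 hfxy) fun h => hdvd ?_
    exact Ideal.mem_span_singleton.1 (h.symm ▸ hg : g ∈ Ideal.span {f})
  have hmax : J.IsMaximal := by
    by_contra hnm
    obtain ⟨M, hM, hJM⟩ := J.exists_le_maximal (Ideal.IsPrime.ne_top inferInstance)
    let p3 : PrimeSpectrum (MvPolynomial (Fin 2) k) := ⟨M, hM.isPrime⟩
    have h23 : p2 < p3 := by
      change J < M
      exact lt_of_le_of_ne hJM fun h => hnm (h.symm ▸ hM)
    let S : LTSeries (PrimeSpectrum (MvPolynomial (Fin 2) k)) :=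
      ((((RelSeries.singleton _ p0).snoc p1 (by simpa using h01)).snoc p2 (by simpa using h12)).snoc p3
        (by simpa using h23))
    have hlen := Order.LTSeries.length_le_krullDim S
    have hdim : ringKrullDim (MvPolynomial (Fin 2) k) = 2 := by
      rw [MvPolynomial.ringKrullDim_of_isNoetherianRing, ringKrullDim_eq_zero_of_field]
      simp
    rw [show Order.krullDim (PrimeSpectrum (MvPolynomial (Fin 2) k)) = 2 from hdim] at hlen
    simp [S] at hlen
    exact absurd hlen (not_le.2 (by exact_mod_cast (show (2 : ℕ) < 3 by norm_num)))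
  obtain ⟨x₀, hx₀, -⟩ := hK.1
  letI : Field (MvPolynomial (Fin 2) k ⧸ J) := Ideal.Quotient.field J
  haveI := finite_of_finite_type_of_isJacobsonRing k (MvPolynomial (Fin 2) k ⧸ J)
  let ρ : (MvPolynomial (Fin 2) k ⧸ J) →ₐ[k] K :=
    Ideal.Quotient.liftₐ J (aeval ![x, y]) fun a ha => ha
  have halg : ∀ i, IsAlgebraic k (![x, y] i) := fun i => by
    have h := ((IsIntegral.of_finite k (Ideal.Quotient.mk J (X i))).map ρ).isAlgebraic
    have e : ρ (Ideal.Quotient.mk J (X i)) = ![x, y] i := (aeval_X (R := k) ![x, y] i)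
    rwa [e] at h
  have hint : ∀ z ∈ ({x, y} : Set K), IsIntegral k z := by
    rintro z (rfl | rfl)
    · exact (halg 0).isIntegral
    · exact (halg 1).isIntegral
  haveI : FiniteDimensional k (IntermediateField.adjoin k ({x, y} : Set K)) :=
    IntermediateField.finiteDimensional_adjoin hint
  have hx₀' : x₀ ∈ IntermediateField.adjoin k ({x, y} : Set K) := hxy ▸ IntermediateField.mem_top
  exact hx₀ ((IsAlgebraic.of_finite k (⟨x₀, hx₀'⟩ : IntermediateField.adjoin k ({x, y} : Set K))).algebraMap)

theorem finrank_pow_span (m : ℕ) :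
    2 * (Module.finrank k (Submodule.span k (Set.range ![(1 : K), x, y]) ^ (f.totalDegree + m) : Submodule k K) : ℤ) =
      2 * (f.totalDegree + m : ℕ) * f.totalDegree + 3 * f.totalDegree - (f.totalDegree : ℤ) ^ 2 := by
  classical
  rw [span_pow_eq_map]
  set d := f.totalDegree
  set W := restrictTotalDegree (Fin 2) k (d + m)
  let L := (aeval ![x, y] : MvPolynomial (Fin 2) k →ₐ[k] K).toLinearMap.domRestrict W
  haveI : FiniteDimensional k W := by
    haveI : Finite {n : Fin 2 →₀ ℕ | (n.sum fun _ e => e) ≤ d + m} := by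
      refine Nat.finite_of_card_ne_zero fun h0 => ?_
      have := count_simplex (d + m)
      rw [h0] at this
      simp at this
    exact Module.Finite.of_basis (basisRestrictSupport k {n : Fin 2 →₀ ℕ | (n.sum fun _ e => e) ≤ d + m})
  have hrange : LinearMap.range L = W.map (aeval ![x, y]).toLinearMap := LinearMap.range_domRestrict _ _
  have hker : (LinearMap.ker L).map W.subtype =
      (restrictTotalDegree (Fin 2) k m).map (LinearMap.mulLeft k f) := by
    ext g
    constructor
    · rintro ⟨⟨g, hg⟩, hg0, rfl⟩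
      obtain ⟨q, hq⟩ := ker_aeval hK hxy hf hfxy g hg0
      refine ⟨q, (mem_restrictTotalDegree _ _ _).2 ?_, hq.symm⟩
      rcases eq_or_ne q 0 with rfl | hq0
      · simp
      have h1 := (mem_restrictTotalDegree _ _ _).1 hg
      rw [hq, totalDegree_mul_of_isDomain hf.ne_zero hq0] at h1
      omega
    · rintro ⟨q, hq, rfl⟩
      have hmem : f * q ∈ W := (mem_restrictTotalDegree _ _ _).2
        ((totalDegree_mul f q).trans (Nat.add_le_add_left ((mem_restrictTotalDegree _ _ _).1 hq) d))
      refine ⟨⟨f * q, hmem⟩, ?_, rfl⟩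
      change aeval ![x, y] (f * q) = 0
      rw [map_mul, hfxy, zero_mul]
  have e1 : Module.finrank k (LinearMap.ker L) = Module.finrank k (restrictTotalDegree (Fin 2) k m) := by
    rw [(Submodule.equivMapOfInjective W.subtype Subtype.val_injective (LinearMap.ker L)).finrank_eq, hker]
    exact (Submodule.equivMapOfInjective _ (mul_right_injective₀ hf.ne_zero) _).finrank_eq.symm
  have e2 := LinearMap.finrank_range_add_finrank_ker L
  rw [hrange, e1] at e2
  have e3 := finrank_restrictTotalDegree (k := k) m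
  have e4 : 2 * Module.finrank k W = (d + m + 1) * (d + m + 2) := finrank_restrictTotalDegree (k := k) (d + m)
  zify at e2 e3 e4
  push_cast
  linear_combination 2 * e2 - e3 + e4

end Groth.Agent.H23Proj
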