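import Mathlib
import Groth.Agent.H23Proj.PlaneModel

/-!
The homogeneous ideal of a plane curve is principal.
-/

set_option autoImplicit false
set_option linter.unusedSectionVars false

namespace Groth.Agent.H23Proj

open MvPolynomial

variable {k : Type*} [Field k]

theorem aeval_smul_of_isHomogeneous {σ A : Type*} [CommRing A] [Algebra k A] {G : MvPolynomial σ k} {d : ℕ}
    (hG : G.IsHomogeneous d) (c : A) (v : σ → A) :
    aeval (fun i => c * v i) G = c ^ d * aeval v G := by
  classical
  conv_lhs => rw [G.as_sum]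
  conv_rhs => rw [G.as_sum]
  simp only [map_sum, Finset.mul_sum]
  refine Finset.sum_congr rfl fun s hs => ?_
  rw [aeval_monomial, aeval_monomial, hG.degree_eq_sum_deg_support hs]
  simp only [Finsupp.prod, mul_pow, Finset.prod_mul_distrib, Finset.prod_pow_eq_pow_sum]
  ring

theorem aeval_C_mul_X {σ K : Type*} [Field K] [Algebra k K] (v : σ → K) (g : MvPolynomial σ k) (d : ℕ) :
    (aeval (fun i => Polynomial.C (v i) * Polynomial.X) g).coeff d =
      aeval v (homogeneousComponent d g) := by
  classical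
  have key : ∀ e, aeval (fun i => Polynomial.C (v i) * Polynomial.X) (homogeneousComponent e g) =
      Polynomial.C (aeval v (homogeneousComponent e g)) * Polynomial.X ^ e := fun e => by
    simp only [mul_comm (Polynomial.C _) (Polynomial.X : Polynomial K)]
    rw [aeval_smul_of_isHomogeneous (homogeneousComponent_isHomogeneous e g), mul_comm]
    congr 1
    exact (comp_aeval_apply v (IsScalarTower.toAlgHom k K (Polynomial K)) _).symm
  conv_lhs => rw [← sum_homogeneousComponent g]
  simp only [map_sum, key, Polynomial.finsetSum_coeff, Polynomial.coeff_C_mul_X_pow,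
    Finset.sum_ite_eq, Finset.mem_range]
  split_ifs with h
  · rfl
  · rw [homogeneousComponent_eq_zero _ _ (by omega), map_zero]

theorem aeval_eq_zero_iff {σ K : Type*} [Field K] [Algebra k K] (v : σ → K) (g : MvPolynomial σ k) :
    aeval (fun i => Polynomial.C (v i) * Polynomial.X) g = 0 ↔
      ∀ d, aeval v (homogeneousComponent d g) = 0 := by
  simp only [Polynomial.ext_iff, aeval_C_mul_X, Polynomial.coeff_zero]

theorem aeval_C_mul_X_eq_zero_of_isHomogeneous {σ K : Type*} [Field K] [Algebra k K] (v : σ → K)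
    {g : MvPolynomial σ k} {d : ℕ} (hg : g.IsHomogeneous d) (h : aeval v g = 0) :
    aeval (fun i => Polynomial.C (v i) * Polynomial.X) g = 0 := by
  simp only [mul_comm (Polynomial.C _) (Polynomial.X : Polynomial K)]
  rw [aeval_smul_of_isHomogeneous hg]
  have h2 := (comp_aeval_apply v (IsScalarTower.toAlgHom k K (Polynomial K)) g).symm
  rw [h, map_zero] at h2
  exact mul_eq_zero_of_right _ h2

variable {n : ℕ}

/-- Dehomogenisation. -/
noncomputable def dehom : MvPolynomial (Fin (n + 1)) k →ₐ[k] MvPolynomial (Fin n) k :=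
  aeval (Fin.cons 1 X)

/-- Homogenisation in degree `d`. -/
noncomputable def hom (d : ℕ) (p : MvPolynomial (Fin n) k) : MvPolynomial (Fin (n + 1)) k :=
  ∑ e ∈ Finset.range (d + 1), X 0 ^ (d - e) * rename Fin.succ (homogeneousComponent e p)

theorem hom_isHomogeneous (d : ℕ) (p : MvPolynomial (Fin n) k) : (hom d p).IsHomogeneous d := by
  refine IsHomogeneous.sum _ _ _ fun e he => ?_
  have := (isHomogeneous_X_pow (R := k) (0 : Fin (n + 1)) (d - e)).mul
    ((homogeneousComponent_isHomogeneous e p).rename_isHomogeneous (f := Fin.succ))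
  rwa [Nat.sub_add_cancel (Nat.lt_succ_iff.1 (Finset.mem_range.1 he))] at this

theorem dehom_rename_succ (p : MvPolynomial (Fin n) k) : dehom (rename Fin.succ p) = p := by
  rw [dehom, aeval_rename, show (Fin.cons 1 X : Fin (n + 1) → MvPolynomial (Fin n) k) ∘ Fin.succ = X from
    funext fun i => by simp, aeval_X_left_apply]

theorem dehom_hom {d : ℕ} {p : MvPolynomial (Fin n) k} (h : p.totalDegree ≤ d) : dehom (hom d p) = p := by
  have hX : dehom (X 0 : MvPolynomial (Fin (n + 1)) k) = 1 := by simp [dehom]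
  simp only [hom, map_sum, map_mul, map_pow, hX, one_pow, one_mul, dehom_rename_succ]
  conv_rhs => rw [← sum_homogeneousComponent p]
  refine (Finset.sum_subset (Finset.range_mono (by omega)) fun e _ he => ?_).symm
  exact homogeneousComponent_eq_zero _ _ (by rw [Finset.mem_range] at he; omega)

theorem eq_zero_of_dehom_eq_zero {G : MvPolynomial (Fin (n + 1)) k} {d : ℕ} (hG : G.IsHomogeneous d)
    (h : dehom G = 0) : G = 0 := by
  let L := FractionRing (MvPolynomial (Fin (n + 1)) k)
  let ι : MvPolynomial (Fin (n + 1)) k →ₐ[k] L := IsScalarTower.toAlgHom k _ L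
  have hinj : Function.Injective ι := IsFractionRing.injective (MvPolynomial (Fin (n + 1)) k) L
  have hx : ι (X 0) ≠ 0 := (map_ne_zero_iff ι hinj).2 (X_ne_zero _)
  apply hinj
  rw [map_zero]
  conv_lhs => rw [← aeval_X_left_apply (R := k) G, comp_aeval_apply]
  rw [show (fun i => ι (X i)) = fun i => ι (X 0) * (ι (X i) / ι (X 0)) from
    funext fun i => (mul_div_cancel₀ _ hx).symm, aeval_smul_of_isHomogeneous hG]
  have h2 := comp_aeval_apply (Fin.cons 1 X : Fin (n + 1) → MvPolynomial (Fin n) k)
    (aeval fun i : Fin n => ι (X i.succ) / ι (X 0)) G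
  change (aeval _) (dehom G) = _ at h2
  rw [h, map_zero] at h2
  have hfun : (fun i => ι (X i) / ι (X 0)) = fun i =>
      (aeval fun i : Fin n => ι (X i.succ) / ι (X 0))
        ((Fin.cons 1 X : Fin (n + 1) → MvPolynomial (Fin n) k) i) := by
    funext i
    refine Fin.cases ?_ (fun j => ?_) i
    · simp [div_self hx]
    · simp
  rw [hfun, ← h2, mul_zero]

theorem eq_of_dehom_eq {G H : MvPolynomial (Fin (n + 1)) k} {d : ℕ} (hG : G.IsHomogeneous d)
    (hH : H.IsHomogeneous d) (h : dehom G = dehom H) : G = H :=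
  sub_eq_zero.1 (eq_zero_of_dehom_eq_zero (hG.sub hH) (by rw [map_sub, h, sub_self]))

theorem totalDegree_dehom_le {G : MvPolynomial (Fin (n + 1)) k} {d : ℕ} (hG : G.IsHomogeneous d) :
    (dehom G).totalDegree ≤ d := by
  classical
  rw [G.as_sum, map_sum]
  refine totalDegree_finsetSum_le fun s hs => ?_
  rw [dehom, aeval_monomial, ← Algebra.smul_def]
  refine (totalDegree_smul_le _ _).trans ?_
  rw [hG.degree_eq_sum_deg_support hs]
  refine (totalDegree_finset_prod _ _).trans (Finset.sum_le_sum fun i _ => ?_)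
  refine (totalDegree_pow _ _).trans ?_
  refine Fin.cases ?_ (fun j => ?_) i
  · simp
  · simp [totalDegree_X]

theorem aeval_dehom {K : Type*} [Field K] [Algebra k K] {φ : Fin (n + 1) → K} (h0 : φ 0 ≠ 0)
    (G : MvPolynomial (Fin (n + 1)) k) :
    aeval (fun i : Fin n => φ i.succ / φ 0) (dehom G) = aeval (fun i => φ i / φ 0) G := by
  rw [dehom, comp_aeval_apply]
  congr 2
  funext i
  refine Fin.cases ?_ (fun j => ?_) i
  · simp [div_self h0]
  · simp

theorem aeval_eq_pow_mul {σ K : Type*} [Field K] [Algebra k K] {φ : σ → K} {i₀ : σ} (h0 : φ i₀ ≠ 0)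
    {G : MvPolynomial σ k} {d : ℕ} (hG : G.IsHomogeneous d) :
    aeval φ G = φ i₀ ^ d * aeval (fun i => φ i / φ i₀) G := by
  conv_lhs => rw [show φ = fun i => φ i₀ * (φ i / φ i₀) from funext fun i => (mul_div_cancel₀ _ h0).symm]
  exact aeval_smul_of_isHomogeneous hG _ _

variable [IsAlgClosed k] {K : Type*} [Field K] [Algebra k K]

/-- The relations of a plane curve form a principal ideal. -/
theorem exists_plane_generator (hK : FunFld.IsFunctionField k K) {φ : Fin 3 → K} (h0 : φ 0 ≠ 0)
    (hbir : IntermediateField.adjoin k (Set.range fun i => φ i / φ 0) = ⊤) :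
    ∃ F : MvPolynomial (Fin 3) k, Irreducible F ∧ F.IsHomogeneous F.totalDegree ∧
      RingHom.ker (aeval fun i => Polynomial.C (φ i) * Polynomial.X : MvPolynomial (Fin 3) k →ₐ[k] Polynomial K) =
        Ideal.span {F} := by
  classical
  set x := φ 1 / φ 0 with hx
  set y := φ 2 / φ 0 with hy
  have hxy : IntermediateField.adjoin k ({x, y} : Set K) = ⊤ := by
    refine top_le_iff.1 ?_
    rw [← hbir, IntermediateField.adjoin_le_iff]
    rintro _ ⟨i, rfl⟩
    fin_cases i
    · simp [div_self h0]
    · exact IntermediateField.subset_adjoin k _ (Set.mem_insert _ _)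
    · exact IntermediateField.subset_adjoin k _ (Set.mem_insert_of_mem _ rfl)
  obtain ⟨f, hf, hfxy⟩ := exists_relation hK hxy
  have hvec : (fun i : Fin 2 => φ i.succ / φ 0) = ![x, y] := by
    funext i; fin_cases i <;> simp [hx, hy]
  set J := RingHom.ker
    (aeval fun i => Polynomial.C (φ i) * Polynomial.X : MvPolynomial (Fin 3) k →ₐ[k] Polynomial K)
  set d := f.totalDegree with hd
  set F := hom d f
  have hFh : F.IsHomogeneous d := hom_isHomogeneous d f
  have hFπ : dehom F = f := dehom_hom le_rfl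
  have hF0 : F ≠ 0 := fun h => hf.ne_zero (by rw [← hFπ, h, map_zero])
  have hmem : ∀ {G : MvPolynomial (Fin 3) k} {e : ℕ}, G.IsHomogeneous e →
      (aeval φ G = 0 ↔ aeval ![x, y] (dehom G) = 0) := by
    intro G e hG
    rw [aeval_eq_pow_mul h0 hG, ← hvec, aeval_dehom h0, mul_eq_zero, or_iff_right (pow_ne_zero _ h0)]
  have hFJ : F ∈ J := by
    rw [RingHom.mem_ker]
    exact aeval_C_mul_X_eq_zero_of_isHomogeneous φ hFh ((hmem hFh).2 (by rw [hFπ, hfxy]))
  have hJ : J = Ideal.span {F} := by
    refine le_antisymm (fun g hg => ?_) ((Ideal.span_singleton_le_iff_mem _).2 hFJ)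
    rw [RingHom.mem_ker, aeval_eq_zero_iff] at hg
    rw [← sum_homogeneousComponent g]
    refine Ideal.sum_mem _ fun e _ => ?_
    set G := homogeneousComponent e g
    have hG : G.IsHomogeneous e := homogeneousComponent_isHomogeneous e g
    obtain ⟨h, hh⟩ := ker_aeval hK hxy hf hfxy _ ((hmem hG).1 (hg e))
    rw [Ideal.mem_span_singleton]
    rcases eq_or_ne G 0 with h1 | h1
    · exact h1 ▸ dvd_zero _
    have h2 : dehom G ≠ 0 := fun hh0 => h1 (eq_zero_of_dehom_eq_zero hG hh0)
    have hh0 : h ≠ 0 := fun h' => h2 (by rw [hh, h', mul_zero])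
    have hdeg : d + h.totalDegree ≤ e := by
      rw [hd, ← totalDegree_mul_of_isDomain hf.ne_zero hh0, ← hh]
      exact totalDegree_dehom_le hG
    refine ⟨hom (e - d) h, eq_of_dehom_eq hG ?_ ?_⟩
    · have h3 := hFh.mul (hom_isHomogeneous (e - d) h)
      rwa [Nat.add_sub_cancel' (by omega)] at h3
    · rw [map_mul, hFπ, dehom_hom (by omega), hh]
  haveI hJp : J.IsPrime := RingHom.ker_isPrime _
  refine ⟨F, ?_, by rwa [hFh.totalDegree hF0], hJ⟩
  exact ((Ideal.span_singleton_prime hF0).1 (hJ ▸ hJp)).irreducible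

theorem plane_dvd (hK : FunFld.IsFunctionField k K) {φ : Fin 3 → K} (h0 : φ 0 ≠ 0)
    (hbir : IntermediateField.adjoin k (Set.range fun i => φ i / φ 0) = ⊤)
    {f : MvPolynomial (Fin 3) k} (hf : Irreducible f) (hhom : f.IsHomogeneous f.totalDegree)
    (hfφ : aeval φ f = 0) {G : MvPolynomial (Fin 3) k} {e : ℕ} (hG : G.IsHomogeneous e)
    (hGφ : aeval φ G = 0) : f ∣ G := by
  obtain ⟨F, hF, -, hJ⟩ := exists_plane_generator hK h0 hbir
  have hdvd : ∀ {H : MvPolynomial (Fin 3) k} {d : ℕ}, H.IsHomogeneous d → aeval φ H = 0 → F ∣ H :=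
    fun {H d} hH hφH => Ideal.mem_span_singleton.1
      (hJ ▸ (RingHom.mem_ker.2 (aeval_C_mul_X_eq_zero_of_isHomogeneous φ hH hφH)))
  exact (hF.associated_of_dvd hf (hdvd hhom hfφ)).symm.dvd.trans (hdvd hG hGφ)

end Groth.Agent.H23Proj
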