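import Mathlib
import Groth.Prelude.Def_LocRes
import Groth.Agent.H23Proj.Basic
import Groth.Agent.H23Proj.Gens
import Groth.Agent.H23Geom.Criteria
import Groth.Agent.H23Geom.Unram

/-!
Hasse derivatives of a function field: uniqueness, integrality, Taylor expansions.
-/

set_option autoImplicit false
set_option linter.style.haveILetI false

namespace Groth.Agent.H23Proj

open WithZero Groth.Agent.H23FunFld

variable {k K : Type*} [Field k] [Field K] [Algebra k K]

theorem hasseD_zero {s : K} {H : K →ₐ[k] PowerSeries K} (hH : LocRes.IsHasseFamily s H) (z : K) :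
    LocRes.hasseD H 0 z = z := by
  rw [LocRes.hasseD_apply, PowerSeries.coeff_zero_eq_constantCoeff]; exact hH.2 z

theorem hasseD_one_self {s : K} {H : K →ₐ[k] PowerSeries K} (hH : LocRes.IsHasseFamily s H) :
    LocRes.hasseD H 1 s = 1 := by
  rw [LocRes.hasseD_apply, hH.1, map_add, PowerSeries.coeff_C, PowerSeries.coeff_X]
  simp

/-- The difference of two Hasse families in the first degree where they differ is a derivation. -/
theorem exists_derivation (H G : K →ₐ[k] PowerSeries K) (hH : ∀ z, PowerSeries.constantCoeff (H z) = z)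
    (hG : ∀ z, PowerSeries.constantCoeff (G z) = z) {n : ℕ} (hn : 0 < n)
    (hlt : ∀ j < n, ∀ z, PowerSeries.coeff j (H z) = PowerSeries.coeff j (G z)) :
    ∃ δ : Derivation k K K, ∀ z, δ z = PowerSeries.coeff n (H z) - PowerSeries.coeff n (G z) := by
  let L : K →ₗ[k] K :=
    { toFun := fun z => PowerSeries.coeff n (H z) - PowerSeries.coeff n (G z)
      map_add' := fun a b => by simp only [map_add]; ring
      map_smul' := fun c a => by
        simp only [map_smul, RingHom.id_apply, ← smul_sub]
        rw [Algebra.smul_def c (H a), Algebra.smul_def c (G a), PowerSeries.algebraMap_apply,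
          PowerSeries.coeff_C_mul, PowerSeries.coeff_C_mul, ← mul_sub, ← Algebra.smul_def] }
  refine ⟨Derivation.mk' L fun a b => ?_, fun z => rfl⟩
  simp only [L, LinearMap.coe_mk, AddHom.coe_mk, map_mul, smul_eq_mul, PowerSeries.coeff_mul]
  rw [← Finset.sum_sub_distrib]
  have h0 : ∀ z, PowerSeries.coeff 0 (H z) = z ∧ PowerSeries.coeff 0 (G z) = z := fun z => by
    simp [PowerSeries.coeff_zero_eq_constantCoeff, hH, hG]
  rw [Finset.sum_eq_add (0, n) (n, 0)]
  · rw [(h0 a).1, (h0 a).2, (h0 b).1, (h0 b).2]; ring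
  · simp [hn.ne']
  · intro p hp hpne
    have hp' := Finset.HasAntidiagonal.mem_antidiagonal.1 hp
    have h1 : p.1 < n ∧ p.2 < n := by
      obtain ⟨a, b⟩ := p
      simp only [ne_eq, Prod.mk.injEq, not_and_or] at hpne hp'
      omega
    rw [hlt _ h1.1, hlt _ h1.2, sub_self]
  · intro h; exact absurd (Finset.HasAntidiagonal.mem_antidiagonal.2 (zero_add n)) h
  · intro h; exact absurd (Finset.HasAntidiagonal.mem_antidiagonal.2 (add_zero n)) h

theorem D_ne_zero_of_isHasseFamily {s : K} {H : K →ₐ[k] PowerSeries K} (hH : LocRes.IsHasseFamily s H) :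
    KaehlerDifferential.D k K s ≠ 0 := by
  obtain ⟨δ, hδ⟩ := exists_derivation H (Algebra.ofId K (PowerSeries K) |>.restrictScalars k |>.comp (AlgHom.id k K))
    hH.2 (fun z => by simp [PowerSeries.algebraMap_apply]) one_pos (fun j hj z => by
      obtain rfl : j = 0 := by omega
      simp [PowerSeries.algebraMap_apply, hH.2])
  intro h0
  have h1 := hδ s
  rw [← Derivation.liftKaehlerDifferential_comp_D δ s, h0, map_zero, ← LocRes.hasseD_apply,
    hasseD_one_self hH] at h1
  simp [PowerSeries.algebraMap_apply, PowerSeries.coeff_C] at h1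

theorem isSeparable_of_isHasseFamily [IsAlgClosed k] (hK : FunFld.IsFunctionField k K) {s : K}
    {H : K →ₐ[k] PowerSeries K} (hH : LocRes.IsHasseFamily s H) :
    Algebra.IsSeparable (IntermediateField.adjoin k ({s} : Set K)) K :=
  Groth.Agent.H23Geom.isSeparable_of_D_ne_zero hK (Groth.Agent.H23Geom.isGeometric_of_perfectField hK)
    (D_ne_zero_of_isHasseFamily hH)

/-- Uniqueness. -/
theorem hasse_ext [IsAlgClosed k] (hK : FunFld.IsFunctionField k K) {s : K}
    (hs : KaehlerDifferential.D k K s ≠ 0) {H G : K →ₐ[k] PowerSeries K}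
    (hH : ∀ z, PowerSeries.constantCoeff (H z) = z) (hG : ∀ z, PowerSeries.constantCoeff (G z) = z)
    (heq : H s = G s) : H = G := by
  haveI := Groth.Agent.H23Geom.isSeparable_of_D_ne_zero hK
    (Groth.Agent.H23Geom.isGeometric_of_perfectField hK) hs
  refine AlgHom.ext fun z => PowerSeries.ext fun n => ?_
  induction n using Nat.strong_induction_on generalizing z with
  | _ n ih =>
    rcases Nat.eq_zero_or_pos n with rfl | hn
    · simp [PowerSeries.coeff_zero_eq_constantCoeff, hH, hG]
    obtain ⟨δ, hδ⟩ := exists_derivation H G hH hG hn fun j hj w => ih j hj w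
    obtain ⟨c, hc⟩ := Submodule.mem_span_singleton.1 (Groth.Agent.H23Geom.D_mem_span (k := k) (x := s) z)
    refine sub_eq_zero.1 ?_
    rw [← hδ, ← Derivation.liftKaehlerDifferential_comp_D δ z, ← hc, map_smul,
      Derivation.liftKaehlerDifferential_comp_D, hδ, heq, sub_self, smul_zero]

/-- Change of variable. -/
theorem hasseD_chain [IsAlgClosed k] (hK : FunFld.IsFunctionField k K) {s t : K}
    {Hs Ht : K →ₐ[k] PowerSeries K} (hHs : LocRes.IsHasseFamily s Hs) (hHt : LocRes.IsHasseFamily t Ht)
    (y : K) (m : ℕ) :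
    LocRes.hasseD Ht m y = ∑ b ∈ Finset.range (m + 1),
      PowerSeries.coeff m ((Ht s - PowerSeries.C s) ^ b) * LocRes.hasseD Hs b y := by
  set σ := Ht s - PowerSeries.C s
  have hσ0 : PowerSeries.constantCoeff σ = 0 := by simp [σ, hHt.2]
  have ha : PowerSeries.HasSubst σ := PowerSeries.HasSubst.of_constantCoeff_zero' hσ0
  let G : K →ₐ[k] PowerSeries K := ((PowerSeries.substAlgHom (R := K) ha).restrictScalars k).comp Hs
  have hXdvd : PowerSeries.X ∣ σ := PowerSeries.X_dvd_iff.2 hσ0
  have hvanish : ∀ n b : ℕ, n < b → PowerSeries.coeff n (σ ^ b) = 0 := fun n b h =>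
    PowerSeries.X_pow_dvd_iff.1 (pow_dvd_pow_of_dvd hXdvd b) n h
  have hcoeff : ∀ z n, PowerSeries.coeff n (G z) = ∑ b ∈ Finset.range (n + 1),
      PowerSeries.coeff n (σ ^ b) * LocRes.hasseD Hs b z := by
    intro z n
    change PowerSeries.coeff n (PowerSeries.substAlgHom ha (Hs z)) = _
    rw [PowerSeries.coe_substAlgHom, PowerSeries.coeff_subst' ha]
    rw [finsum_eq_sum_of_support_subset _ (s := Finset.range (n + 1))]
    · exact Finset.sum_congr rfl fun b _ => by rw [LocRes.hasseD_apply, smul_eq_mul, mul_comm]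
    · intro b hb
      simp only [Function.mem_support, ne_eq, smul_eq_mul, mul_eq_zero, not_or] at hb
      simp only [Finset.coe_range, Set.mem_Iio]
      by_contra hcon
      exact hb.2 (hvanish n b (by omega))
  have hG0 : ∀ z, PowerSeries.constantCoeff (G z) = z := fun z => by
    rw [← PowerSeries.coeff_zero_eq_constantCoeff_apply, hcoeff]
    simp [hHs.2]
  have hGs : Ht s = G s := by
    change _ = PowerSeries.substAlgHom ha (Hs s)
    rw [hHs.1, map_add, ← PowerSeries.algebraMap_eq, AlgHom.commutes, PowerSeries.substAlgHom_X,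
      PowerSeries.algebraMap_eq, add_sub_cancel]
  rw [LocRes.hasseD_apply, hasse_ext hK (D_ne_zero_of_isHasseFamily hHs) hHt.2 hG0 hGs, hcoeff]

theorem coeff_pow_self {R : Type*} [CommRing R] {σ : PowerSeries R}
    (h : PowerSeries.constantCoeff σ = 0) (m : ℕ) :
    PowerSeries.coeff m (σ ^ m) = PowerSeries.coeff 1 σ ^ m := by
  obtain ⟨u, rfl⟩ := PowerSeries.X_dvd_iff.2 h
  rw [mul_pow, PowerSeries.coeff_X_pow_mul', if_pos le_rfl, Nat.sub_self,
    PowerSeries.coeff_zero_eq_constantCoeff_apply, map_pow]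
  congr 1
  rw [show (1 : ℕ) = 0 + 1 from rfl, PowerSeries.coeff_succ_X_mul,
    PowerSeries.coeff_zero_eq_constantCoeff_apply]

section Integral

variable [IsAlgClosed k] (hK : FunFld.IsFunctionField k K) {P : FunFld.Place k K} {t : K}
  (ht : P.1 t = exp (-1)) {H : K →ₐ[k] PowerSeries K} (hH : LocRes.IsHasseFamily t H)

include hK ht hH

/-- Hasse derivatives in a local parameter keep the valuation ring. -/
theorem val_hasseD_le : ∀ (j : ℕ) {z : K}, P.1 z ≤ 1 → P.1 (LocRes.hasseD H j z) ≤ 1 := by
  classical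
  intro j
  induction j using Nat.strong_induction_on with
  | _ j ih =>
  intro z hz
  rcases Nat.eq_zero_or_pos j with rfl | hj
  · rwa [hasseD_zero hH]
  obtain ⟨G, hG, hloc⟩ := exists_fg_localization hK P
  obtain ⟨N, hN⟩ : ∃ N : ℕ, ∀ g ∈ G, ∀ a, a ≤ j → 0 < a → P.1 (LocRes.hasseD H a g) ≤ exp (N : ℤ) := by
    let T := (G ×ˢ Finset.range (j + 1)).image fun p => (P.1 (LocRes.hasseD H p.2 p.1)).log.toNat
    refine ⟨T.sup id, fun g hg a ha _ => ?_⟩
    refine le_exp_of_log_le (le_trans (Int.self_le_toNat _) ?_)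
    exact_mod_cast Finset.le_sup (f := id) (b := (P.1 (LocRes.hasseD H a g)).log.toNat)
      (Finset.mem_image.2 ⟨(g, a), Finset.mem_product.2 ⟨hg, Finset.mem_range.2 (by omega)⟩, rfl⟩)
  let S : Subalgebra k K :=
    { carrier := {w | ∀ a, a ≤ j → P.1 (LocRes.hasseD H a w) ≤ exp ((a * N : ℕ) : ℤ)}
      mul_mem' := by
        intro u v hu hv a ha
        rw [LocRes.hasseD_apply, map_mul, PowerSeries.coeff_mul]
        refine P.1.map_sum_le fun p hp => ?_
        have hp' := Finset.HasAntidiagonal.mem_antidiagonal.1 hp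
        rw [map_mul]
        refine (mul_le_mul' (hu p.1 (by omega)) (hv p.2 (by omega))).trans ?_
        rw [← exp_add, exp_le_exp, ← hp', add_mul]
        push_cast; rfl
      add_mem' := by
        intro u v hu hv a ha
        rw [LocRes.hasseD_apply, map_add, map_add]
        exact (P.1.map_add _ _).trans (max_le (hu a ha) (hv a ha))
      algebraMap_mem' := by
        intro c a ha
        rw [LocRes.hasseD_apply, AlgHom.commutes, PowerSeries.algebraMap_apply, PowerSeries.coeff_C]
        split_ifs
        · refine (P.2.1 c).trans ?_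
          rw [← exp_zero, exp_le_exp]; exact Int.natCast_nonneg _
        · rw [map_zero]; exact zero_le }
  have hGS : Algebra.adjoin k (G : Set K) ≤ S := by
    refine Algebra.adjoin_le fun g hg a ha => ?_
    rcases Nat.eq_zero_or_pos a with rfl | hpos
    · rw [hasseD_zero hH, Nat.zero_mul, Nat.cast_zero, exp_zero]; exact hG g hg
    · refine (hN g hg a ha hpos).trans (exp_le_exp.2 ?_)
      exact_mod_cast Nat.le_mul_of_pos_left N hpos
  have hbd : ∀ w, P.1 w ≤ 1 → ∀ a, a ≤ j → P.1 (LocRes.hasseD H a w) ≤ exp ((a * N : ℕ) : ℤ) := by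
    intro w hw
    obtain ⟨u, hu, v, hv, hv1, huv⟩ := hloc w hw
    intro a
    induction a using Nat.strong_induction_on with
    | _ a iha =>
    intro ha
    have h1 := hGS hu a ha
    rw [← huv, LocRes.hasseD_apply, map_mul, PowerSeries.coeff_mul,
      Finset.Nat.sum_antidiagonal_eq_sum_range_succ
        (fun p q => PowerSeries.coeff p (H w) * PowerSeries.coeff q (H v)) a,
      Finset.sum_range_succ, Nat.sub_self] at h1
    have h0 : PowerSeries.coeff 0 (H v) = v := hasseD_zero hH v
    rw [h0] at h1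
    have h2 : P.1 (∑ b ∈ Finset.range a, PowerSeries.coeff b (H w) * PowerSeries.coeff (a - b) (H v))
        ≤ exp ((a * N : ℕ) : ℤ) := by
      refine P.1.map_sum_le fun b hb => ?_
      have hb' := Finset.mem_range.1 hb
      rw [map_mul]
      refine (mul_le_mul' (iha b hb' (by omega)) (hGS hv (a - b) (by omega))).trans ?_
      rw [← exp_add, exp_le_exp, ← Nat.cast_add, ← add_mul, Nat.add_sub_cancel' hb'.le]
    rw [show LocRes.hasseD H a w = (((∑ b ∈ Finset.range a, PowerSeries.coeff b (H w) *
      PowerSeries.coeff (a - b) (H v)) + PowerSeries.coeff a (H w) * v) -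
      (∑ b ∈ Finset.range a, PowerSeries.coeff b (H w) * PowerSeries.coeff (a - b) (H v))) / v by
      have hv0 : v ≠ 0 := fun h => by rw [h, map_zero] at hv1; exact zero_ne_one hv1
      rw [LocRes.hasseD_apply, add_sub_cancel_left, mul_div_cancel_right₀ _ hv0],
      map_div₀, hv1, div_one]
    exact (P.1.map_sub _ _).trans (max_le h1 h2)
  suffices hM : ∀ M : ℕ, (∀ w, P.1 w ≤ 1 → P.1 (LocRes.hasseD H j w) ≤ exp (M : ℤ)) →
      ∀ w, P.1 w ≤ 1 → P.1 (LocRes.hasseD H j w) ≤ 1 from
    hM (j * N) (fun w hw => hbd w hw j le_rfl) z hz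
  intro M
  induction M with
  | zero => intro h w hw; simpa using h w hw
  | succ M ihM =>
    intro h
    refine ihM fun w hw => ?_
    obtain ⟨c, hc⟩ := eq_one_of_isAlgClosed hK P hw
    have ht0 : t ≠ 0 := fun h0 => exp_ne_zero (by rw [← ht, h0, map_zero])
    set w₁ := (w - algebraMap k K c) / t
    have hw₁ : P.1 w₁ ≤ 1 := by
      rw [map_div₀, ht, div_le_one₀ (zero_lt_iff.2 exp_ne_zero)]
      simpa using pow_le_exp_of_lt_one hc 1
    have e : w = algebraMap k K c + t * w₁ := by rw [mul_div_cancel₀ _ ht0]; ring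
    obtain ⟨i, hi⟩ : ∃ i, j = i + 1 := ⟨j - 1, by omega⟩
    rw [e, LocRes.hasseD_apply, map_add, map_mul, AlgHom.commutes, hH.1, PowerSeries.algebraMap_apply,
      map_add, PowerSeries.coeff_C, if_neg hj.ne', zero_add, add_mul, map_add, PowerSeries.coeff_C_mul,
      hi, PowerSeries.coeff_succ_X_mul]
    refine (P.1.map_add _ _).trans (max_le ?_ ?_)
    · rw [map_mul, ht, ← hi]
      refine (mul_le_mul' le_rfl (h w₁ hw₁)).trans ?_
      rw [← exp_add, exp_le_exp]; push_cast; omega
    · refine (ih i (by omega) hw₁).trans ?_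
      rw [← exp_zero, exp_le_exp]; exact Int.natCast_nonneg _

/-- The Taylor expansion is injective. -/
theorem eq_zero_of_taylor {z : K} (hz : P.1 z ≤ 1) (h : ∀ j, P.1 (LocRes.hasseD H j z) < 1) : z = 0 := by
  by_contra hz0
  have ht0 : t ≠ 0 := fun h0 => exp_ne_zero (by rw [← ht, h0, map_zero])
  obtain ⟨m, hm⟩ : ∃ m : ℕ, P.ord z = m :=
    ⟨(P.ord z).toNat, (Int.toNat_of_nonneg ((val_le_one_iff P hz0).1 hz)).symm⟩
  set u := z / t ^ m
  have hu : P.1 u = 1 := by
    rw [map_div₀, map_pow, ht, val_eq_exp P hz0, hm, ← exp_nsmul, nsmul_eq_mul, ← exp_sub, ← exp_zero]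
    congr 1; ring
  have e : z = t ^ m * u := (mul_div_cancel₀ _ (pow_ne_zero _ ht0)).symm
  have key : P.1 (LocRes.hasseD H m z - u) < 1 := by
    rw [e, LocRes.hasseD_apply, map_mul, map_pow, hH.1, PowerSeries.coeff_mul]
    rw [← Finset.add_sum_erase _ _ (Finset.HasAntidiagonal.mem_antidiagonal.2 (add_zero m) : (m, 0) ∈ Finset.HasAntidiagonal.antidiagonal m)]
    have hXm : PowerSeries.coeff m ((PowerSeries.C t + PowerSeries.X) ^ m) = 1 := by
      rw [← Polynomial.coe_C, ← Polynomial.coe_X, ← Polynomial.coe_add, ← Polynomial.coe_pow,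
        Polynomial.coeff_coe, add_comm, Polynomial.coeff_X_add_C_pow, Nat.sub_self]
      simp
    rw [hXm, one_mul, show PowerSeries.coeff 0 (H u) = u from hasseD_zero hH u, add_sub_cancel_left]
    refine Valuation.map_sum_lt' _ zero_lt_one fun p hp => ?_
    obtain ⟨hpne, hp⟩ := Finset.mem_erase.1 hp
    have hp' := Finset.HasAntidiagonal.mem_antidiagonal.1 hp
    have hlt : p.1 < m := by
      obtain ⟨a, b⟩ := p
      simp only [ne_eq, Prod.mk.injEq, not_and_or] at hpne hp' ⊢
      omega
    rw [← Polynomial.coe_C, ← Polynomial.coe_X, ← Polynomial.coe_add, ← Polynomial.coe_pow,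
      Polynomial.coeff_coe, add_comm, Polynomial.coeff_X_add_C_pow, map_mul, map_mul, map_pow, ht]
    refine (mul_le_of_le_one_right zero_le (val_hasseD_le hK ht hH _ hu.le)).trans_lt ?_
    refine (mul_le_of_le_one_right zero_le ?_).trans_lt ?_
    · rw [← map_natCast (algebraMap k K)]; exact P.2.1 _
    · rw [← exp_nsmul, ← exp_zero, exp_lt_exp, nsmul_eq_mul]
      have : (1 : ℤ) ≤ ((m - p.1 : ℕ) : ℤ) := by omega
      linarith
  have h1 := (P.1.map_sub (LocRes.hasseD H m z) (LocRes.hasseD H m z - u)).trans_lt (max_lt (h m) key)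
  rw [sub_sub_cancel, hu] at h1
  exact lt_irrefl _ h1

/-- Independent integral functions have independent Taylor expansions. -/
theorem taylor_independent {ι : Type*} [Fintype ι] {φ : ι → K} (hφ : LinearIndependent k φ)
    (hint : ∀ i, P.1 (φ i) ≤ 1) {a : ι → K} (ha : ∀ i, P.1 (a i) ≤ 1)
    (h : ∀ j, P.1 (∑ i, a i * LocRes.hasseD H j (φ i)) < 1) (i : ι) : P.1 (a i) < 1 := by
  choose c hc using fun i => eq_one_of_isAlgClosed hK P (ha i)
  have hz : ∑ i, c i • φ i = 0 := by
    refine eq_zero_of_taylor hK ht hH (P.1.map_sum_le fun i _ => ?_) fun j => ?_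
    · exact (val_smul_le P _ _).trans (hint i)
    · have e : LocRes.hasseD H j (∑ i, c i • φ i) = ∑ i, algebraMap k K (c i) * LocRes.hasseD H j (φ i) := by
        simp only [LocRes.hasseD_apply, map_sum, map_smul]
        refine Finset.sum_congr rfl fun i _ => ?_
        rw [Algebra.smul_def, PowerSeries.algebraMap_apply, PowerSeries.coeff_C_mul]
      rw [e, show ∑ i, algebraMap k K (c i) * LocRes.hasseD H j (φ i) =
        ∑ i, a i * LocRes.hasseD H j (φ i) - ∑ i, (a i - algebraMap k K (c i)) * LocRes.hasseD H j (φ i) by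
        rw [← Finset.sum_sub_distrib]; exact Finset.sum_congr rfl fun i _ => by ring]
      refine (P.1.map_sub _ _).trans_lt (max_lt (h j) (P.1.map_sum_lt' zero_lt_one fun i _ => ?_))
      rw [map_mul]
      exact (mul_le_of_le_one_right zero_le (val_hasseD_le hK ht hH j (hint i))).trans_lt (hc i)
  have := Fintype.linearIndependent_iff.1 hφ c hz i
  simpa [this] using hc i

end Integral

/-- A relation with coefficients in `K` between all Hasse derivatives is trivial. -/
theorem hasse_relation_trivial [IsAlgClosed k] (hK : FunFld.IsFunctionField k K) {s : K}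
    {H : K →ₐ[k] PowerSeries K} (hH : LocRes.IsHasseFamily s H) {ι : Type*} [Fintype ι] {φ : ι → K}
    (hφ : LinearIndependent k φ) (a : ι → K) (h : ∀ j, ∑ i, a i * LocRes.hasseD H j (φ i) = 0) :
    a = 0 := by
  classical
  haveI hsep := isSeparable_of_isHasseFamily hK hH
  have hs : Transcendental k s := Groth.Agent.H23Geom.transcendental_of_isSeparable hK
  haveI := finiteDimensional_adjoin hK hs
  set E := IntermediateField.adjoin k ({s} : Set K)
  obtain ⟨hE, -⟩ := Groth.Agent.H23Geom.isGeometric_of_le hK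
    (Groth.Agent.H23Geom.isGeometric_of_perfectField hK) E ⟨s, IntermediateField.mem_adjoin_simple_self k s, hs⟩
  obtain ⟨S, hS, hbad⟩ := Groth.Agent.H23Geom.exists_bad (K' := K) hE
  choose Q hQ using fun c : k => exists_place_lt_one hK (x := s - algebraMap k K c)
    (fun h => hs (by simpa using h.add (isAlgebraic_algebraMap c)))
  have hQinj : Function.Injective Q := fun c c' hcc => by
    by_contra hne
    have h2 := hQ c'
    rw [← hcc] at h2
    have h3 := (Q c).1.map_sub (s - algebraMap k K c') (s - algebraMap k K c)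
    rw [sub_sub_sub_cancel_left, ← map_sub, val_const (Q c) (sub_ne_zero.2 hne)] at h3
    exact absurd (h3.trans_lt (max_lt h2 (hQ c))) (lt_irrefl _)
  let bad : Set (FunFld.Place k K) := S ∪ ⋃ i, Function.support fun R : FunFld.Place k K => R.ord (φ i)
  have hbadfin : bad.Finite := hS.union (Set.finite_iUnion fun i => Groth.Agent.H23Ext.finite_support hK.1 _)
  obtain ⟨_, ⟨c, rfl⟩, hc⟩ := ((Set.infinite_range_of_injective hQinj).sdiff hbadfin).nonempty
  simp only [bad, Set.mem_union, Set.mem_iUnion, Function.mem_support, not_or, not_exists, not_not] at hc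
  set P := Q c
  set t := s - algebraMap k K c
  have htr : Transcendental k t := fun h => hs (by simpa [t] using h.add (isAlgebraic_algebraMap c))
  have ht0 : t ≠ 0 := fun h => htr (h ▸ isAlgebraic_zero)
  have ht : P.1 t = exp (-1) := by
    obtain ⟨P₀, hP₀⟩ := Groth.Agent.H23Ext.exists_below (K := E) hE.1 P
    have he := (hbad P hc.1 P₀ hP₀).1
    let tE : E := ⟨t, sub_mem (IntermediateField.mem_adjoin_simple_self k s) (E.algebraMap_mem c)⟩
    have hEt : IntermediateField.adjoin k ({tE} : Set E) = ⊤ := by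
      apply IntermediateField.map_injective E.val
      rw [IntermediateField.adjoin_map, Set.image_singleton, ← AlgHom.fieldRange_eq_map,
        IntermediateField.fieldRange_val]
      change IntermediateField.adjoin k ({t} : Set K) = E
      refine le_antisymm ?_ ?_ <;> rw [IntermediateField.adjoin_le_iff, Set.singleton_subset_iff]
      · exact tE.2
      · have h1 := add_mem (IntermediateField.mem_adjoin_simple_self k t)
          ((IntermediateField.adjoin k ({t} : Set K)).algebraMap_mem c)
        rwa [sub_add_cancel] at h1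
    have htE : Transcendental k tE := fun h => htr h.algebraMap
    have htE0 : tE ≠ 0 := fun h => ht0 (congrArg Subtype.val h)
    have hv : P.1 t = P₀.1 tE := (he tE).trans (pow_one _)
    have hlt : P₀.1 tE < 1 := hv ▸ hQ c
    have hpos := (val_lt_one_iff P₀ htE0).1 hlt
    have h1 := sum_ord_mul_deg_le hE htE {P₀} (fun R hR => by rw [Finset.mem_singleton.1 hR]; exact hpos)
    rw [Finset.sum_singleton, hEt, IntermediateField.finrank_top] at h1
    push_cast at h1
    have h2 := deg_pos hE P₀
    rw [hv, val_eq_exp P₀ htE0]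
    congr 1
    nlinarith
  have hHt : LocRes.IsHasseFamily t H := by
    refine ⟨?_, hH.2⟩
    rw [map_sub, hH.1, AlgHom.commutes, PowerSeries.algebraMap_apply, map_sub]
    ring
  have hint : ∀ i, P.1 (φ i) ≤ 1 := fun i => (val_le_one_iff P (hφ.ne_zero i)).2 (ge_of_eq (hc.2 i))
  by_contra hne
  obtain ⟨i₀, hi₀⟩ := Function.ne_iff.1 hne
  haveI : Nonempty ι := ⟨i₀⟩
  obtain ⟨j, hj⟩ := exists_max P a
  have hj0 : a j ≠ 0 := max_ne_zero hj hi₀
  have h1 := taylor_independent hK ht hHt hφ hint (a := fun i => a i / a j)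
    (fun i => val_ratio_le_one hj0 hj i) (fun m => by
      have e : ∑ i, a i / a j * LocRes.hasseD H m (φ i) = (∑ i, a i * LocRes.hasseD H m (φ i)) / a j := by
        rw [Finset.sum_div]; exact Finset.sum_congr rfl fun i _ => by ring
      rw [e, h, zero_div, map_zero]; exact zero_lt_one) j
  rw [div_self hj0, map_one] at h1
  exact lt_irrefl _ h1

end Groth.Agent.H23Proj
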