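import Mathlib
import Groth.Prelude.Def_W4bk4goldsch45p2

/-!
Jumps of a sequence of vectors under triangular changes.
-/

set_option autoImplicit false

namespace Groth.Agent.H23Proj

variable {R : Type*} [Field R] {M : Type*} [AddCommGroup M] [Module R M] {c c' : ℕ → M} {u : ℕ → R}

theorem span_image_Iio_eq (hu : ∀ j, u j ≠ 0)
    (h : ∀ j, c' j - u j • c j ∈ Submodule.span R (c '' Set.Iio j)) (j : ℕ) :
    Submodule.span R (c' '' Set.Iio j) = Submodule.span R (c '' Set.Iio j) := by
  induction j with
  | zero => simp
  | succ j ih =>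
    have e : Set.Iio (j + 1) = insert j (Set.Iio j) := by ext x; simp
    rw [e, Set.image_insert_eq, Set.image_insert_eq, Submodule.span_insert, Submodule.span_insert, ih]
    refine le_antisymm (sup_le ?_ le_sup_right) (sup_le ?_ le_sup_right) <;>
      rw [Submodule.span_singleton_le_iff_mem]
    · rw [← add_sub_cancel (u j • c j) (c' j)]
      exact add_mem (Submodule.mem_sup_left (Submodule.smul_mem _ _ (Submodule.mem_span_singleton_self _)))
        (Submodule.mem_sup_right (h j))
    · have e2 : c j = (u j)⁻¹ • (c' j - (c' j - u j • c j)) := by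
        rw [sub_sub_cancel, smul_smul, inv_mul_cancel₀ (hu j), one_smul]
      rw [e2]
      exact Submodule.smul_mem _ _ (sub_mem (Submodule.mem_sup_left (Submodule.mem_span_singleton_self _))
        (Submodule.mem_sup_right (h j)))

theorem isJump_iff (hu : ∀ j, u j ≠ 0)
    (h : ∀ j, c' j - u j • c j ∈ Submodule.span R (c '' Set.Iio j)) (j : ℕ) :
    FunFld.IsJump R c' j ↔ FunFld.IsJump R c j := by
  rw [FunFld.IsJump, FunFld.IsJump, span_image_Iio_eq hu h]
  refine not_congr ⟨fun h1 => ?_, fun h1 => ?_⟩
  · have := sub_mem h1 (h j)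
    rw [sub_sub_cancel] at this
    have h2 := Submodule.smul_mem _ (u j)⁻¹ this
    rwa [smul_smul, inv_mul_cancel₀ (hu j), one_smul] at h2
  · rw [← add_sub_cancel (u j • c j) (c' j)]
    exact add_mem (Submodule.smul_mem _ _ h1) (h j)

theorem isOrders_iff (hu : ∀ j, u j ≠ 0)
    (h : ∀ j, c' j - u j • c j ∈ Submodule.span R (c '' Set.Iio j)) {n : ℕ} (J : Fin n → ℕ) :
    FunFld.IsOrders R c' J ↔ FunFld.IsOrders R c J := by
  simp only [FunFld.IsOrders, isJump_iff hu h]

/-- The selected columns span everything before. -/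
theorem span_image_Iio_le {m : ℕ} {idx : Fin m → ℕ}
    (hns : ∀ j, j ∉ Set.range idx → c j ∈ Submodule.span R (c '' Set.Iio j)) (j : ℕ) :
    Submodule.span R (c '' Set.Iio j) ≤
      Submodule.span R (Set.range fun a : Fin m => if idx a < j then c (idx a) else 0) := by
  induction j using Nat.strong_induction_on with
  | _ j ih =>
    rw [Submodule.span_le]
    rintro _ ⟨i, hi, rfl⟩
    have hmono : Submodule.span R (Set.range fun a : Fin m => if idx a < i then c (idx a) else 0) ≤
        Submodule.span R (Set.range fun a : Fin m => if idx a < j then c (idx a) else 0) := by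
      rw [Submodule.span_le]
      rintro _ ⟨a, rfl⟩
      simp only
      split_ifs with h
      · exact Submodule.subset_span ⟨a, if_pos (lt_trans h hi)⟩
      · exact zero_mem _
    by_cases hr : i ∈ Set.range idx
    · obtain ⟨a, rfl⟩ := hr
      exact Submodule.subset_span ⟨a, if_pos hi⟩
    · exact hmono (ih i hi (hns i hr))

/-- The determinant of the selected columns. -/
theorem det_selected {m : ℕ} {c c' : ℕ → Fin m → R} {u : ℕ → R} {idx : Fin m → ℕ} (hidx : StrictMono idx)
    (hns : ∀ j, j ∉ Set.range idx → c j ∈ Submodule.span R (c '' Set.Iio j))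
    (h : ∀ j, c' j - u j • c j ∈ Submodule.span R (c '' Set.Iio j)) :
    (Matrix.of fun i a => c' (idx a) i).det = (∏ a, u (idx a)) * (Matrix.of fun i a => c (idx a) i).det := by
  have hex : ∀ b, ∃ t : Fin m → R,
      ∑ a, t a • (if idx a < idx b then c (idx a) else 0) = c' (idx b) - u (idx b) • c (idx b) :=
    fun b => (Submodule.mem_span_range_iff_exists_fun R).1 (span_image_Iio_le hns _ (h (idx b)))
  choose t ht using hex
  let T : Matrix (Fin m) (Fin m) R :=
    Matrix.of fun a b => if a < b then t b a else if a = b then u (idx a) else 0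
  have hT : T.BlockTriangular id := fun a b hab => by
    have hab' : b < a := hab
    simp [T, not_lt.2 hab'.le, hab'.ne']
  have hdet : T.det = ∏ a, u (idx a) := by
    rw [Matrix.det_of_upperTriangular hT]
    exact Finset.prod_congr rfl fun a _ => by simp [T]
  have hmul : (Matrix.of fun i a => c' (idx a) i) = (Matrix.of fun i a => c (idx a) i) * T := by
    ext i b
    have h1 := congrFun (ht b) i
    simp only [Finset.sum_apply, Pi.smul_apply, Pi.sub_apply, smul_eq_mul] at h1
    rw [Matrix.mul_apply, Matrix.of_apply, show c' (idx b) i = u (idx b) * c (idx b) i +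
      ∑ a, t b a * (if idx a < idx b then c (idx a) else 0) i from by rw [h1]; ring]
    rw [← Finset.sum_ite_eq' Finset.univ b (fun a => u (idx a) * c (idx a) i) |>.trans (if_pos (Finset.mem_univ b)),
      ← Finset.sum_add_distrib]
    refine Finset.sum_congr rfl fun a _ => ?_
    simp only [Matrix.of_apply, T, hidx.lt_iff_lt]
    rcases lt_trichotomy a b with hab | rfl | hab
    · simp [hab, hab.ne, mul_comm]
    · simp [mul_comm]
    · simp [hab.ne', not_lt.2 hab.le]
  rw [hmul, Matrix.det_mul, hdet, mul_comm]

/-- A spanning sequence has an order sequence with independent columns. -/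
theorem exists_orders {n : ℕ} {c : ℕ → Fin (n + 1) → R} (h0 : c 0 ≠ 0)
    (hspan : Submodule.span R (Set.range c) = ⊤) :
    ∃ J : Fin n → ℕ, FunFld.IsOrders R c J ∧
      (Matrix.of fun i a => c (Fin.cases (motive := fun _ => ℕ) 0 (fun l => J l + 1) a) i).det ≠ 0 := by
  classical
  have hli : ∀ T : Finset ℕ, (∀ j ∈ T, FunFld.IsJump R c j) → LinearIndepOn R c (T : Set ℕ) := by
    intro T
    induction T using Finset.induction_on_max with
    | empty => simp [linearIndepOn_empty]
    | insert a T hlt ih =>
      intro hT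
      rw [Finset.coe_insert]
      refine (ih fun j hj => hT j (Finset.mem_insert_of_mem hj)).insert fun hmem => ?_
      exact hT a (Finset.mem_insert_self _ _) (Submodule.span_mono (Set.image_mono fun j hj => hlt j hj) hmem)
  have hcard : ∀ T : Finset ℕ, (∀ j ∈ T, FunFld.IsJump R c j) → T.card ≤ n + 1 := fun T hT => by
    simpa using (hli T hT).linearIndependent.fintype_card_le_finrank
  have hfin : {j | FunFld.IsJump R c j}.Finite := by
    by_contra hinf
    obtain ⟨T, hT, hTc⟩ := Set.Infinite.exists_subset_card_eq hinf (n + 2)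
    have := hcard T hT
    omega
  set S := hfin.toFinset
  have hmemS : ∀ j, j ∈ S ↔ FunFld.IsJump R c j := fun j => hfin.mem_toFinset
  have hsp : ∀ j, c j ∈ Submodule.span R (c '' (S : Set ℕ)) := by
    intro j
    induction j using Nat.strong_induction_on with
    | _ j ih =>
      by_cases hj : FunFld.IsJump R c j
      · exact Submodule.subset_span ⟨j, (hmemS j).2 hj, rfl⟩
      · refine Submodule.span_le.2 ?_ (not_not.1 hj)
        rintro _ ⟨i, hi, rfl⟩
        exact ih i hi
  have hS : S.card = n + 1 := by
    refine le_antisymm (hcard S fun j hj => (hmemS j).1 hj) ?_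
    have htop : Submodule.span R ((S.image c : Finset (Fin (n + 1) → R)) : Set (Fin (n + 1) → R)) = ⊤ := by
      rw [Finset.coe_image, eq_top_iff, ← hspan, Submodule.span_le]
      exact Set.range_subset_iff.2 hsp
    have h1 := finrank_span_finset_le_card (R := R) (S.image c)
    rw [Set.finrank, htop, finrank_top, Module.finrank_fin_fun] at h1
    exact h1.trans Finset.card_image_le
  let e := S.orderEmbOfFin hS
  have h0S : 0 ∈ S := (hmemS 0).2 (by simpa [FunFld.IsJump] using h0)
  have hrange : ∀ j, (∃ a, e a = j) ↔ FunFld.IsJump R c j := fun j => by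
    rw [← hmemS, ← Finset.mem_coe, ← Finset.range_orderEmbOfFin S hS]
    rfl
  have he0 : e 0 = 0 := by
    obtain ⟨a, ha⟩ := (hrange 0).2 ((hmemS 0).1 h0S)
    exact Nat.eq_zero_of_le_zero ((e.monotone (Fin.zero_le a)).trans_eq ha)
  have hpos : ∀ l : Fin n, 0 < e l.succ := fun l => by
    have := e.strictMono (Fin.succ_pos l)
    rwa [he0] at this
  refine ⟨fun l => e l.succ - 1, ⟨fun a b hab => ?_, fun j => ⟨?_, fun hj => ?_⟩⟩, ?_⟩
  · have h1 := e.strictMono (Fin.succ_lt_succ_iff.2 hab)
    have h2 := hpos a
    show e a.succ - 1 < e b.succ - 1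
    omega
  · rintro ⟨l, rfl⟩
    simp only [Nat.sub_add_cancel (hpos l)]
    exact (hrange _).1 ⟨_, rfl⟩
  · obtain ⟨a, ha⟩ := (hrange _).2 hj
    cases a using Fin.cases with
    | zero => omega
    | succ l => exact ⟨l, by simp [ha]⟩
  · have hidx : ∀ a, Fin.cases (motive := fun _ => ℕ) 0 (fun l => e l.succ - 1 + 1) a = e a := fun a => by
      cases a using Fin.cases with
      | zero => simp [he0]
      | succ l => simp [Nat.sub_add_cancel (hpos l)]
    simp only [hidx]
    have hind : LinearIndependent R fun a => c (e a) := by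
      have h1 := (hli S fun j hj => (hmemS j).1 hj).linearIndependent
      exact h1.comp (fun a => ⟨e a, by simp [e]⟩) fun a b hab => e.injective (Subtype.ext_iff.1 hab)
    have hu := (Matrix.linearIndependent_cols_iff_isUnit (A := Matrix.of fun i a => c (e a) i)).1 hind
    exact ((Matrix.isUnit_iff_isUnit_det _).1 hu).ne_zero

end Groth.Agent.H23Proj
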