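import Mathlib
import Groth.Agent.H23Proj.Jumps
import Groth.Agent.H23Proj.Hasse
import Groth.Prelude.Def_W4bk4goldsch45p2

/-!
Orders at a place.
-/

set_option autoImplicit false
set_option linter.unusedSectionVars false
set_option linter.style.haveILetI false

namespace Groth.Agent.H23Proj

open WithZero Groth.Agent.H23FunFld

section Linear

variable {R : Type*} [Field R] {n : ℕ} {c : ℕ → Fin (n + 1) → R}

/-- The column indices selected by an order sequence. -/
def idx {n : ℕ} (J : Fin n → ℕ) : Fin (n + 1) → ℕ := Fin.cases (motive := fun _ => ℕ) 0 fun l => J l + 1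

@[simp] theorem idx_zero {n : ℕ} (J : Fin n → ℕ) : idx J 0 = 0 := rfl

@[simp] theorem idx_succ {n : ℕ} (J : Fin n → ℕ) (l : Fin n) : idx J l.succ = J l + 1 := by simp [idx]

theorem idx_strictMono {n : ℕ} {J : Fin n → ℕ} (hJ : StrictMono J) : StrictMono (idx J) := by
  intro a b hab
  induction b using Fin.cases with
  | zero => simp at hab
  | succ b =>
    induction a using Fin.cases with
    | zero => simp
    | succ a => simpa using hJ (Fin.succ_lt_succ_iff.1 hab)

theorem mem_span_of_notMem_idx {J : Fin n → ℕ} (hJ : FunFld.IsOrders R c J) (j : ℕ)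
    (hj : j ∉ Set.range (idx J)) : c j ∈ Submodule.span R (c '' Set.Iio j) := by
  rcases j with _ | m
  · exact absurd ⟨0, rfl⟩ hj
  · by_contra hno
    obtain ⟨l, hl⟩ := (hJ.2 m).2 hno
    exact hj ⟨l.succ, by simp [hl]⟩

/-- The orders are bounded by any sequence with independent columns. -/
theorem orders_le {J J' : Fin n → ℕ} (hJ : FunFld.IsOrders R c J) (hJ' : StrictMono J')
    (h : (Matrix.of fun i a => c (idx J' a) i).det ≠ 0) (l : Fin n) : J l ≤ J' l := by
  classical
  by_contra hlt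
  rw [not_le] at hlt
  have hind : LinearIndependent R fun a : Fin (n + 1) => c (idx J' a) :=
    (Matrix.linearIndependent_cols_iff_isUnit (A := Matrix.of fun i a => c (idx J' a) i)).2
      ((Matrix.isUnit_iff_isUnit_det _).2 (isUnit_iff_ne_zero.2 h))
  let ι := {a : Fin (n + 1) // a ≤ l.succ}
  have hind' : LinearIndependent R fun a : ι => c (idx J' a) := hind.comp _ Subtype.val_injective
  set j := J l + 1
  let T : Finset (Fin (n + 1) → R) := (Finset.Iic l.castSucc).image fun b => c (idx J b)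
  have hsub : Submodule.span R (c '' Set.Iio j) ≤ Submodule.span R (T : Set (Fin (n + 1) → R)) := by
    refine (span_image_Iio_le (mem_span_of_notMem_idx hJ) j).trans (Submodule.span_le.2 ?_)
    rintro _ ⟨b, rfl⟩
    dsimp only
    split_ifs with hb
    · refine Submodule.subset_span (Finset.mem_image.2 ⟨b, Finset.mem_Iic.2 (Fin.le_castSucc_iff.2 ?_), rfl⟩)
      rw [← (idx_strictMono hJ.1).lt_iff_lt, idx_succ]
      exact hb
    · exact zero_mem _
  have hall : Set.range (fun a : ι => c (idx J' a)) ⊆ Submodule.span R (T : Set (Fin (n + 1) → R)) := by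
    rintro _ ⟨a, rfl⟩
    refine hsub (Submodule.subset_span ⟨_, ?_, rfl⟩)
    have h1 := (idx_strictMono hJ').monotone a.2
    rw [idx_succ] at h1
    simp only [Set.mem_Iio, j]
    omega
  have h1 := finrank_span_eq_card hind'
  have h2 := Submodule.finrank_mono (Submodule.span_le.2 hall)
  have h3 := (finrank_span_finset_le_card (R := R) T).trans Finset.card_image_le
  rw [h1] at h2
  rw [Set.finrank] at h3
  have hc1 : Fintype.card ι = l.val + 2 := by
    rw [Fintype.card_subtype]
    have : Finset.univ.filter (fun a : Fin (n + 1) => a ≤ l.succ) = Finset.Iic l.succ := by ext; simp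
    rw [this, Fin.card_Iic, Fin.val_succ]
  rw [Fin.card_Iic, Fin.val_castSucc] at h3
  omega

theorem orders_unique {J J' : Fin n → ℕ} (hJ : FunFld.IsOrders R c J) (hJ' : FunFld.IsOrders R c J') :
    J = J' := by
  refine (hJ.1.range_inj hJ'.1).1 ?_
  ext j
  rw [hJ.2, hJ'.2]

theorem isJump_iff_exists_functional {M : Type*} [AddCommGroup M] [Module R M] (v : ℕ → M) (j : ℕ) :
    FunFld.IsJump R v j ↔ ∃ g : M →ₗ[R] R, (∀ m < j, g (v m) = 0) ∧ g (v j) ≠ 0 := by
  constructor
  · intro h
    obtain ⟨g, hg, hg'⟩ := Submodule.exists_dual_map_eq_bot_of_notMem h inferInstance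
    refine ⟨g, fun m hm => ?_, hg⟩
    have := Submodule.mem_map_of_mem (f := g) (Submodule.subset_span (R := R) (Set.mem_image_of_mem v (Set.mem_Iio.2 hm)))
    rwa [hg', Submodule.mem_bot] at this
  · rintro ⟨g, hg, hgj⟩ hmem
    refine hgj ?_
    have : Submodule.span R (v '' Set.Iio j) ≤ LinearMap.ker g :=
      Submodule.span_le.2 (Set.image_subset_iff.2 fun m hm => hg m hm)
    exact this hmem

end Linear

section Eval

variable {k K : Type*} [Field k] [Field K] [Algebra k K] {P : FunFld.Place k K}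

theorem evalP_eq {z : K} (hz : P.1 z ≤ 1) :
    FunFld.evalP P z = IsLocalRing.residue P.O ⟨z, hz⟩ := dif_pos hz

theorem evalP_eq_zero_iff {z : K} (hz : P.1 z ≤ 1) : FunFld.evalP P z = 0 ↔ P.1 z < 1 := by
  rw [evalP_eq hz, IsLocalRing.residue_eq_zero_iff, IsLocalRing.mem_maximalIdeal, mem_nonunits_iff,
    show IsUnit (⟨z, hz⟩ : P.O) ↔ P.1 z = 1 from
      Valuation.Integers.isUnit_iff_valuation_eq_one (Valuation.integer.integers P.1)]
  exact ⟨fun h => lt_of_le_of_ne hz h, fun h => h.ne⟩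

theorem evalP_const (c : k) : FunFld.evalP P (algebraMap k K c) =
    algebraMap k (IsLocalRing.ResidueField P.O) c := dif_pos (P.2.1 c)

theorem evalP_mul {x y : K} (hx : P.1 x ≤ 1) (hy : P.1 y ≤ 1) :
    FunFld.evalP P (x * y) = FunFld.evalP P x * FunFld.evalP P y := by
  rw [evalP_eq hx, evalP_eq hy, evalP_eq ((map_mul P.1 x y).trans_le (mul_le_one' hx hy))]
  exact map_mul (IsLocalRing.residue P.O) ⟨x, hx⟩ ⟨y, hy⟩

theorem evalP_smul (c : k) {x : K} (hx : P.1 x ≤ 1) :
    FunFld.evalP P (c • x) = algebraMap k (IsLocalRing.ResidueField P.O) c * FunFld.evalP P x := by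
  rw [Algebra.smul_def, evalP_mul (P.2.1 c) hx, evalP_const]

theorem evalP_sum {ι : Type*} (s : Finset ι) {f : ι → K} (hf : ∀ i ∈ s, P.1 (f i) ≤ 1) :
    FunFld.evalP P (∑ i ∈ s, f i) = ∑ i ∈ s, FunFld.evalP P (f i) := by
  classical
  induction s using Finset.induction_on with
  | empty => rw [Finset.sum_empty, Finset.sum_empty, evalP_eq_zero_iff (by simp)]; simp
  | insert a s has ih =>
    have ha := hf a (Finset.mem_insert_self _ _)
    have hs : P.1 (∑ i ∈ s, f i) ≤ 1 := P.1.map_sum_le fun i hi => hf i (Finset.mem_insert_of_mem hi)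
    rw [Finset.sum_insert has, Finset.sum_insert has, ← ih fun i hi => hf i (Finset.mem_insert_of_mem hi),
      evalP_eq ha, evalP_eq hs, evalP_eq ((P.1.map_add _ _).trans (max_le ha hs)), ← map_add]
    rfl

theorem evalP_eq_of_sub_lt {x y : K} (hx : P.1 x ≤ 1) (hy : P.1 y ≤ 1) (h : P.1 (x - y) < 1) :
    FunFld.evalP P x = FunFld.evalP P y := by
  rw [evalP_eq hx, evalP_eq hy, ← sub_eq_zero, ← map_sub, IsLocalRing.residue_eq_zero_iff,
    IsLocalRing.mem_maximalIdeal, mem_nonunits_iff]
  exact fun hu => h.ne ((Valuation.Integers.isUnit_iff_valuation_eq_one (Valuation.integer.integers P.1)).1 hu)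

theorem hasseD_sum {ι : Type*} (s : Finset ι) (H : K →ₐ[k] PowerSeries K) (a : ι → k) (f : ι → K) (j : ℕ) :
    LocRes.hasseD H j (∑ i ∈ s, a i • f i) = ∑ i ∈ s, a i • LocRes.hasseD H j (f i) := by
  simp only [LocRes.hasseD_apply, map_sum, map_smul]
  refine Finset.sum_congr rfl fun i _ => ?_
  rw [Algebra.smul_def, PowerSeries.algebraMap_apply, PowerSeries.coeff_C_mul, ← Algebra.smul_def]

end Eval

section Place

variable {k K : Type*} [Field k] [Field K] [Algebra k K] [IsAlgClosed k] (hK : FunFld.IsFunctionField k K)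
  {P : FunFld.Place k K} {t : K} (ht : P.1 t = exp (-1)) {H : K →ₐ[k] PowerSeries K}
  (hH : LocRes.IsHasseFamily t H)

include hK ht hH

/-- The leading term of a Hasse derivative. -/
theorem val_hasseD_pow_mul_sub {u : K} (hu : P.1 u ≤ 1) (J I : ℕ) :
    P.1 (LocRes.hasseD H I (t ^ J * u) - (J.choose I : K) * t ^ ((J : ℤ) - I) * u) ≤
      exp (-((J : ℤ) - I + 1)) := by
  classical
  have hcoeff : ∀ a, PowerSeries.coeff a (H (t ^ J)) = t ^ (J - a) * (J.choose a : K) := fun a => by
    rw [map_pow, hH.1, ← Polynomial.coe_C, ← Polynomial.coe_X, ← Polynomial.coe_add, ← Polynomial.coe_pow,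
      Polynomial.coeff_coe, add_comm, Polynomial.coeff_X_add_C_pow]
  rw [LocRes.hasseD_apply, map_mul, PowerSeries.coeff_mul,
    ← Finset.add_sum_erase _ _ (Finset.HasAntidiagonal.mem_antidiagonal.2 (add_zero I) :
      (I, 0) ∈ Finset.HasAntidiagonal.antidiagonal I)]
  have hfirst : PowerSeries.coeff I (H (t ^ J)) * PowerSeries.coeff 0 (H u) =
      (J.choose I : K) * t ^ ((J : ℤ) - I) * u := by
    rw [hcoeff, show PowerSeries.coeff 0 (H u) = u from hasseD_zero hH u]
    rcases le_or_gt I J with hle | hlt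
    · rw [← Nat.cast_sub hle, zpow_natCast]; ring
    · rw [Nat.choose_eq_zero_of_lt hlt]; simp
  rw [hfirst, add_sub_cancel_left]
  refine P.1.map_sum_le fun p hp => ?_
  obtain ⟨hpne, hp⟩ := Finset.mem_erase.1 hp
  have hp' := Finset.HasAntidiagonal.mem_antidiagonal.1 hp
  have hlt : p.1 < I := by
    obtain ⟨a, b⟩ := p
    simp only [ne_eq, Prod.mk.injEq, not_and_or] at hpne hp' ⊢
    omega
  rw [hcoeff, map_mul, map_mul, map_pow, ht]
  rcases lt_or_ge J p.1 with h | h
  · rw [Nat.choose_eq_zero_of_lt h, Nat.cast_zero, map_zero, mul_zero, zero_mul]; exact zero_le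
  refine (mul_le_of_le_one_right zero_le (val_hasseD_le hK ht hH _ hu)).trans ?_
  refine (mul_le_of_le_one_right zero_le ?_).trans ?_
  · rw [← map_natCast (algebraMap k K)]; exact P.2.1 _
  · rw [← exp_nsmul, exp_le_exp, nsmul_eq_mul]
    push_cast [Nat.cast_sub h]
    omega

/-- Orders are read off the values of the Hasse derivatives. -/
theorem taylor_of_val {f : K} {m : ℕ} (hf : P.1 f = exp (-(m : ℤ))) :
    (∀ j < m, FunFld.evalP P (LocRes.hasseD H j f) = 0) ∧
      FunFld.evalP P (LocRes.hasseD H m f) = FunFld.evalP P (f / t ^ m) ∧ FunFld.evalP P (f / t ^ m) ≠ 0 := by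
  have ht0 : t ≠ 0 := fun h => exp_ne_zero (by rw [← ht, h, map_zero])
  have hu : P.1 (f / t ^ m) = 1 := by
    rw [map_div₀, map_pow, hf, ht, ← exp_nsmul, ← exp_sub, ← exp_zero]
    congr 1; simp
  have hint : ∀ j, P.1 (LocRes.hasseD H j f) ≤ 1 := fun j => val_hasseD_le hK ht hH j (by
    rw [hf, ← exp_zero, exp_le_exp]; omega)
  have e : t ^ m * (f / t ^ m) = f := mul_div_cancel₀ _ (pow_ne_zero _ ht0)
  refine ⟨fun j hj => ?_, ?_, fun h => ?_⟩
  · rw [evalP_eq_zero_iff (hint j)]
    have h1 := val_hasseD_pow_mul_sub hK ht hH hu.le m j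
    rw [e] at h1
    have h2 : P.1 ((m.choose j : K) * t ^ ((m : ℤ) - j) * (f / t ^ m)) ≤ exp (-1) := by
      rw [map_mul, hu, mul_one, map_mul, map_zpow₀, ht, ← exp_zsmul]
      refine (mul_le_of_le_one_left zero_le ?_).trans ?_
      · rw [← map_natCast (algebraMap k K)]; exact P.2.1 _
      · rw [exp_le_exp]; simp; omega
    rw [show LocRes.hasseD H j f = (LocRes.hasseD H j f - (m.choose j : K) * t ^ ((m : ℤ) - j) * (f / t ^ m)) +
      (m.choose j : K) * t ^ ((m : ℤ) - j) * (f / t ^ m) by ring]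
    refine ((P.1.map_add _ _).trans (max_le (h1.trans ?_) h2)).trans_lt (by rw [← exp_zero, exp_lt_exp]; omega)
    rw [exp_le_exp]; omega
  · refine evalP_eq_of_sub_lt (hint m) hu.le ?_
    have h1 := val_hasseD_pow_mul_sub hK ht hH hu.le m m
    rw [e, Nat.choose_self, Nat.cast_one, sub_self, zpow_zero, one_mul, one_mul] at h1
    exact h1.trans_lt (by rw [← exp_zero, exp_lt_exp]; omega)
  · rw [evalP_eq_zero_iff hu.le, hu] at h
    exact lt_irrefl _ h

theorem val_eq_of_taylor {f : K} (hf : P.1 f ≤ 1) {j : ℕ}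
    (hlt : ∀ m < j, FunFld.evalP P (LocRes.hasseD H m f) = 0)
    (hj : FunFld.evalP P (LocRes.hasseD H j f) ≠ 0) : P.1 f = exp (-(j : ℤ)) := by
  have hf0 : f ≠ 0 := fun h => hj (by
    rw [h, LocRes.hasseD_apply, map_zero, map_zero, evalP_eq_zero_iff (by simp)]; simp)
  obtain ⟨m, hm⟩ : ∃ m : ℕ, P.1 f = exp (-(m : ℤ)) :=
    ⟨(P.ord f).toNat, by rw [Int.toNat_of_nonneg ((val_le_one_iff P hf0).1 hf), ← val_eq_exp P hf0]⟩
  obtain ⟨h1, h2, h3⟩ := taylor_of_val hK ht hH hm
  rcases lt_trichotomy m j with h | rfl | h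
  · exact absurd (h2 ▸ hlt m h) h3
  · exact hm
  · exact absurd (h1 j h) hj

theorem exists_algebraMap_eq (r : IsLocalRing.ResidueField P.O) :
    ∃ a : k, algebraMap k (IsLocalRing.ResidueField P.O) a = r := by
  obtain ⟨z, rfl⟩ := IsLocalRing.residue_surjective r
  obtain ⟨c, hc⟩ := eq_one_of_isAlgClosed hK P z.2
  refine ⟨c, ?_⟩
  rw [← evalP_const, ← evalP_eq_of_sub_lt z.2 (P.2.1 c) hc, evalP_eq z.2]

variable {n : ℕ} {φ : Fin (n + 1) → K} (hnorm : ∀ i, P.1 (φ i) ≤ 1)

include hnorm

theorem val_comb_le (a : Fin (n + 1) → k) : P.1 (∑ i, a i • φ i) ≤ 1 :=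
  P.1.map_sum_le fun i _ => (val_smul_le P _ _).trans (hnorm i)

theorem functional_hcolAt (g : (Fin (n + 1) → IsLocalRing.ResidueField P.O) →ₗ[IsLocalRing.ResidueField P.O]
      IsLocalRing.ResidueField P.O) (a : Fin (n + 1) → k)
    (ha : ∀ i, algebraMap k _ (a i) = g (Pi.single i 1)) :
    g (FunFld.hcolAt P H φ 0) = FunFld.evalP P (∑ i, a i • φ i) ∧
      ∀ m, g (FunFld.hcolAt P H φ (m + 1)) = FunFld.evalP P (LocRes.hasseD H m (∑ i, a i • φ i)) := by
  classical
  have hexp : ∀ v : Fin (n + 1) → IsLocalRing.ResidueField P.O,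
      g v = ∑ i, algebraMap k _ (a i) * v i := fun v => by
    conv_lhs => rw [pi_eq_sum_univ v, map_sum]
    refine Finset.sum_congr rfl fun i _ => ?_
    rw [map_smul, smul_eq_mul, mul_comm, ha]
    congr 2
    funext j
    simp [Pi.single_apply, eq_comm]
  refine ⟨?_, fun m => ?_⟩
  · rw [hexp, evalP_sum _ fun i _ => (val_smul_le P _ _).trans (hnorm i)]
    exact Finset.sum_congr rfl fun i _ => by rw [evalP_smul _ (hnorm i)]; rfl
  · rw [hexp, hasseD_sum, evalP_sum _ fun i _ => (val_smul_le P _ _).trans (val_hasseD_le hK ht hH m (hnorm i))]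
    exact Finset.sum_congr rfl fun i _ => by
      rw [evalP_smul _ (val_hasseD_le hK ht hH m (hnorm i))]; rfl

/-- The jumps at a place are the positive orders of members of the span. -/
theorem isJump_hcolAt_iff (j : ℕ) :
    FunFld.IsJump (IsLocalRing.ResidueField P.O) (FunFld.hcolAt P H φ) (j + 1) ↔
      0 < j ∧ ∃ f ∈ Submodule.span k (Set.range φ), P.1 f = exp (-(j : ℤ)) := by
  classical
  rw [isJump_iff_exists_functional]
  constructor
  · rintro ⟨g, hg, hgj⟩
    choose a ha using fun i => exists_algebraMap_eq hK ht hH (g (Pi.single i 1))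
    obtain ⟨h0, hsucc⟩ := functional_hcolAt hK ht hH hnorm g a ha
    rw [hsucc] at hgj
    have hlow : ∀ m < j, FunFld.evalP P (LocRes.hasseD H m (∑ i, a i • φ i)) = 0 := fun m hm => by
      rw [← hsucc]; exact hg _ (by omega)
    refine ⟨Nat.pos_of_ne_zero fun hj => hgj ?_, _, (Submodule.mem_span_range_iff_exists_fun k).2 ⟨a, rfl⟩,
      val_eq_of_taylor hK ht hH (val_comb_le hK ht hH hnorm a) hlow hgj⟩
    subst hj
    rw [hasseD_zero hH, ← h0]
    exact hg 0 (by omega)
  · rintro ⟨hj, f, hf, hfv⟩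
    obtain ⟨a, rfl⟩ := (Submodule.mem_span_range_iff_exists_fun k).1 hf
    obtain ⟨h1, h2, h3⟩ := taylor_of_val hK ht hH hfv
    let g : (Fin (n + 1) → IsLocalRing.ResidueField P.O) →ₗ[IsLocalRing.ResidueField P.O]
        IsLocalRing.ResidueField P.O :=
      ∑ i, algebraMap k (IsLocalRing.ResidueField P.O) (a i) • LinearMap.proj i
    obtain ⟨hg0, hgsucc⟩ := functional_hcolAt hK ht hH hnorm g a fun i => by
      simp [g, LinearMap.sum_apply, Pi.single_apply, Finset.sum_ite_eq']
    refine ⟨g, fun m hm => ?_, by rw [hgsucc, h2]; exact h3⟩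
    rcases m with _ | m
    · rw [hg0, ← hasseD_zero hH (∑ i, a i • φ i)]
      exact h1 0 hj
    · rw [hgsucc]; exact h1 m (by omega)

theorem exists_ordersAt (hφ : LinearIndependent k φ) (h1 : (1 : K) ∈ Submodule.span k (Set.range φ)) :
    ∃ J : Fin n → ℕ, FunFld.IsOrders (IsLocalRing.ResidueField P.O) (FunFld.hcolAt P H φ) J := by
  classical
  have hc0 : FunFld.hcolAt P H φ 0 ≠ 0 := by
    obtain ⟨a, ha⟩ := (Submodule.mem_span_range_iff_exists_fun k).1 h1
    intro h
    have : FunFld.evalP P (∑ i, a i • φ i) = 0 := by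
      rw [evalP_sum _ fun i _ => (val_smul_le P _ _).trans (hnorm i)]
      refine Finset.sum_eq_zero fun i _ => ?_
      rw [evalP_smul _ (hnorm i), show FunFld.evalP P (φ i) = 0 from congrFun h i, mul_zero]
    rw [ha, evalP_eq_zero_iff (map_one _).le, map_one] at this
    exact lt_irrefl _ this
  obtain ⟨J, hJ, -⟩ := exists_orders hc0 (by
    by_contra hne
    obtain ⟨g, hg0, hg⟩ := Submodule.exists_dual_map_eq_bot_of_lt_top (lt_top_iff_ne_top.2 hne) inferInstance
    choose a ha using fun i => exists_algebraMap_eq hK ht hH (g (Pi.single i 1))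
    obtain ⟨h0, hsucc⟩ := functional_hcolAt hK ht hH hnorm g a ha
    have hz : ∑ i, a i • φ i = 0 := eq_zero_of_taylor hK ht hH (val_comb_le hK ht hH hnorm a) fun j => by
      rw [← evalP_eq_zero_iff (val_hasseD_le hK ht hH j (val_comb_le hK ht hH hnorm a)), ← hsucc]
      have := Submodule.mem_map_of_mem (f := g) (Submodule.subset_span
        (R := IsLocalRing.ResidueField P.O) (Set.mem_range_self (f := FunFld.hcolAt P H φ) (j + 1)))
      rwa [hg, Submodule.mem_bot] at this
    refine hg0 (LinearMap.ext fun v => ?_)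
    rw [pi_eq_sum_univ v, map_sum, LinearMap.zero_apply]
    refine Finset.sum_eq_zero fun i _ => ?_
    rw [map_smul, show (fun j => if i = j then (1 : IsLocalRing.ResidueField P.O) else 0) = Pi.single i 1 by
      funext j; simp [Pi.single_apply, eq_comm], ← ha, Fintype.linearIndependent_iff.1 hφ a hz i, map_zero,
      smul_zero])
  exact ⟨J, hJ⟩

variable {J' : Fin n → ℕ} (hJ' : FunFld.IsOrders (IsLocalRing.ResidueField P.O) (FunFld.hcolAt P H φ) J')

include hJ'

theorem ordersAt_pos (l : Fin n) : 0 < J' l :=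
  ((isJump_hcolAt_iff hK ht hH hnorm _).1 ((hJ'.2 _).1 ⟨l, rfl⟩)).1

theorem mem_ordersAt_iff (h1 : (1 : K) ∈ Submodule.span k (Set.range φ)) (j : ℕ) :
    (j = 0 ∨ j ∈ Set.range J') ↔ ∃ f ∈ Submodule.span k (Set.range φ), P.1 f = exp (-(j : ℤ)) := by
  rw [hJ'.2, isJump_hcolAt_iff hK ht hH hnorm]
  rcases Nat.eq_zero_or_pos j with rfl | hj
  · simp only [true_or, true_iff]
    exact ⟨1, h1, by simp⟩
  · simp [hj, hj.ne']

/-- A basis adapted to the orders at the place. -/
theorem exists_adapted (hφ : LinearIndependent k φ) (h1 : (1 : K) ∈ Submodule.span k (Set.range φ)) :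
    ∃ φ' : Fin (n + 1) → K, φ' 0 = 1 ∧ LinearIndependent k φ' ∧
      Submodule.span k (Set.range φ') = Submodule.span k (Set.range φ) ∧
      ∀ l : Fin n, P.1 (φ' l.succ) = exp (-(J' l : ℤ)) ∧ P.1 (φ' l.succ / t ^ J' l - 1) < 1 := by
  classical
  have ht0 : t ≠ 0 := fun h => exp_ne_zero (by rw [← ht, h, map_zero])
  have hex : ∀ l : Fin n, ∃ f ∈ Submodule.span k (Set.range φ),
      P.1 f = exp (-(J' l : ℤ)) ∧ P.1 (f / t ^ J' l - 1) < 1 := by
    intro l
    obtain ⟨f, hf, hfv⟩ := (mem_ordersAt_iff hK ht hH hnorm hJ' h1 _).1 (Or.inr ⟨l, rfl⟩)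
    have hu : P.1 (f / t ^ J' l) = 1 := by
      rw [map_div₀, map_pow, hfv, ht, ← exp_nsmul, ← exp_sub, ← exp_zero]
      congr 1; simp
    obtain ⟨c, hc⟩ := eq_one_of_isAlgClosed hK P hu.le
    have hc0 : c ≠ 0 := fun h => by rw [h, map_zero, sub_zero, hu] at hc; exact lt_irrefl _ hc
    refine ⟨c⁻¹ • f, Submodule.smul_mem _ _ hf, ?_, ?_⟩
    · rw [Algebra.smul_def, map_mul, val_const P (inv_ne_zero hc0), one_mul, hfv]
    · rw [Algebra.smul_def, show algebraMap k K c⁻¹ * f / t ^ J' l - 1 =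
        algebraMap k K c⁻¹ * (f / t ^ J' l - algebraMap k K c) by
          rw [mul_sub, ← map_mul, inv_mul_cancel₀ hc0, map_one, mul_div_assoc], map_mul,
        val_const P (inv_ne_zero hc0), one_mul]
      exact hc
  choose f hf hfv hf1 using hex
  let φ' : Fin (n + 1) → K := Fin.cases (motive := fun _ => K) 1 f
  let ord' : Fin (n + 1) → ℕ := Fin.cases (motive := fun _ => ℕ) 0 J'
  have hval : ∀ a, P.1 (φ' a) = exp (-(ord' a : ℤ)) := by
    intro a
    induction a using Fin.cases with
    | zero => simp [φ', ord']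
    | succ l => simp [φ', ord', hfv]
  have hinj : Function.Injective ord' := by
    intro a b hab
    induction a using Fin.cases with
    | zero =>
      induction b using Fin.cases with
      | zero => rfl
      | succ l => simp only [ord', Fin.cases_zero, Fin.cases_succ] at hab; exact absurd hab.symm (ordersAt_pos hK ht hH hnorm hJ' l).ne'
    | succ l =>
      induction b using Fin.cases with
      | zero => simp only [ord', Fin.cases_zero, Fin.cases_succ] at hab; exact absurd hab (ordersAt_pos hK ht hH hnorm hJ' l).ne'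
      | succ m => simp only [ord', Fin.cases_succ] at hab; rw [hJ'.1.injective hab]
  have hLI : LinearIndependent k φ' := by
    rw [Fintype.linearIndependent_iff]
    intro a ha
    by_contra hne
    simp only [not_forall] at hne
    obtain ⟨i₀, hi₀, hmin⟩ := Finset.exists_min_image (Finset.univ.filter fun i => a i ≠ 0) ord'
      (by obtain ⟨i, hi⟩ := hne; exact ⟨i, by simpa using hi⟩)
    have hi₀' : a i₀ ≠ 0 := (Finset.mem_filter.1 hi₀).2
    have h := congrArg P.1 ha
    rw [← Finset.add_sum_erase _ _ (Finset.mem_univ i₀), map_zero] at h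
    have hv : P.1 (a i₀ • φ' i₀) = exp (-(ord' i₀ : ℤ)) := by
      rw [Algebra.smul_def, map_mul, val_const P hi₀', one_mul, hval]
    rw [P.1.map_add_eq_of_lt_left, hv] at h
    · exact exp_ne_zero h
    rw [hv]
    refine P.1.map_sum_lt exp_ne_zero fun i hi => ?_
    rcases eq_or_ne (a i) 0 with h0 | h0
    · rw [h0, zero_smul, map_zero]; exact zero_lt_iff.2 exp_ne_zero
    rw [Algebra.smul_def, map_mul, val_const P h0, one_mul, hval, exp_lt_exp]
    have h1 := hmin i (Finset.mem_filter.2 ⟨Finset.mem_univ _, h0⟩)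
    have h2 : ord' i₀ ≠ ord' i := fun e => (Finset.mem_erase.1 hi).1 (hinj e).symm
    omega
  refine ⟨φ', rfl, hLI, ?_, fun l => ⟨by simpa [φ'] using hfv l, by simpa [φ'] using hf1 l⟩⟩
  haveI : FiniteDimensional k (Submodule.span k (Set.range φ)) :=
    FiniteDimensional.span_of_finite k (Set.finite_range φ)
  refine Submodule.eq_of_le_of_finrank_le (Submodule.span_le.2 (Set.range_subset_iff.2 fun a => ?_)) ?_
  · induction a using Fin.cases with
    | zero => simpa [φ'] using h1
    | succ l => simpa [φ'] using hf l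
  · rw [finrank_span_eq_card hLI]
    exact (finrank_range_le_card φ).trans_eq (by simp)

end Place

end Groth.Agent.H23Proj
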