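import Mathlib
import Groth.Agent.H23Proj.Orders
import Groth.Agent.S12596
import Groth.Agent.S12598

/-!
The order of a Wronskian at a fixed point.
-/

set_option autoImplicit false
set_option linter.unusedSectionVars false
set_option linter.style.haveILetI false

namespace Groth.Agent.H23Proj

open WithZero Groth.Agent.H23FunFld

variable {k K : Type*} [Field k] [Field K] [Algebra k K] {n : ℕ}

theorem exists_matrix {φ φ' : Fin (n + 1) → K} (hφ' : LinearIndependent k φ')
    (h : ∀ i, φ' i ∈ Submodule.span k (Set.range φ)) :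
    ∃ A : Matrix (Fin (n + 1)) (Fin (n + 1)) k, A.det ≠ 0 ∧ ∀ i, φ' i = ∑ j, A i j • φ j := by
  classical
  choose A hA using fun i => (Submodule.mem_span_range_iff_exists_fun k).1 (h i)
  refine ⟨Matrix.of A, fun hdet => ?_, fun i => (hA i).symm⟩
  obtain ⟨v, hv0, hv⟩ := Matrix.exists_vecMul_eq_zero_iff.2 hdet
  refine hv0 (funext (Fintype.linearIndependent_iff.1 hφ' v ?_))
  simp only [← hA, Finset.smul_sum, smul_smul]
  rw [Finset.sum_comm]
  refine Finset.sum_eq_zero fun j _ => ?_
  rw [← Finset.sum_smul, show ∑ i, v i * A i j = 0 from congrFun hv j, zero_smul]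

theorem wrMat_eq (τ : K →ₐ[k] K) (G : K →ₐ[k] PowerSeries K) (φ : Fin (n + 1) → K) (J : Fin n → ℕ) :
    FunFld.wrMat τ G φ J = Matrix.of fun i a => FunFld.hcol τ G φ (idx J a) i := by
  ext i a
  induction a using Fin.cases <;> simp [FunFld.wrMat, idx, FunFld.hcol]

/-- Scaling a map by a function. -/
theorem orders_smul (τ : K →ₐ[k] K) {s : K} {H : K →ₐ[k] PowerSeries K} (hH : LocRes.IsHasseFamily s H)
    (φ : Fin (n + 1) → K) {y : K} (hy : y ≠ 0) :
    (∀ J : Fin n → ℕ, FunFld.IsOrders K (FunFld.hcol τ H (y • φ)) J ↔ FunFld.IsOrders K (FunFld.hcol τ H φ) J) ∧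
    ∀ J : Fin n → ℕ, FunFld.IsOrders K (FunFld.hcol τ H φ) J →
      (FunFld.wrMat τ H (y • φ) J).det = τ y * y ^ n * (FunFld.wrMat τ H φ J).det := by
  classical
  let c := FunFld.hcol τ H φ
  let c' := FunFld.hcol τ H (y • φ)
  let u : ℕ → K := fun j => if j = 0 then τ y else y
  have hu : ∀ j, u j ≠ 0 := fun j => by
    simp only [u]; split_ifs
    · exact (map_ne_zero τ).2 hy
    · exact hy
  have h : ∀ j, c' j - u j • c j ∈ Submodule.span K (c '' Set.Iio j) := by
    rintro (_ | m)
    · have : c' 0 - u 0 • c 0 = 0 := by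
        funext i
        simp [c, c', u, FunFld.hcol]
      rw [this]; exact zero_mem _
    · have hlead : c' (m + 1) - u (m + 1) • c (m + 1) =
          ∑ b ∈ Finset.range m, LocRes.hasseD H (m - b) y • c (b + 1) := by
        funext i
        simp only [c, c', u, FunFld.hcol, Pi.sub_apply, Pi.smul_apply, Finset.sum_apply, smul_eq_mul,
          if_neg (Nat.succ_ne_zero m)]
        rw [LocRes.hasseD_apply, mul_comm y (φ i), map_mul, PowerSeries.coeff_mul,
          Finset.Nat.sum_antidiagonal_eq_sum_range_succ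
            (fun p q => PowerSeries.coeff p (H (φ i)) * PowerSeries.coeff q (H y)) m,
          Finset.sum_range_succ, Nat.sub_self, show PowerSeries.coeff 0 (H y) = y from hasseD_zero hH y,
          ← LocRes.hasseD_apply, mul_comm (LocRes.hasseD H m (φ i)) y, add_sub_cancel_right]
        exact Finset.sum_congr rfl fun b _ => by rw [LocRes.hasseD_apply, LocRes.hasseD_apply, mul_comm]
      rw [hlead]
      refine Submodule.sum_mem _ fun b hb => Submodule.smul_mem _ _ (Submodule.subset_span ⟨b + 1, ?_, rfl⟩)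
      simpa using Finset.mem_range.1 hb
  refine ⟨fun J => isOrders_iff hu h J, fun J hJ => ?_⟩
  rw [wrMat_eq, wrMat_eq, det_selected (idx_strictMono hJ.1) (mem_span_of_notMem_idx hJ) h, Fin.prod_univ_succ]
  simp [u, idx]

section Place

variable [IsAlgClosed k] (hK : FunFld.IsFunctionField k K)
  {P : FunFld.Place k K} {t : K} (ht : P.1 t = exp (-1)) {H : K →ₐ[k] PowerSeries K}
  (hH : LocRes.IsHasseFamily t H)
include hK ht

theorem val_map_le {τ : K →ₐ[k] K} {e : ℕ} (he : 0 < e)
    (hP : ∀ z : K, P.1 z < 1 → P.1 (τ z) ≤ exp (-(e : ℤ))) {f : K} {m : ℕ} (hf : P.1 f ≤ exp (-(m : ℤ))) :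
    P.1 (τ f) ≤ exp (-((e * m : ℕ) : ℤ)) := by
  have ht0 : t ≠ 0 := fun h => exp_ne_zero (by rw [← ht, h, map_zero])
  have hint : ∀ z : K, P.1 z ≤ 1 → P.1 (τ z) ≤ 1 := fun z hz => by
    obtain ⟨c, hc⟩ := eq_one_of_isAlgClosed hK P hz
    have h1 : P.1 (τ (z - algebraMap k K c)) ≤ 1 := (hP _ hc).trans (by rw [← exp_zero, exp_le_exp]; omega)
    rw [map_sub, AlgHom.commutes] at h1
    rw [show τ z = (τ z - algebraMap k K c) + algebraMap k K c by ring]
    exact (P.1.map_add _ _).trans (max_le h1 (P.2.1 c))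
  have hτt : P.1 (τ t) ≤ exp (-(e : ℤ)) := hP t (by rw [ht, ← exp_zero, exp_lt_exp]; omega)
  have hu : P.1 (f / t ^ m) ≤ 1 := by
    rw [map_div₀, map_pow, ht, div_le_one₀ (zero_lt_iff.2 (pow_ne_zero _ exp_ne_zero)), ← exp_nsmul]
    refine hf.trans_eq ?_
    simp
  rw [show f = t ^ m * (f / t ^ m) from (mul_div_cancel₀ _ (pow_ne_zero _ ht0)).symm, map_mul, map_pow,
    map_mul, map_pow]
  refine (mul_le_of_le_one_right zero_le (hint _ hu)).trans ((pow_le_pow_left₀ zero_le hτt m).trans ?_)
  rw [← exp_nsmul, exp_le_exp, nsmul_eq_mul]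
  push_cast
  linarith

include hH

/-- The order of a Wronskian at a fixed point. -/
theorem val_det (τ : K →ₐ[k] K) (hP : FunFld.IsFixedPt τ P) {φ : Fin (n + 1) → K} (hφ : LinearIndependent k φ)
    (heff : (1 : K) ∈ Submodule.span k (Set.range φ)) (hnorm : ∀ i, P.1 (φ i) ≤ 1)
    {J : Fin n → ℕ} (hJ : FunFld.IsOrders (IsLocalRing.ResidueField P.O) (FunFld.hcolAt P H φ) J)
    (I : Fin n → ℕ) :
    P.1 (FunFld.wrMat τ H φ I).det ≤ exp (-(∑ l, ((J l : ℤ) - I l))) ∧
    (((∀ l, 0 < I l) ∨ FunFld.IsStrongFixedPt τ P) →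
      (P.1 (FunFld.wrMat τ H φ I).det = exp (-(∑ l, ((J l : ℤ) - I l))) ↔
        (FunFld.binomMat k J I).det ≠ 0)) := by
  classical
  have ht0 : t ≠ 0 := fun h => exp_ne_zero (by rw [← ht, h, map_zero])
  obtain ⟨φ', h0, hLI, hspan, hφ'⟩ := exists_adapted hK ht hH hnorm hJ hφ heff
  obtain ⟨A, hA, hA'⟩ := exists_matrix hLI (φ := φ) fun i => hspan ▸ Submodule.subset_span ⟨i, rfl⟩
  have hdetA : P.1 (algebraMap k K A.det) = 1 := val_const P hA
  have hscale : P.1 (FunFld.wrMat τ H φ' I).det = P.1 (FunFld.wrMat τ H φ I).det := by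
    rw [(Groth.Agent.S12596.result k K hK φ hφ τ t H hH A hA φ' hA').2 I, map_mul, hdetA, one_mul]
  rw [← hscale]
  set M := FunFld.wrMat τ H φ' I
  let v : Fin (n + 1) → ℤ := Fin.cases (motive := fun _ => ℤ) 0 fun l => (J l : ℤ)
  let w : Fin (n + 1) → ℤ := Fin.cases (motive := fun _ => ℤ) 0 fun l => (I l : ℤ)
  set N : Matrix (Fin (n + 1)) (Fin (n + 1)) K := Matrix.of fun i a => t ^ (-v i) * (t ^ w a * M i a)
  -- the residues of the entries
  let B : Matrix (Fin (n + 1)) (Fin (n + 1)) (IsLocalRing.ResidueField P.O) := Matrix.of fun i a =>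
    FunFld.evalP P (N i a)
  have hexpz : ∀ z : ℤ, P.1 (t ^ z) = exp (-z) := fun z => by
    rw [map_zpow₀, ht, ← exp_zsmul]; congr 1; simp
  have hN00 : N 0 0 = 1 := by
    simp [N, M, v, w, FunFld.wrMat, h0]
  have hN0 : ∀ l : Fin n, N 0 l.succ = ((Nat.choose 0 (I l) : ℕ) : K) := by
    intro l
    rcases Nat.eq_zero_or_pos (I l) with h | h
    · simp [N, M, v, w, FunFld.wrMat, h0, h]
    · simp [N, M, v, w, FunFld.wrMat, h0, PowerSeries.coeff_one, h.ne', Nat.choose_eq_zero_of_lt h]
  have hNr0 : ∀ r : Fin n, P.1 (N r.succ 0) ≤ 1 ∧ (FunFld.IsStrongFixedPt τ P → P.1 (N r.succ 0) < 1) := by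
    intro r
    have hJr := ordersAt_pos hK ht hH hnorm hJ r
    have e : N r.succ 0 = t ^ (-(J r : ℤ)) * τ (φ' r.succ) := by simp [N, M, v, w, FunFld.wrMat]
    rw [e, map_mul, hexpz, neg_neg]
    constructor
    · refine (mul_le_mul' le_rfl (val_map_le hK ht (e := 1) one_pos (fun z hz => ?_) (hφ' r).1.le)).trans ?_
      · simpa using pow_le_exp_of_lt_one (hP z hz) 1
      · rw [← exp_add, ← exp_zero, exp_le_exp]; push_cast; omega
    · intro hs
      refine (mul_le_mul' le_rfl (val_map_le hK ht (e := 2) two_pos (fun z hz => by exact_mod_cast hs z hz)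
        (hφ' r).1.le)).trans_lt ?_
      rw [← exp_add, ← exp_zero, exp_lt_exp]; push_cast; omega
  have hNrl : ∀ r l : Fin n, P.1 (N r.succ l.succ - ((J r).choose (I l) : ℕ)) < 1 := by
    intro r l
    set u := φ' r.succ / t ^ J r
    have hu1 : P.1 (u - 1) < 1 := (hφ' r).2
    have hu : P.1 u ≤ 1 := by
      rw [show u = (u - 1) + 1 by ring]
      exact (P.1.map_add _ _).trans (max_le hu1.le (map_one _).le)
    have h := val_hasseD_pow_mul_sub hK ht hH hu (J r) (I l)
    have e : t ^ J r * u = φ' r.succ := mul_div_cancel₀ _ (pow_ne_zero _ ht0)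
    rw [e] at h
    set C : K := (((J r).choose (I l) : ℕ) : K)
    set D := LocRes.hasseD H (I l) (φ' r.succ)
    have eN : N r.succ l.succ = t ^ ((I l : ℤ) - J r) * D := by
      simp [N, M, v, w, FunFld.wrMat, D, ← mul_assoc]
      left
      rw [zpow_sub₀ ht0, zpow_natCast, zpow_natCast, div_eq_mul_inv]
      ring
    rw [eN, show t ^ ((I l : ℤ) - J r) * D - C =
        t ^ ((I l : ℤ) - J r) * (D - C * t ^ ((J r : ℤ) - I l) * u) + C * (u - 1) by
      have e2 : t ^ ((I l : ℤ) - J r) * t ^ ((J r : ℤ) - I l) = 1 := by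
        rw [← zpow_add₀ ht0]; simp
      linear_combination (C * u) * e2]
    refine (P.1.map_add _ _).trans_lt (max_lt ?_ ?_)
    · rw [map_mul, hexpz]
      refine (mul_le_mul' le_rfl h).trans_lt ?_
      rw [← exp_add, ← exp_zero, exp_lt_exp]; omega
    · rw [map_mul]
      refine (mul_le_of_le_one_left zero_le ?_).trans_lt hu1
      rw [show C = algebraMap k K ((J r).choose (I l) : ℕ) from (map_natCast _ _).symm]
      exact P.2.1 _
  have hNint : ∀ i a, P.1 (N i a) ≤ 1 := by
    intro i a
    induction i using Fin.cases with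
    | zero =>
      induction a using Fin.cases with
      | zero => rw [hN00, map_one]
      | succ l => rw [hN0, ← map_natCast (algebraMap k K)]; exact P.2.1 _
    | succ r =>
      induction a using Fin.cases with
      | zero => exact (hNr0 r).1
      | succ l =>
        rw [show N r.succ l.succ = (N r.succ l.succ - ((J r).choose (I l) : ℕ)) + ((J r).choose (I l) : ℕ) by ring]
        refine (P.1.map_add _ _).trans (max_le (hNrl r l).le ?_)
        rw [← map_natCast (algebraMap k K)]; exact P.2.1 _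
  let No : Matrix (Fin (n + 1)) (Fin (n + 1)) P.O := Matrix.of fun i a => ⟨N i a, hNint i a⟩
  have hNo : ((No.det : P.O) : K) = N.det := RingHom.map_det P.O.subtype No
  have hdetint : P.1 N.det ≤ 1 := hNo ▸ No.det.2
  have hB : FunFld.evalP P N.det = B.det := by
    rw [evalP_eq hdetint, show (⟨N.det, hdetint⟩ : P.O) = No.det from Subtype.ext hNo.symm, RingHom.map_det]
    congr 1
    ext i a
    simp only [B, RingHom.mapMatrix_apply, Matrix.map_apply, No, Matrix.of_apply, evalP_eq (hNint i a)]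
  have hcast : ∀ m : ℕ, FunFld.evalP P (m : K) = algebraMap k (IsLocalRing.ResidueField P.O) m := fun m => by
    rw [← evalP_const, map_natCast]
  have hminor : (B.submatrix Fin.succ Fin.succ).det =
      algebraMap k (IsLocalRing.ResidueField P.O) (FunFld.binomMat k J I).det := by
    rw [RingHom.map_det]
    congr 1
    ext r l
    simp only [Matrix.submatrix_apply, B, Matrix.of_apply, RingHom.mapMatrix_apply, Matrix.map_apply,
      FunFld.binomMat]
    rw [← hcast]
    refine evalP_eq_of_sub_lt (hNint _ _) ?_ (hNrl r l)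
    rw [← map_natCast (algebraMap k K)]; exact P.2.1 _
  have hBdet : ((∀ l, 0 < I l) ∨ FunFld.IsStrongFixedPt τ P) →
      B.det = algebraMap k (IsLocalRing.ResidueField P.O) (FunFld.binomMat k J I).det := by
    have hB00 : B 0 0 = 1 := by
      simp only [B, Matrix.of_apply, hN00]
      rw [evalP_eq (map_one _).le]
      exact map_one (IsLocalRing.residue P.O)
    rintro (hI | hs)
    · rw [Matrix.det_succ_row_zero, Fin.sum_univ_succ, Finset.sum_eq_zero fun l _ => ?_, add_zero]
      · simp only [Fin.val_zero, pow_zero, hB00, one_mul, Fin.succAbove_zero, hminor]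
      · have : B 0 l.succ = 0 := by
          simp only [B, Matrix.of_apply, hN0, Nat.choose_eq_zero_of_lt (hI l), Nat.cast_zero]
          rw [evalP_eq_zero_iff (by simp)]; simp
        rw [this, mul_zero, zero_mul]
    · rw [Matrix.det_succ_column_zero, Fin.sum_univ_succ, Finset.sum_eq_zero fun r _ => ?_, add_zero]
      · simp only [Fin.val_zero, pow_zero, hB00, one_mul, Fin.succAbove_zero, hminor]
      · have : B r.succ 0 = 0 := (evalP_eq_zero_iff (hNint _ _)).2 ((hNr0 r).2 hs)
        rw [this, mul_zero, zero_mul]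
  have hMdet : P.1 M.det = P.1 N.det * exp (-(∑ l, ((J l : ℤ) - I l))) := by
    have h1 : N.det = (∏ i, t ^ (-v i)) * ((∏ a, t ^ w a) * M.det) := by
      rw [← Matrix.det_mul_row (fun a => t ^ w a) M, ← Matrix.det_mul_column (fun i => t ^ (-v i))]
      rfl
    rw [h1, map_mul, map_mul, map_prod, map_prod, Fin.prod_univ_succ, Fin.prod_univ_succ]
    simp only [v, w, Fin.cases_zero, Fin.cases_succ, neg_zero, zpow_zero, map_one, one_mul, hexpz, neg_neg]
    have hp : ∀ f : Fin n → ℤ, ∏ l, (exp (f l) : WithZero (Multiplicative ℤ)) = exp (∑ l, f l) := fun f => by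
      induction (Finset.univ : Finset (Fin n)) using Finset.induction_on with
      | empty => simp
      | insert a s h ih => rw [Finset.prod_insert h, Finset.sum_insert h, exp_add, ih]
    rw [hp, hp, Finset.sum_sub_distrib, mul_comm (exp _ * (exp _ * P.1 M.det)), ← mul_assoc, ← mul_assoc,
      ← exp_add, ← exp_add, Finset.sum_neg_distrib]
    simp
  refine ⟨by rw [hMdet]; exact mul_le_of_le_one_left zero_le hdetint, fun hcase => ?_⟩
  rw [hMdet]
  have hiff : P.1 N.det * exp (-(∑ l, ((J l : ℤ) - I l))) = exp (-(∑ l, ((J l : ℤ) - I l))) ↔ P.1 N.det = 1 :=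
    ⟨fun h => mul_right_cancel₀ exp_ne_zero (h.trans (one_mul _).symm), fun h => by rw [h, one_mul]⟩
  rw [hiff]
  have h2 : P.1 N.det = 1 ↔ ¬ FunFld.evalP P N.det = 0 := by
    rw [evalP_eq_zero_iff hdetint]
    exact ⟨fun h => not_lt.2 h.ge, fun h => le_antisymm hdetint (not_lt.1 h)⟩
  rw [h2, hB, hBdet hcase, map_eq_zero]

/-- The binomial matrix of a strictly increasing sequence with itself is unimodular. -/
theorem det_binomMat_self {J : Fin n → ℕ} (hJ : StrictMono J) : (FunFld.binomMat k J J).det = 1 := by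
  rw [Matrix.det_of_lowerTriangular]
  · simp [FunFld.binomMat]
  · intro r s hrs
    simp [FunFld.binomMat, Nat.choose_eq_zero_of_lt (hJ (OrderDual.toDual_lt_toDual.1 hrs))]

/-- A strong fixed point bounds the orders. -/
theorem exists_strong_index (τ : K →ₐ[k] K) (hP : FunFld.IsStrongFixedPt τ P) (hn : 0 < n)
    {φ : Fin (n + 1) → K} (hφ : LinearIndependent k φ) (heff : (1 : K) ∈ Submodule.span k (Set.range φ))
    (hnorm : ∀ i, P.1 (φ i) ≤ 1) {J : Fin n → ℕ} (hJ : FunFld.IsOrders K (FunFld.hcol τ H φ) J)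
    {J' : Fin n → ℕ} (hJ' : FunFld.IsOrders (IsLocalRing.ResidueField P.O) (FunFld.hcolAt P H φ) J') :
    ∀ l, J l + J' ⟨0, hn⟩ ≤ J' l := by
  classical
  obtain ⟨m, rfl⟩ : ∃ m, n = m + 1 := ⟨n - 1, by omega⟩
  have hzero : (⟨0, hn⟩ : Fin (m + 1)) = 0 := rfl
  rw [hzero]
  set j₀ := J' 0
  let d : Fin (m + 1) → ℕ := fun l => J' l - j₀
  have hle : ∀ l, j₀ ≤ J' l := fun l => hJ'.1.monotone (Fin.zero_le l)
  have hd : StrictMono d := fun a b hab => by
    have := hJ'.1 hab
    have := hle a
    simp only [d]; omega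
  let c : ℕ → Fin (m + 1) → k := fun i r => ((d r).choose i : ℕ)
  let c' : ℕ → Fin (m + 1) → k := fun i r => ((J' r).choose i : ℕ)
  have htri : ∀ i, c' i - (1 : k) • c i ∈ Submodule.span k (c '' Set.Iio i) := by
    intro i
    have e : c' i - (1 : k) • c i = ∑ a ∈ Finset.range i, ((j₀.choose (i - a) : ℕ) : k) • c a := by
      funext r
      simp only [c, c', Pi.sub_apply, Pi.smul_apply, Finset.sum_apply, smul_eq_mul, one_mul]
      rw [show J' r = d r + j₀ by simp only [d]; have := hle r; omega, Nat.add_choose_eq,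
        Finset.Nat.sum_antidiagonal_eq_sum_range_succ (fun p q => (d r).choose p * j₀.choose q) i,
        Finset.sum_range_succ, Nat.sub_self, Nat.choose_zero_right, mul_one]
      push_cast
      rw [add_sub_cancel_right]
      exact Finset.sum_congr rfl fun a _ => mul_comm _ _
    rw [e]
    exact Submodule.sum_mem _ fun a ha => Submodule.smul_mem _ _ (Submodule.subset_span ⟨a, by simpa using ha, rfl⟩)
  let Jd : Fin m → ℕ := fun l => d l.succ - 1
  have hd0 : d 0 = 0 := by simp [d, j₀]
  have hdpos : ∀ l : Fin m, 0 < d l.succ := fun l => by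
    have := hd (Fin.succ_pos l)
    omega
  have hJd : StrictMono Jd := fun a b hab => by
    have := hd (Fin.succ_lt_succ_iff.2 hab)
    have := hdpos a
    simp only [Jd]; omega
  have hidx : ∀ a, idx Jd a = d a := fun a => by
    induction a using Fin.cases with
    | zero => simp [hd0]
    | succ l => simp [Jd, Nat.sub_add_cancel (hdpos l)]
  have hdet : (Matrix.of fun r a => c (idx Jd a) r).det ≠ 0 := by
    simp only [hidx]
    have h1 := det_binomMat_self (k := k) hK ht hH hd
    exact ne_of_eq_of_ne h1 one_ne_zero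
  have hspan : Submodule.span k (Set.range c) = ⊤ := by
    rw [eq_top_iff]
    have hu := (Matrix.isUnit_iff_isUnit_det _).2 (isUnit_iff_ne_zero.2 hdet)
    have hind := (Matrix.linearIndependent_cols_iff_isUnit (A := Matrix.of fun r a => c (idx Jd a) r)).2 hu
    rw [← hind.span_eq_top_of_card_eq_finrank' (by simp)]
    exact Submodule.span_mono (by rintro _ ⟨a, rfl⟩; exact ⟨idx Jd a, rfl⟩)
  have hc0 : c 0 ≠ 0 := fun h => one_ne_zero (α := k) (by simpa [c] using congrFun h 0)
  obtain ⟨Jc, hJc, hJcdet⟩ := exists_orders hc0 hspan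
  have hbound := orders_le hJc hJd hdet
  let I : Fin (m + 1) → ℕ := idx Jc
  have hI : StrictMono I := idx_strictMono hJc.1
  have hbinom : (FunFld.binomMat k J' I).det ≠ 0 := by
    have h1 := det_selected (R := k) (idx_strictMono hJc.1) (c := c) (c' := c') (u := fun _ => 1)
      (mem_span_of_notMem_idx hJc) htri
    rw [Finset.prod_const_one, one_mul] at h1
    change (Matrix.of fun r a => c' (idx Jc a) r).det ≠ 0
    rw [h1]
    exact hJcdet
  have hfix : FunFld.IsFixedPt τ P := fun z hz => (hP z hz).trans_lt (by rw [← exp_zero, exp_lt_exp]; omega)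
  have hne : (FunFld.wrMat τ H φ I).det ≠ 0 := by
    intro h
    have h1 := (((val_det hK ht hH τ hfix hφ heff hnorm hJ' I).2 (Or.inr hP)).2 hbinom)
    rw [h, map_zero] at h1
    exact exp_ne_zero h1.symm
  rw [wrMat_eq] at hne
  intro l
  have h1 := orders_le hJ hI hne l
  have h2 : I l ≤ d l := by
    induction l using Fin.cases with
    | zero => simp [I]
    | succ l' =>
      have := hbound l'
      simp only [I, idx_succ, Jd] at this ⊢
      have := hdpos l'
      omega
  have h3 := hle l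
  simp only [d] at h2
  omega

end Place

end Groth.Agent.H23Proj
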