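import Mathlib
import Groth.Agent.H23Proj.Wronskian
import Groth.Agent.H23Proj.Conorm
import Groth.Agent.H23Proj.Model
import Groth.Agent.H23Diff.Canonical
import Groth.Agent.S12600

/-!
The Weierstrass divisor.
-/

set_option autoImplicit false
set_option linter.unusedSectionVars false
set_option linter.style.haveILetI false

namespace Groth.Agent.H23Proj

open WithZero Groth.Agent.H23FunFld

variable {k K : Type*} [Field k] [Field K] [Algebra k K] {n : ℕ}

theorem mapDiv_eq_of_span_eq (hK : FunFld.IsFunctionField k K) {φ φ' : Fin (n + 1) → K}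
    (h1 : ∀ i, φ i ≠ 0) (h2 : ∀ i, φ' i ≠ 0)
    (h : Submodule.span k (Set.range φ) = Submodule.span k (Set.range φ')) :
    FunFld.mapDiv k φ = FunFld.mapDiv k φ' := by
  ext P
  obtain ⟨i, hi⟩ := exists_attain hK h1 P
  obtain ⟨j, hj⟩ := exists_attain hK h2 P
  have ha := V_le_L hK h2 (show φ i ∈ Submodule.span k (Set.range φ') from h ▸ Submodule.subset_span ⟨i, rfl⟩) P
  have hb := V_le_L hK h1 (show φ' j ∈ Submodule.span k (Set.range φ) from h.symm ▸ Submodule.subset_span ⟨j, rfl⟩) P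
  rw [hi, exp_le_exp] at ha
  rw [hj, exp_le_exp] at hb
  omega

theorem mapDiv_smul (hK : FunFld.IsFunctionField k K) {φ : Fin (n + 1) → K} (h : ∀ i, φ i ≠ 0) {y : K}
    (hy : y ≠ 0) : FunFld.mapDiv k (y • φ) = FunFld.mapDiv k φ - FunFld.div k y := by
  ext P
  have h' : ∀ i, (y • φ) i ≠ 0 := fun i => mul_ne_zero hy (h i)
  obtain ⟨i, hi⟩ := exists_attain hK h P
  obtain ⟨j, hj⟩ := exists_attain hK h' P
  have ha := val_entry_le hK (φ := y • φ) P i (h' i)
  have hb := val_entry_le hK (φ := φ) P j (h j)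
  rw [show P.1 ((y • φ) i) = P.1 (y * φ i) from rfl, map_mul, hi, val_eq_exp P hy, ← exp_add, exp_le_exp] at ha
  rw [show P.1 ((y • φ) j) = P.1 (y * φ j) from rfl, map_mul, val_eq_exp P hy] at hj
  rw [val_eq_exp P (h j), exp_le_exp] at hb
  rw [val_eq_exp P (h j), ← exp_add, exp_inj] at hj
  rw [Finsupp.sub_apply, div_apply hK]
  omega

theorem exists_normalised (hK : FunFld.IsFunctionField k K) {φ : Fin (n + 1) → K} (h : ∀ i, φ i ≠ 0)
    (P : FunFld.Place k K) :
    ∃ y : K, y ≠ 0 ∧ (1 : K) ∈ Submodule.span k (Set.range (y • φ)) ∧ ∀ i, P.1 ((y • φ) i) ≤ 1 := by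
  obtain ⟨j, hj⟩ := exists_max P φ
  refine ⟨(φ j)⁻¹, inv_ne_zero (h j), Submodule.subset_span ⟨j, inv_mul_cancel₀ (h j)⟩, fun i => ?_⟩
  change P.1 ((φ j)⁻¹ * φ i) ≤ 1
  rw [inv_mul_eq_div]
  exact val_ratio_le_one (h j) hj i

theorem mapDiv_apply_eq_zero (hK : FunFld.IsFunctionField k K) {φ : Fin (n + 1) → K} (h : ∀ i, φ i ≠ 0)
    {P : FunFld.Place k K} (heff : (1 : K) ∈ Submodule.span k (Set.range φ)) (hnorm : ∀ i, P.1 (φ i) ≤ 1) :
    FunFld.mapDiv k φ P = 0 := by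
  obtain ⟨j, hj⟩ := exists_attain hK h P
  have h1 := V_le_L hK h heff P
  have h2 := hnorm j
  rw [hj, ← exp_zero, exp_le_exp] at h2
  rw [map_one, ← exp_zero, exp_le_exp] at h1
  omega

variable [IsAlgClosed k] (hK : FunFld.IsFunctionField k K)
include hK

theorem det_ne_zero {φ : Fin (n + 1) → K} (hφ : LinearIndependent k φ) {τ : K →ₐ[k] K} {s : K}
    {H : K →ₐ[k] PowerSeries K} (hH : LocRes.IsHasseFamily s H) {J : Fin n → ℕ}
    (hJ : FunFld.IsOrders K (FunFld.hcol τ H φ) J) : (FunFld.wrMat τ H φ J).det ≠ 0 := by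
  obtain ⟨J₀, hJ₀, hdet⟩ := Groth.Agent.S12600.result k K hK φ hφ τ s H hH
  rwa [orders_unique hJ hJ₀]

theorem orders_id_pos {φ : Fin (n + 1) → K} {s : K}
    {H : K →ₐ[k] PowerSeries K} (hH : LocRes.IsHasseFamily s H) {J : Fin n → ℕ}
    (hJ : FunFld.IsOrders K (FunFld.hcol (AlgHom.id k K) H φ) J) (l : Fin n) : 0 < J l := by
  refine Nat.pos_of_ne_zero fun h0 => (hJ.2 0).1 ⟨l, h0⟩ ?_
  have e : FunFld.hcol (AlgHom.id k K) H φ (0 + 1) = FunFld.hcol (AlgHom.id k K) H φ 0 := by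
    funext i
    exact hasseD_zero hH (φ i)
  rw [e]
  exact Submodule.subset_span ⟨0, by simp, rfl⟩

/-- The Weierstrass divisor is invariant under equivalence and change of variable. -/
theorem wDiv_equiv {φ : Fin (n + 1) → K} (hφ : LinearIndependent k φ) (τ : K →ₐ[k] K)
    {s : K} {Hs : K →ₐ[k] PowerSeries K} (hHs : LocRes.IsHasseFamily s Hs)
    {t : K} {Ht : K →ₐ[k] PowerSeries K} (hHt : LocRes.IsHasseFamily t Ht)
    {J : Fin n → ℕ} (hJ : FunFld.IsOrders K (FunFld.hcol τ Hs φ) J)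
    {A : Matrix (Fin (n + 1)) (Fin (n + 1)) k} (hA : A.det ≠ 0) {y : K} (hy : y ≠ 0)
    {φ' : Fin (n + 1) → K} (hφ' : ∀ i, φ' i = y * ∑ j, A i j • φ j)
    {Φ : FunFld.Place k K → (K →ₐ[k] LaurentSeries k)}
    (hΦ : ∀ P : FunFld.Place k K, LocRes.IsExpansionAt P.1 (Φ P)) :
    FunFld.IsOrders K (FunFld.hcol τ Ht φ') J ∧
      FunFld.wDiv τ Ht Φ t φ' J = FunFld.wDiv τ Hs Φ s φ J := by
  classical
  obtain ⟨hord, hfac⟩ := Groth.Agent.S12598.result k K hK φ hφ τ s Hs hHs t Ht hHt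
  have hJt := (hord J).2 hJ
  have hdet0 := det_ne_zero hK hφ hHs hJ
  set ψ : Fin (n + 1) → K := fun i => ∑ j, A i j • φ j
  obtain ⟨hordA, hfacA⟩ := Groth.Agent.S12596.result k K hK φ hφ τ t Ht hHt A hA ψ fun i => rfl
  have hψ : LinearIndependent k ψ := by
    rw [Fintype.linearIndependent_iff]
    intro a ha
    have h1 : ∀ j, ∑ i, a i * A i j = 0 := by
      refine Fintype.linearIndependent_iff.1 hφ _ ?_
      simp only [Finset.sum_smul, ← smul_smul]
      rw [Finset.sum_comm]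
      simpa only [ψ, Finset.smul_sum] using ha
    exact fun i => congrFun (Matrix.eq_zero_of_vecMul_eq_zero hA (funext h1)) i
  obtain ⟨hordy, hfacy⟩ := orders_smul τ hHt ψ hy
  have hJψ := (hordA J).2 hJt
  have e : φ' = y • ψ := funext fun i => hφ' i
  subst e
  refine ⟨(hordy J).2 hJψ, ?_⟩
  have hdet : (FunFld.wrMat τ Ht (y • ψ) J).det = τ y * y ^ n * (algebraMap k K A.det *
      (LocRes.hasseD Ht 1 s ^ (∑ l, J l) * (FunFld.wrMat τ Hs φ J).det)) := by
    rw [hfacy J hJψ, hfacA, hfac J hJ]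
  set w := LocRes.hasseD Ht 1 s
  have hDs := D_ne_zero_of_isHasseFamily hHs
  have hDt := D_ne_zero_of_isHasseFamily hHt
  have hsw : KaehlerDifferential.D k K s = w • KaehlerDifferential.D k K t :=
    Groth.Agent.H23Diff.D_eq_hasseD_smul hK hHt s
  have hw : w ≠ 0 := Groth.Agent.H23Diff.ratio_ne_zero hDs hsw
  obtain ⟨Cs, -, hCs⟩ := Groth.Agent.H23Diff.divDiff_eq hK hDs hΦ
  obtain ⟨Ct, -, hCt⟩ := Groth.Agent.H23Diff.divDiff_eq hK hDt hΦ
  have hτy : τ y ≠ 0 := (map_ne_zero τ).2 hy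
  have hdiff : FunFld.divDiff Φ 1 s = FunFld.div k w + FunFld.divDiff Φ 1 t := by
    have hg := Groth.Agent.H23Geom.isGeometric_of_perfectField hK
    ext P
    obtain ⟨u, -, hu⟩ := exists_val_eq P (-1)
    obtain ⟨ct, hct⟩ := Groth.Agent.H23Diff.exists_ratio hK hg (Groth.Agent.H23Diff.D_ne_zero_param' hK hu) t
    have hcs : KaehlerDifferential.D k K s = (w * ct) • KaehlerDifferential.D k K u := by
      rw [hsw, hct, smul_smul]
    have hct0 := Groth.Agent.H23Diff.ratio_ne_zero hDt hct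
    rw [Finsupp.add_apply, (hCs 1 one_ne_zero).2, (hCt 1 one_ne_zero).2, ← (hCs 1 one_ne_zero).1 P,
      ← (hCt 1 one_ne_zero).1 P, Groth.Agent.H23Diff.ordDiff_eq (hΦ P) hu 1 hcs,
      Groth.Agent.H23Diff.ordDiff_eq (hΦ P) hu 1 hct, one_mul, one_mul, div_apply hK, ord_mul P hw hct0]
  have hspan : Submodule.span k (Set.range ψ) = Submodule.span k (Set.range φ) := by
    haveI : FiniteDimensional k (Submodule.span k (Set.range φ)) :=
      FiniteDimensional.span_of_finite k (Set.finite_range φ)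
    refine Submodule.eq_of_le_of_finrank_le (Submodule.span_le.2 (Set.range_subset_iff.2 fun i =>
      (Submodule.mem_span_range_iff_exists_fun k).2 ⟨A i, rfl⟩)) ?_
    rw [finrank_span_eq_card hψ, finrank_span_eq_card hφ]
  have hmap : FunFld.mapDiv k (y • ψ) = FunFld.mapDiv k φ - FunFld.div k y := by
    rw [mapDiv_smul hK hψ.ne_zero hy, mapDiv_eq_of_span_eq hK hψ.ne_zero hφ.ne_zero hspan]
  have hmapτ : FunFld.mapDiv k (τ ∘ (y • ψ)) = FunFld.mapDiv k (τ ∘ φ) - FunFld.div k (τ y) := by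
    have e : τ ∘ (y • ψ) = τ y • (τ ∘ ψ) := funext fun i => map_mul τ y (ψ i)
    have hne : ∀ i, (τ ∘ ψ) i ≠ 0 := fun i => (map_ne_zero τ).2 (hψ.ne_zero i)
    have hsp : Submodule.span k (Set.range (τ ∘ ψ)) = Submodule.span k (Set.range (τ ∘ φ)) := by
      rw [show (⇑τ : K → K) = ⇑τ.toLinearMap from rfl, Set.range_comp, Set.range_comp, Submodule.span_image,
        Submodule.span_image, hspan]
    rw [e, mapDiv_smul hK hne hτy, mapDiv_eq_of_span_eq hK hne (fun i => (map_ne_zero τ).2 (hφ.ne_zero i)) hsp]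
    rfl
  have hAne : algebraMap k K A.det ≠ 0 := by simpa using hA
  have hdivdet : FunFld.div k (FunFld.wrMat τ Ht (y • ψ) J).det = FunFld.div k (τ y) + (n : ℤ) • FunFld.div k y +
      ((∑ l, (J l : ℤ)) • FunFld.div k w + FunFld.div k (FunFld.wrMat τ Hs φ J).det) := by
    have hpow : ∀ (z : K) (m : ℕ), z ≠ 0 → FunFld.div k (z ^ m) = (m : ℤ) • FunFld.div k z := fun z m hz => by
      induction m with
      | zero => rw [pow_zero, Nat.cast_zero, zero_smul, ← map_one (algebraMap k K), div_const hK]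
      | succ m ih => rw [pow_succ, div_mul hK (pow_ne_zero _ hz) hz, ih, Nat.cast_succ, add_smul, one_smul]
    rw [hdet, div_mul hK (mul_ne_zero hτy (pow_ne_zero _ hy)) (mul_ne_zero hAne (mul_ne_zero (pow_ne_zero _ hw) hdet0)),
      div_mul hK hτy (pow_ne_zero _ hy), hpow y n hy, div_mul hK hAne (mul_ne_zero (pow_ne_zero _ hw) hdet0),
      div_const hK, zero_add, div_mul hK (pow_ne_zero _ hw) hdet0, hpow w _ hw]
    push_cast
    rfl
  simp only [FunFld.wDiv]
  rw [hdivdet, hmap, hmapτ, hdiff, smul_sub, smul_add]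
  abel

/-- The coefficient at a place, for a normalised map and a local parameter. -/
theorem wDiv_apply {φ : Fin (n + 1) → K} (hφ : LinearIndependent k φ) (τ : K →ₐ[k] K) {P : FunFld.Place k K}
    {t : K} (ht : P.1 t = exp (-1)) (heff : (1 : K) ∈ Submodule.span k (Set.range φ))
    (hnorm : ∀ i, P.1 (φ i) ≤ 1) (H : K →ₐ[k] PowerSeries K) (J : Fin n → ℕ)
    {Φ : FunFld.Place k K → (K →ₐ[k] LaurentSeries k)}
    (hΦ : ∀ P : FunFld.Place k K, LocRes.IsExpansionAt P.1 (Φ P)) :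
    FunFld.wDiv τ H Φ t φ J P = P.ord (FunFld.wrMat τ H φ J).det + FunFld.mapDiv k (τ ∘ φ) P := by
  obtain ⟨C, -, hC⟩ := Groth.Agent.H23Diff.divDiff_eq hK (Groth.Agent.H23Diff.D_ne_zero_param' hK ht) hΦ
  have h0 : FunFld.divDiff Φ 1 t P = 0 := by
    rw [(hC 1 one_ne_zero).2, ← (hC 1 one_ne_zero).1 P,
      Groth.Agent.H23Diff.ordDiff_eq (hΦ P) ht 1 (c := 1) (one_smul _ _).symm, one_mul]
    simp [FunFld.Place.ord]
  simp only [FunFld.wDiv, Finsupp.add_apply, Finsupp.smul_apply, div_apply hK, smul_eq_mul,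
    mapDiv_apply_eq_zero hK hφ.ne_zero heff hnorm, h0, mul_zero, add_zero]

/-- Reduction to a normalised map and a local parameter. -/
theorem exists_local_form {φ : Fin (n + 1) → K} (hφ : LinearIndependent k φ) (τ : K →ₐ[k] K)
    {s : K} {H : K →ₐ[k] PowerSeries K} (hH : LocRes.IsHasseFamily s H) {J : Fin n → ℕ}
    (hJ : FunFld.IsOrders K (FunFld.hcol τ H φ) J)
    {Φ : FunFld.Place k K → (K →ₐ[k] LaurentSeries k)}
    (hΦ : ∀ P : FunFld.Place k K, LocRes.IsExpansionAt P.1 (Φ P)) (P : FunFld.Place k K) :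
    ∃ (t y : K) (Ht : K →ₐ[k] PowerSeries K) (φ' : Fin (n + 1) → K), P.1 t = exp (-1) ∧ y ≠ 0 ∧ φ' = y • φ ∧
      LocRes.IsHasseFamily t Ht ∧ LinearIndependent k φ' ∧ (1 : K) ∈ Submodule.span k (Set.range φ') ∧
      (∀ i, P.1 (φ' i) ≤ 1) ∧ FunFld.IsOrders K (FunFld.hcol τ Ht φ') J ∧
      FunFld.wDiv τ Ht Φ t φ' J = FunFld.wDiv τ H Φ s φ J := by
  classical
  have hg := Groth.Agent.H23Geom.isGeometric_of_perfectField hK
  obtain ⟨t, -, ht⟩ := exists_val_eq P (-1)
  obtain ⟨Ht, hHt⟩ := Groth.Agent.H23Diff.exists_hasseFamily hK hg (Groth.Agent.H23Diff.D_ne_zero_param' hK ht)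
  obtain ⟨y, hy, heff, hnorm⟩ := exists_normalised hK hφ.ne_zero P
  obtain ⟨hJ', hW⟩ := wDiv_equiv hK hφ τ hH hHt hJ (A := 1) (by simp) hy (φ' := y • φ)
    (fun i => by simp [Matrix.one_apply, ite_smul]) hΦ
  refine ⟨t, y, Ht, _, ht, hy, rfl, hHt, ?_, heff, hnorm, hJ', hW⟩
  have := hφ.map' (LinearMap.mulLeft k y) (LinearMap.ker_eq_bot.2 fun a b h => mul_left_cancel₀ hy h)
  exact this

theorem wDiv_nonneg {φ : Fin (n + 1) → K} (hφ : LinearIndependent k φ) (τ : K →ₐ[k] K)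
    {s : K} {H : K →ₐ[k] PowerSeries K} (hH : LocRes.IsHasseFamily s H) {J : Fin n → ℕ}
    (hJ : FunFld.IsOrders K (FunFld.hcol τ H φ) J)
    {Φ : FunFld.Place k K → (K →ₐ[k] LaurentSeries k)}
    (hΦ : ∀ P : FunFld.Place k K, LocRes.IsExpansionAt P.1 (Φ P)) :
    0 ≤ FunFld.wDiv τ H Φ s φ J := by
  classical
  intro P
  obtain ⟨t, y, Ht, φ', ht, -, -, hHt, hφ', heff, hnorm, hJ', hW⟩ := exists_local_form hK hφ τ hH hJ hΦ P
  rw [← hW, Finsupp.coe_zero, Pi.zero_apply, wDiv_apply hK hφ' τ ht heff hnorm Ht J hΦ]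
  set D := FunFld.mapDiv k (τ ∘ φ') P
  have hneτ : ∀ i, (τ ∘ φ') i ≠ 0 := fun i => (map_ne_zero τ).2 (hφ'.ne_zero i)
  have hDnn : 0 ≤ D := by
    have h1 : (1 : K) ∈ Submodule.span k (Set.range (τ ∘ φ')) := by
      rw [show (⇑τ : K → K) = ⇑τ.toLinearMap from rfl, Set.range_comp, Submodule.span_image]
      exact ⟨1, heff, map_one τ⟩
    have h2 := V_le_L hK hneτ h1 P
    rw [map_one, ← exp_zero, exp_le_exp] at h2
    exact h2
  have hle : P.1 (FunFld.wrMat τ Ht φ' J).det ≤ exp D := by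
    rw [Matrix.det_apply]
    refine P.1.map_sum_le fun σ _ => ?_
    have hprod : P.1 (∏ i, FunFld.wrMat τ Ht φ' J (σ i) i) ≤ exp D := by
      rw [map_prod, Fin.prod_univ_succ]
      refine le_trans (mul_le_mul' ?_ (Finset.prod_le_one (fun _ _ => zero_le) fun l _ => ?_)) (mul_one _).le
      · simpa [FunFld.wrMat] using val_entry_le hK (φ := τ ∘ φ') P (σ 0) (hneτ _)
      · simpa [FunFld.wrMat] using val_hasseD_le hK ht hHt (J l) (hnorm (σ l.succ))
    rcases Int.units_eq_one_or (Equiv.Perm.sign σ) with h | h <;> simpa [h, Units.smul_def] using hprod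
  rw [val_eq_exp P (det_ne_zero hK hφ' hHt hJ'), exp_le_exp] at hle
  omega

/-- The degree of the pullback of a map by an endomorphism. -/
theorem deg_mapDiv_comp (τ : K →ₐ[k] K) (φ : Fin (n + 1) → K) :
    (FunFld.mapDiv k (τ ∘ φ)).deg = Module.finrank τ.fieldRange K * (FunFld.mapDiv k φ).deg ∧
      0 < Module.finrank τ.fieldRange K := by
  classical
  obtain ⟨x, hx, -⟩ := hK.1
  have hτx : Transcendental k (τ x) := fun h => hx ((isAlgebraic_algHom_iff τ τ.toRingHom.injective).1 h)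
  haveI := finiteDimensional_adjoin hK hτx
  have hle : IntermediateField.adjoin k ({τ x} : Set K) ≤ τ.fieldRange :=
    IntermediateField.adjoin_le_iff.2 (Set.singleton_subset_iff.2 ⟨x, rfl⟩)
  letI : Algebra (IntermediateField.adjoin k ({τ x} : Set K)) τ.fieldRange :=
    (IntermediateField.inclusion hle).toRingHom.toAlgebra
  haveI : IsScalarTower (IntermediateField.adjoin k ({τ x} : Set K)) τ.fieldRange K :=
    IsScalarTower.of_algebraMap_eq fun _ => rfl
  haveI : FiniteDimensional τ.fieldRange K :=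
    Module.Finite.of_restrictScalars_finite (IntermediateField.adjoin k ({τ x} : Set K)) _ K
  haveI hfinite : @FiniteDimensional K K _ _ τ.toRingHom.toAlgebra.toModule := by
    obtain ⟨T, hT⟩ := Module.finite_def.1 (inferInstance : Module.Finite τ.fieldRange K)
    refine (@Module.finite_def K K _ _ τ.toRingHom.toAlgebra.toModule).2 ⟨T, ?_⟩
    refine eq_top_iff.2 fun z _ => ?_
    have hz : z ∈ Submodule.span τ.fieldRange (T : Set K) := hT ▸ Submodule.mem_top
    induction hz using Submodule.span_induction with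
    | mem w hw => exact @Submodule.subset_span K K _ _ τ.toRingHom.toAlgebra.toModule _ w hw
    | zero => exact @Submodule.zero_mem K K _ _ τ.toRingHom.toAlgebra.toModule _
    | add a b _ _ ha hb =>
      exact @Submodule.add_mem K K _ _ τ.toRingHom.toAlgebra.toModule _ _ _ (ha trivial) (hb trivial)
    | smul c a _ ha =>
      obtain ⟨_, c', rfl⟩ := c
      exact @Submodule.smul_mem K K _ _ τ.toRingHom.toAlgebra.toModule _ _ c' (ha trivial)
  have hrank : @Module.finrank K K _ _ τ.toRingHom.toAlgebra.toModule = Module.finrank τ.fieldRange K :=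
    @Algebra.finrank_eq_of_equiv_equiv K K _ _ τ.toRingHom.toAlgebra τ.fieldRange K _ _ _
      (AlgEquiv.ofInjectiveField τ).toRingEquiv (RingEquiv.refl K) (RingHom.ext fun _ => rfl)
  refine ⟨?_, Module.finrank_pos⟩
  have h := @deg_mapDiv_algebraMap k K K _ _ _ _ τ.toRingHom.toAlgebra _
    (@IsScalarTower.of_algebraMap_eq k K K _ _ _ _ τ.toRingHom.toAlgebra _ fun c => (τ.commutes c).symm)
    hfinite (Fin (n + 1)) _ _ hK φ
  rw [hrank] at h
  exact h

theorem deg_wDiv {φ : Fin (n + 1) → K} (hφ : LinearIndependent k φ) (τ : K →ₐ[k] K)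
    {s : K} {H : K →ₐ[k] PowerSeries K} (hH : LocRes.IsHasseFamily s H) {J : Fin n → ℕ}
    {Φ : FunFld.Place k K → (K →ₐ[k] LaurentSeries k)}
    (hΦ : ∀ P : FunFld.Place k K, LocRes.IsExpansionAt P.1 (Φ P)) :
    (FunFld.wDiv τ H Φ s φ J).deg =
      ((Module.finrank τ.fieldRange K : ℤ) + n) * (FunFld.mapDiv k φ).deg +
        (2 * (FunFld.genus k K : ℤ) - 2) * ∑ l, (J l : ℤ) := by
  obtain ⟨C, hC, hCd⟩ := Groth.Agent.H23Diff.divDiff_eq hK (D_ne_zero_of_isHasseFamily hH) hΦ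
  have hd1 : FunFld.div k (1 : K) = 0 := by rw [← map_one (algebraMap k K), div_const hK]
  let degh : FunFld.Divisor k K →+ ℤ := AddMonoidHom.mk' FunFld.Divisor.deg deg_add
  have hz : ∀ (m : ℤ) (D : FunFld.Divisor k K), (m • D).deg = m * D.deg := fun m D =>
    (map_zsmul degh m D).trans (smul_eq_mul m _)
  rw [FunFld.wDiv, deg_add, deg_add, deg_add, deg_div hK, hz, hz, (hCd 1 one_ne_zero).2, hd1, zero_add C,
    (canonical_ell_deg hK hC).2, (deg_mapDiv_comp hK τ φ).1]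
  ring

end Groth.Agent.H23Proj
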