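import Mathlib
import Groth.Agent.H23Proj.WDiv
import Groth.Agent.H23Curve.Basic

/-!
Classical orders in small degree.
-/

set_option autoImplicit false
set_option linter.unusedSectionVars false
set_option linter.style.haveILetI false

namespace Groth.Agent.H23Proj

variable {k K : Type*} [Field k] [Field K] [Algebra k K] [IsAlgClosed k]

/-- Binomial matrices in small degree are invertible. -/
theorem det_binomMat_ne_zero {n : ℕ} {c : ℕ} (hc : c ≤ 1) {v : Fin n → ℕ} (hv : StrictMono v) (hpos : ∀ l, 0 < v l)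
    (hlt : ∀ l, ringChar k = 0 ∨ v l < ringChar k) :
    (FunFld.binomMat k v (fun l : Fin n => (l : ℕ) + c)).det ≠ 0 := by
  have hcast : ∀ a : ℕ, 0 < a → (ringChar k = 0 ∨ a < ringChar k) → (a : k) ≠ 0 := by
    intro a ha h h0
    rw [ringChar.spec] at h0
    rcases h with h | h
    · rw [h, zero_dvd_iff] at h0; omega
    · exact absurd (Nat.le_of_dvd ha h0) (by omega)
  have hinj : Function.Injective (fun r : Fin n => ((v r - c : ℕ) : k)) := by
    have key : ∀ a b : Fin n, a < b → ((v a - c : ℕ) : k) ≠ ((v b - c : ℕ) : k) := by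
      intro a b hab e
      have h1 := hv hab
      have h2 := hpos a
      refine hcast (v b - c - (v a - c)) (by omega) ((hlt b).imp id fun h => by omega) ?_
      rw [Nat.cast_sub (by omega), e, sub_self]
    intro a b e
    rcases lt_trichotomy a b with h | h | h
    · exact absurd e (key a b h)
    · exact h
    · exact absurd e.symm (key b a h)
  have hvand : (Matrix.vandermonde fun r : Fin n => ((v r - c : ℕ) : k)).det ≠ 0 :=
    Matrix.det_vandermonde_ne_zero_iff.2 hinj
  rw [Matrix.det_eval_matrixOfPolynomials_eq_det_vandermonde (fun r : Fin n => ((v r - c : ℕ) : k))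
    (fun s => descPochhammer k s) (fun s => descPochhammer_natDegree k s) (fun s => monic_descPochhammer k s)] at hvand
  intro h0
  refine hvand ?_
  set M := Matrix.of fun r s : Fin n => (descPochhammer k (s : ℕ)).eval (((v r - c : ℕ) : k))
  have hM : ∀ r s : Fin n, M r s = (((v r - c).descFactorial s : ℕ) : k) := fun r s =>
    descPochhammer_eval_eq_descFactorial k _ _
  -- scale rows and columns
  have hrow : (Matrix.of fun r s : Fin n => ((if c = 0 then 1 else v r : ℕ) : k) * M r s) =
      Matrix.of fun r s : Fin n => (((s : ℕ) + c).factorial : k) * FunFld.binomMat k v (fun l : Fin n => (l : ℕ) + c) r s := by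
    ext r s
    simp only [Matrix.of_apply, hM, FunFld.binomMat]
    rw [← Nat.cast_mul, ← Nat.cast_mul, ← Nat.descFactorial_eq_factorial_mul_choose]
    congr 1
    interval_cases c
    · simp
    · have := hpos r
      simp only [one_ne_zero, if_false]
      conv_rhs => rw [show v r = v r - 1 + 1 by omega, Nat.succ_descFactorial_succ]
      rw [show v r - 1 + 1 = v r by omega]
  have h := congrArg Matrix.det hrow
  rw [Matrix.det_mul_column, Matrix.det_mul_row, h0, mul_zero, mul_eq_zero] at h
  refine h.resolve_left (Finset.prod_ne_zero_iff.2 fun r _ => ?_)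
  split_ifs
  · simp
  · exact hcast _ (hpos r) (hlt r)

/-- The positive orders at a place are at most the degree. -/
theorem ordersAt_le_deg (hK : FunFld.IsFunctionField k K) {n : ℕ} {φ : Fin (n + 1) → K} (hφ : LinearIndependent k φ)
    {P : FunFld.Place k K} {t : K} (ht : P.1 t = WithZero.exp (-1)) {Ht : K →ₐ[k] PowerSeries K}
    (hHt : LocRes.IsHasseFamily t Ht) {y : K} (hy : y ≠ 0) (hψ : LinearIndependent k (y • φ))
    (heff : (1 : K) ∈ Submodule.span k (Set.range (y • φ))) (hnorm : ∀ i, P.1 ((y • φ) i) ≤ 1)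
    {J' : Fin n → ℕ} (hJ' : FunFld.IsOrders (IsLocalRing.ResidueField P.O) (FunFld.hcolAt P Ht (y • φ)) J')
    (r : Fin n) : (J' r : ℤ) ≤ (FunFld.mapDiv k φ).deg := by
  have hne := hψ.ne_zero
  obtain ⟨f, hf, hfv⟩ := (Groth.Agent.H23Proj.mem_ordersAt_iff hK ht hHt hnorm hJ' heff _).1 (Or.inr ⟨r, rfl⟩)
  have hf0 : f ≠ 0 := fun h => WithZero.exp_ne_zero (by rw [← hfv, h, map_zero])
  have hD0 := Groth.Agent.H23Proj.mapDiv_apply_eq_zero hK hne heff hnorm
  have hfL : f ∈ FunFld.L (FunFld.mapDiv k (y • φ) - Finsupp.single P (J' r : ℤ)) := by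
    intro Q
    rw [Finsupp.sub_apply]
    rcases eq_or_ne Q P with rfl | hQ
    · rw [Finsupp.single_eq_same, hD0, zero_sub, hfv]
    · rw [Finsupp.single_eq_of_ne hQ, sub_zero]
      exact Groth.Agent.H23Proj.V_le_L hK hne hf Q
  have hdeg : 0 ≤ (FunFld.mapDiv k (y • φ) - Finsupp.single P (J' r : ℤ)).deg := by
    by_contra h
    rw [Groth.Agent.H23FunFld.L_eq_bot_of_deg_neg hK (by omega), Submodule.mem_bot] at hfL
    exact hf0 hfL
  rw [Groth.Agent.H23FunFld.deg_sub, Groth.Agent.H23FunFld.deg_single,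
    Groth.Agent.H23Proj.deg_eq_one_of_isAlgClosed hK P, Groth.Agent.H23Proj.mapDiv_smul hK hφ.ne_zero hy,
    Groth.Agent.H23FunFld.deg_sub, Groth.Agent.H23FunFld.deg_div hK, sub_zero] at hdeg
  push_cast at hdeg
  omega

/-- The orders are at most the classical ones. -/
theorem orders_le_classical (hK : FunFld.IsFunctionField k K) {n : ℕ} {φ : Fin (n + 1) → K} (hφ : LinearIndependent k φ)
    (hchar : ringChar k = 0 ∨ (FunFld.mapDiv k φ).deg < ringChar k)
    {τ : K →ₐ[k] K} {s : K} {H : K →ₐ[k] PowerSeries K} (hH : LocRes.IsHasseFamily s H)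
    {J : Fin n → ℕ} (hJ : FunFld.IsOrders K (FunFld.hcol τ H φ) J)
    {c : ℕ} (hc : c ≤ 1) {P : FunFld.Place k K} (hP : FunFld.IsFixedPt τ P)
    (hcP : 0 < c ∨ FunFld.IsStrongFixedPt τ P) (l : Fin n) : J l ≤ (l : ℕ) + c := by
  classical
  choose Φ hΦ using fun R : FunFld.Place k K => Groth.Agent.H23Diff.exists_expansion hK R
  obtain ⟨t, y, Ht, ψ, ht, hy, rfl, hHt, hψ, heff, hnorm, hJψ, -⟩ :=
    exists_local_form hK hφ τ hH hJ hΦ P
  obtain ⟨J', hJ'⟩ := exists_ordersAt hK ht hHt hnorm hψ heff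
  have hpos := ordersAt_pos hK ht hHt hnorm hJ'
  have hbound : ∀ r, ringChar k = 0 ∨ J' r < ringChar k := fun r => hchar.imp id fun hlt => by
    have := ordersAt_le_deg hK hφ ht hHt hy hψ heff hnorm hJ' r
    omega
  have hI : StrictMono fun l : Fin n => (l : ℕ) + c := fun a b h => by
    have : (a : ℕ) < b := h
    simp only
    omega
  obtain ⟨-, heq⟩ := Groth.Agent.H23Proj.val_det hK ht hHt τ hP hψ heff hnorm hJ' (fun l : Fin n => (l : ℕ) + c)
  have hdet : (FunFld.wrMat τ Ht (y • φ) (fun l : Fin n => (l : ℕ) + c)).det ≠ 0 := fun h0 => by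
    have := (heq (hcP.imp (fun h l => by omega) id)).2 (det_binomMat_ne_zero hc hJ'.1 hpos hbound)
    rw [h0, map_zero] at this
    exact WithZero.exp_ne_zero this.symm
  rw [Groth.Agent.H23Proj.wrMat_eq] at hdet
  exact orders_le hJψ hI hdet l

end Groth.Agent.H23Proj
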