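import Mathlib
import Groth.Agent.H23Proj.Classical
import Groth.Agent.S12609

/-!
Weierstrass points in characteristic zero or large.
-/

set_option autoImplicit false
set_option linter.unusedSectionVars false
set_option linter.style.haveILetI false

namespace Groth.Agent.H23Proj

open Groth.Agent.H23FunFld

variable {k K : Type*} [Field k] [Field K] [Algebra k K]

/-- Pullback of a place along an automorphism. -/
noncomputable def pullPlace (σ : K ≃ₐ[k] K) (P : FunFld.Place k K) : FunFld.Place k K :=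
  ⟨P.1.comap (σ : K →+* K), fun c => by
    change P.1 (σ (algebraMap k K c)) ≤ 1
    rw [σ.commutes]; exact P.2.1 c, fun a => by
    obtain ⟨x, hx⟩ := P.2.2 a
    exact ⟨σ.symm x, by change P.1 (σ (σ.symm x)) = a; rw [σ.apply_symm_apply, hx]⟩⟩

theorem pullPlace_apply (σ : K ≃ₐ[k] K) (P : FunFld.Place k K) (x : K) : (pullPlace σ P).1 x = P.1 (σ x) := rfl

theorem pullPlace_symm (σ : K ≃ₐ[k] K) (P : FunFld.Place k K) : pullPlace σ (pullPlace σ.symm P) = P :=
  Subtype.ext (Valuation.ext fun x => by rw [pullPlace_apply, pullPlace_apply, σ.symm_apply_apply])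

theorem symm_pullPlace (σ : K ≃ₐ[k] K) (P : FunFld.Place k K) : pullPlace σ.symm (pullPlace σ P) = P :=
  Subtype.ext (Valuation.ext fun x => by rw [pullPlace_apply, pullPlace_apply, σ.apply_symm_apply])

theorem mem_L_pullPlace (σ : K ≃ₐ[k] K) (P : FunFld.Place k K) (m : ℤ) (x : K) :
    x ∈ FunFld.L (Finsupp.single (pullPlace σ P) m) ↔ σ x ∈ FunFld.L (Finsupp.single P m) := by
  classical
  constructor
  · intro h R
    rw [← pullPlace_apply]
    refine (h (pullPlace σ R)).trans (le_of_eq ?_)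
    rcases eq_or_ne R P with rfl | hR
    · rw [Finsupp.single_eq_same, Finsupp.single_eq_same]
    · rw [Finsupp.single_eq_of_ne hR, Finsupp.single_eq_of_ne fun e => hR ?_]
      rw [← symm_pullPlace σ R, e, symm_pullPlace]
  · intro h R
    have := h (pullPlace σ.symm R)
    rw [← pullPlace_apply, pullPlace_symm] at this
    refine this.trans (le_of_eq ?_)
    rcases eq_or_ne R (pullPlace σ P) with rfl | hR
    · rw [symm_pullPlace, Finsupp.single_eq_same, Finsupp.single_eq_same]
    · rw [Finsupp.single_eq_of_ne hR, Finsupp.single_eq_of_ne fun e => hR ?_]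
      rw [← pullPlace_symm σ R, e]

theorem isGap_pullPlace (σ : K ≃ₐ[k] K) (P : FunFld.Place k K) (m : ℕ) :
    H23Curve.IsGap (pullPlace σ P) m ↔ H23Curve.IsGap P m := by
  unfold H23Curve.IsGap
  constructor
  · intro h
    ext z
    obtain ⟨x, rfl⟩ := σ.surjective z
    rw [← mem_L_pullPlace, ← mem_L_pullPlace, h]
  · intro h
    ext x
    rw [mem_L_pullPlace, mem_L_pullPlace, h]

variable [IsAlgClosed k] (hK : FunFld.IsFunctionField k K)
include hK

theorem isFixedPt_iff (σ : K ≃ₐ[k] K) (P : FunFld.Place k K) :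
    FunFld.IsFixedPt (σ : K →ₐ[k] K) P ↔ pullPlace σ P = P := by
  constructor
  · intro hP
    refine (place_eq_of_le fun x hx => ?_).symm
    obtain ⟨c, hc⟩ := eq_one_of_isAlgClosed hK P hx
    have h1 : P.1 (σ (x - algebraMap k K c)) < 1 := hP _ hc
    rw [map_sub, σ.commutes] at h1
    have h2 := (P.1.map_add (σ x - algebraMap k K c) (algebraMap k K c)).trans (max_le h1.le (P.2.1 c))
    rwa [sub_add_cancel] at h2
  · intro h x hx
    rw [← h] at hx
    exact hx

/-- The canonical system has no base points. -/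
theorem canonical_bpf (hg : 0 < FunFld.genus k K) {C : FunFld.Divisor k K} (hC : FunFld.IsCanonical k K C)
    (P : FunFld.Place k K) : ∃ u ∈ FunFld.L C, P.1 u = WithZero.exp (C P) := by
  classical
  have hdeg1 := deg_eq_one_of_isAlgClosed hK P
  by_contra hno
  have he : FunFld.L C ≤ FunFld.L (C - Finsupp.single P 1) := by
    intro u hu Q
    rcases eq_or_ne Q P with rfl | hQ
    · rw [Finsupp.sub_apply, Finsupp.single_eq_same]
      rcases eq_or_ne u 0 with rfl | hu0
      · rw [map_zero]; exact zero_le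
      have h1 := (val_le_exp_iff Q hu0).1 (hu Q)
      refine (val_le_exp_iff Q hu0).2 ?_
      by_contra hlt
      exact hno ⟨u, hu, by rw [val_eq_exp Q hu0]; congr 1; omega⟩
    · rw [Finsupp.sub_apply, Finsupp.single_eq_of_ne hQ, sub_zero]; exact hu Q
  have := finiteDimensional_L hK (C - Finsupp.single P 1)
  have h1 := Submodule.finrank_mono he
  change FunFld.ell C ≤ FunFld.ell _ at h1
  have h2 := riemann_roch hK hC (Finsupp.single P (1 : ℤ))
  obtain ⟨h3, -⟩ := canonical_ell_deg hK hC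
  rw [deg_single, hdeg1] at h2
  have htwo : 2 ≤ FunFld.ell (Finsupp.single P (1 : ℤ)) := by omega
  have hne : FunFld.L (Finsupp.single P (1 : ℤ)) ≠ FunFld.L (Finsupp.single P ((1 : ℤ) - 1)) := by
    intro h
    norm_num at h
    have h4 : FunFld.ell (Finsupp.single P (1 : ℤ)) = FunFld.ell (0 : FunFld.Divisor k K) :=
      congrArg (fun W : Submodule k K => Module.finrank k W) h
    rw [ell_zero hK] at h4
    omega
  obtain ⟨z, hz, hzL, hzo⟩ := H23Curve.exists_ord_of_ne hK hne
  have := genus_zero_of_adjoin_top hK (adjoin_eq_top_of_simple_pole hK hdeg1 hzo fun Q hQ => by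
    have h5 := (val_le_exp_iff Q hz).1 (hzL Q)
    rw [Finsupp.single_eq_of_ne hQ] at h5
    omega)
  omega

/-- A member of the canonical system gives a gap. -/
theorem isGap_of_exists {C : FunFld.Divisor k K} (hC : FunFld.IsCanonical k K C) (P : FunFld.Place k K) (j : ℕ)
    {u : K} (hu : u ∈ FunFld.L C) (huv : P.1 u = WithZero.exp (C P - (j : ℤ))) :
    H23Curve.IsGap P (j + 1) := by
  classical
  have hdeg1 := deg_eq_one_of_isAlgClosed hK P
  have hRR : ∀ i : ℤ, (FunFld.ell (C - Finsupp.single P i) : ℤ) =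
      FunFld.ell (Finsupp.single P i) - i + FunFld.genus k K - 1 := by
    intro i
    have h := riemann_roch hK hC (Finsupp.single P i)
    rw [deg_single, hdeg1] at h
    push_cast at h
    omega
  have hmem : u ∈ FunFld.L (C - Finsupp.single P (j : ℤ)) := fun Q => by
    rcases eq_or_ne Q P with rfl | hQ
    · rw [Finsupp.sub_apply, Finsupp.single_eq_same, huv]
    · rw [Finsupp.sub_apply, Finsupp.single_eq_of_ne hQ, sub_zero]; exact hu Q
  have hnot : u ∉ FunFld.L (C - Finsupp.single P ((j : ℤ) + 1)) := fun h => by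
    have := h P
    rw [huv, Finsupp.sub_apply, Finsupp.single_eq_same, WithZero.exp_le_exp] at this
    omega
  haveI := finiteDimensional_L hK (C - Finsupp.single P (j : ℤ))
  have h1 : FunFld.ell (C - Finsupp.single P ((j : ℤ) + 1)) < FunFld.ell (C - Finsupp.single P (j : ℤ)) :=
    Submodule.finrank_lt_finrank_of_lt (SetLike.lt_iff_le_and_exists.2
      ⟨L_mono (sub_le_sub_left (Finsupp.single_mono (by omega)) C), u, hmem, hnot⟩)
  have e1 := hRR j
  have e2 := hRR ((j : ℤ) + 1)
  have hle : FunFld.L (Finsupp.single P (j : ℤ)) ≤ FunFld.L (Finsupp.single P ((j : ℤ) + 1)) :=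
    L_mono (Finsupp.single_mono (by omega))
  haveI := finiteDimensional_L hK (Finsupp.single P ((j : ℤ) + 1))
  have h2 : FunFld.ell (Finsupp.single P (j : ℤ)) ≤ FunFld.ell (Finsupp.single P ((j : ℤ) + 1)) :=
    Submodule.finrank_mono hle
  unfold H23Curve.IsGap
  push_cast
  rw [add_sub_cancel_right]
  exact (Submodule.eq_of_le_of_finrank_le hle (show FunFld.ell _ ≤ FunFld.ell _ by omega)).symm

/-- Gaps in terms of orders. -/
theorem card_gaps_lt (P : FunFld.Place k K) {m : ℕ} (hm : H23Curve.IsGap P (m + 1)) :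
    m ≤ 2 * {i : ℕ | 1 ≤ i ∧ i < m + 1 ∧ H23Curve.IsGap P i}.ncard := by
  classical
  let G := (Finset.Ico 1 (m + 1)).filter (fun i => H23Curve.IsGap P i)
  let M := (Finset.Ico 1 (m + 1)).filter (fun i => ¬ H23Curve.IsGap P i)
  have hset : {i : ℕ | 1 ≤ i ∧ i < m + 1 ∧ H23Curve.IsGap P i} = ↑G := by
    ext i; simp [G, and_assoc]
  rw [hset, Set.ncard_coe_finset]
  have hMG : M.card ≤ G.card := by
    refine Finset.card_le_card_of_injOn (fun i => m + 1 - i) (fun i hi => ?_) (fun a ha b hb h => ?_)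
    · simp only [M, G, SetLike.mem_coe, Finset.mem_filter, Finset.mem_Ico] at hi ⊢
      refine ⟨by omega, by_contra fun hng => ?_⟩
      obtain ⟨x, hx0, hx, hxo⟩ := H23Curve.exists_ord_of_ne hK hi.2
      obtain ⟨y, hy0, hy, hyo⟩ := H23Curve.exists_ord_of_ne hK hng
      have hxy := mul_mem_L hx hy
      have hgap : FunFld.L (Finsupp.single P ((m + 1 : ℕ) : ℤ)) = FunFld.L (Finsupp.single P (((m + 1 : ℕ) : ℤ) - 1)) := hm
      rw [← Finsupp.single_add, show (i : ℤ) + ((m + 1 - i : ℕ) : ℤ) = ((m + 1 : ℕ) : ℤ) by omega, hgap] at hxy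
      have h1 := (val_le_exp_iff P (mul_ne_zero hx0 hy0)).1 (hxy P)
      rw [ord_mul P hx0 hy0, Finsupp.single_eq_same] at h1
      omega
    · simp only [M, SetLike.mem_coe, Finset.mem_filter, Finset.mem_Ico] at ha hb
      simp only at h
      omega
  have hsum : G.card + M.card = m := by
    simp only [G, M]
    rw [Finset.card_filter_add_card_filter_not, Nat.card_Ico]
    omega
  omega

section Canonical

variable {C : FunFld.Divisor k K} (hC : FunFld.IsCanonical k K C) {n : ℕ} {φ : Fin (n + 1) → K}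
  (hφ : LinearIndependent k φ) (hspan : Submodule.span k (Set.range φ) = FunFld.L C)
include hC hφ hspan

theorem genus_eq : FunFld.genus k K = n + 1 := by
  rw [← (canonical_ell_deg hK hC).1, FunFld.ell, ← hspan, finrank_span_eq_card hφ, Fintype.card_fin]

theorem deg_mapDiv_canonical : (FunFld.mapDiv k φ).deg = 2 * (n : ℤ) := by
  have hg := genus_eq hK hC hφ hspan
  have h : FunFld.mapDiv k φ = C := by
    ext R
    obtain ⟨i, hi⟩ := exists_attain hK hφ.ne_zero R
    obtain ⟨u, hu, huv⟩ := canonical_bpf hK (by omega) hC R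
    have h1 : φ i ∈ FunFld.L C := hspan ▸ Submodule.subset_span ⟨i, rfl⟩
    have h2 := h1 R
    have h3 := V_le_L hK hφ.ne_zero (hspan ▸ hu) R
    rw [hi, WithZero.exp_le_exp] at h2
    rw [huv, WithZero.exp_le_exp] at h3
    omega
  rw [h, (canonical_ell_deg hK hC).2, hg]
  push_cast
  ring

/-- The weight at a place in terms of the gaps there. -/
theorem weight_eq (hchar : ringChar k = 0 ∨ 2 * (n : ℤ) < ringChar k)
    {s : K} {H : K →ₐ[k] PowerSeries K} (hH : LocRes.IsHasseFamily s H)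
    {J : Fin n → ℕ} (hJ : FunFld.IsOrders K (FunFld.hcol (AlgHom.id k K) H φ) J)
    {Φ : FunFld.Place k K → (K →ₐ[k] LaurentSeries k)}
    (hΦ : ∀ P : FunFld.Place k K, LocRes.IsExpansionAt P.1 (Φ P)) (P : FunFld.Place k K) :
    (∀ l : Fin n, J l = (l : ℕ) + 1) ∧ ∃ J' : Fin n → ℕ, StrictMono J' ∧ (∀ l, 0 < J' l) ∧
      (∀ j : ℕ, 1 ≤ j → (j ∈ Set.range J' ↔ H23Curve.IsGap P (j + 1))) ∧
      FunFld.wDiv (AlgHom.id k K) H Φ s φ J P = ∑ l : Fin n, ((J' l : ℤ) - ((l : ℕ) + 1)) ∧
      ∀ l : Fin n, J' l ≤ 2 * ((l : ℕ) + 1) := by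
  classical
  have hdeg := deg_mapDiv_canonical hK hC hφ hspan
  have hchar' : ringChar k = 0 ∨ (FunFld.mapDiv k φ).deg < ringChar k := by rwa [hdeg]
  have hlow : ∀ l : Fin n, (l : ℕ) + 1 ≤ J l := by
    rintro ⟨l, hl⟩
    induction l with
    | zero => exact orders_id_pos hK hH hJ _
    | succ l ih =>
      have h1 := hJ.1 (show (⟨l, by omega⟩ : Fin n) < ⟨l + 1, hl⟩ from Nat.lt_succ_self l)
      have h2 := ih (by omega)
      simp only at h2 ⊢
      omega
  have hJeq : ∀ l : Fin n, J l = (l : ℕ) + 1 := fun l =>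
    le_antisymm (orders_le_classical hK hφ hchar' hH hJ le_rfl (P := P) (fun z hz => hz) (Or.inl one_pos) l) (hlow l)
  refine ⟨hJeq, ?_⟩
  obtain ⟨t, y, Ht, ψ, ht, hy, rfl, hHt, hψ, heff, hnorm, hJψ, hW⟩ :=
    exists_local_form hK hφ (AlgHom.id k K) hH hJ hΦ P
  obtain ⟨J', hJ'⟩ := exists_ordersAt hK ht hHt hnorm hψ heff
  have hpos := ordersAt_pos hK ht hHt hnorm hJ'
  have hmem : ∀ j : ℕ, 1 ≤ j → (j ∈ Set.range J' ↔ H23Curve.IsGap P (j + 1)) := by
    intro j hj
    rw [hJ'.2, Groth.Agent.S12609.result k K hK C hC φ hφ hspan P y hy heff hnorm t ht Ht hHt j hj]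
    unfold H23Curve.IsGap
    push_cast
    rw [add_sub_cancel_right]
  refine ⟨J', hJ'.1, hpos, hmem, ?_, fun l => ?_⟩
  · rw [← hW, wDiv_apply hK hψ _ ht heff hnorm Ht J hΦ]
    have h0 : FunFld.mapDiv k ((AlgHom.id k K : K → K) ∘ (y • φ)) P = 0 :=
      mapDiv_apply_eq_zero hK hψ.ne_zero heff hnorm
    rw [h0, add_zero, show J = fun l : Fin n => (l : ℕ) + 1 from funext hJeq]
    obtain ⟨-, heq⟩ := val_det hK ht hHt (AlgHom.id k K) (fun z hz => hz) hψ heff hnorm hJ'
      (fun l : Fin n => (l : ℕ) + 1)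
    have hv := (heq (Or.inl fun l => by omega)).2 (det_binomMat_ne_zero le_rfl hJ'.1 hpos fun r =>
      hchar'.imp id fun hlt => by
        have := ordersAt_le_deg hK hφ ht hHt hy hψ heff hnorm hJ' r
        omega)
    rw [FunFld.Place.ord, hv, WithZero.log_exp, neg_neg]
    push_cast
    rfl
  · have h1 := card_gaps_lt hK P ((hmem _ (hpos l)).1 ⟨l, rfl⟩)
    have h2 : {i : ℕ | 1 ≤ i ∧ i < J' l + 1 ∧ H23Curve.IsGap P i}.ncard ≤ (l : ℕ) + 1 := by
      have hsub : {i : ℕ | 1 ≤ i ∧ i < J' l + 1 ∧ H23Curve.IsGap P i} ⊆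
          ↑(insert 1 ((Finset.Iio l).image fun l' => J' l' + 1)) := by
        rintro i ⟨hi1, hi2, hi3⟩
        rcases eq_or_ne i 1 with rfl | hne
        · simp
        obtain ⟨i, rfl⟩ : ∃ a, i = a + 1 := ⟨i - 1, by omega⟩
        obtain ⟨l', hl'⟩ := (hmem i (by omega)).2 hi3
        simp only [Finset.coe_insert, Finset.coe_image, Set.mem_insert_iff, Set.mem_image, Finset.coe_Iio]
        refine Or.inr ⟨l', ?_, by rw [hl']⟩
        refine hJ'.1.lt_iff_lt.1 ?_
        omega
      refine (Set.ncard_le_ncard hsub (Finset.finite_toSet _)).trans ?_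
      rw [Set.ncard_coe_finset]
      refine (Finset.card_insert_le _ _).trans (Nat.add_le_add_right ?_ 1)
      exact Finset.card_image_le.trans (Fin.card_Iio l).le
    omega

end Canonical

end Groth.Agent.H23Proj
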