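import Mathlib
import Groth.Agent.H23Proj.PlaneModel
import Groth.Agent.H23Geom.Separating

/-!
Plane models and geometric function fields.
-/

set_option autoImplicit false
set_option linter.unusedSectionVars false
set_option linter.style.haveILetI false

universe u v

namespace Groth.Agent.H23Proj

open MvPolynomial TensorProduct

variable {k : Type u} {K : Type v} [Field k] [Field K] [Algebra k K]

/-- The kernel of the evaluation after extension of scalars. -/
theorem ker_lTensor {σ : Type*} {v : σ → K} {f : MvPolynomial σ k}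
    (hker : RingHom.ker (aeval v : MvPolynomial σ k →ₐ[k] K) = Ideal.span {f}) (k' : Type*) [Field k']
    [Algebra k k'] :
    RingHom.ker (Algebra.TensorProduct.map (AlgHom.id k' k') (aeval v : MvPolynomial σ k →ₐ[k] K)) =
      Ideal.span {(1 : k') ⊗ₜ[k] f} := by
  refine le_antisymm (fun z hz => ?_) ((Ideal.span_singleton_le_iff_mem _).2 ?_)
  · have hex : Function.Exact (LinearMap.mulLeft k f) (aeval v : MvPolynomial σ k →ₐ[k] K).toLinearMap := fun p => by
      change aeval v p = 0 ↔ _
      rw [← RingHom.mem_ker, hker, Ideal.mem_span_singleton', Set.mem_range]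
      simp [mul_comm f]
    obtain ⟨w, hw⟩ := (Module.Flat.lTensor_exact k' hex z).1 hz
    rw [← hw, Ideal.mem_span_singleton]
    clear hw
    induction w using TensorProduct.induction_on with
    | zero => exact ⟨0, by simp⟩
    | tmul c p => exact ⟨c ⊗ₜ p, by simp [Algebra.TensorProduct.tmul_mul_tmul]⟩
    | add a b ha hb => rw [map_add]; exact dvd_add ha hb
  · rw [RingHom.mem_ker, Algebra.TensorProduct.map_tmul, AlgHom.id_apply]
    have hf : aeval v f = 0 := by
      rw [← RingHom.mem_ker, hker]; exact Ideal.mem_span_singleton_self f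
    rw [hf, tmul_zero]

/-- Absolute irreducibility of the relation of a geometric plane model. -/
theorem irreducible_map_of_isField {σ : Type*} [Finite σ] {v : σ → K} {f : MvPolynomial σ k} (hf : f ≠ 0)
    (hker : RingHom.ker (aeval v : MvPolynomial σ k →ₐ[k] K) = Ideal.span {f}) (k' : Type*) [Field k']
    [Algebra k k'] (hF : IsField (k' ⊗[k] K)) : Irreducible (MvPolynomial.map (algebraMap k k') f) := by
  let e := MvPolynomial.algebraTensorAlgEquiv (σ := σ) k k'
  haveI : IsDomain (k' ⊗[k] K) := hF.isDomain
  have he : e ((1 : k') ⊗ₜ[k] f) = MvPolynomial.map (algebraMap k k') f := by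
    rw [MvPolynomial.algebraTensorAlgEquiv_tmul, one_smul]
  have hne : (1 : k') ⊗ₜ[k] f ≠ 0 := fun h => hf (MvPolynomial.map_injective _ (algebraMap k k').injective (by
    rw [map_zero, ← he, h, map_zero]))
  have hp : Prime ((1 : k') ⊗ₜ[k] f) := by
    rw [← Ideal.span_singleton_prime hne, ← ker_lTensor hker k']
    exact RingHom.ker_isPrime _
  rw [← he]
  exact ((MulEquiv.prime_iff e.toMulEquiv).2 hp).irreducible

/-- An absolutely irreducible relation gives fields after extending scalars. -/
theorem isField_of_irreducible {σ : Type*} [Finite σ] {v : σ → K} {f : MvPolynomial σ k}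
    (hgen : IntermediateField.adjoin k (Set.range v) = ⊤)
    (hker : RingHom.ker (aeval v : MvPolynomial σ k →ₐ[k] K) = Ideal.span {f}) (k' : Type*) [Field k']
    [Algebra k k'] [FiniteDimensional k k'] (hirr : Irreducible (MvPolynomial.map (algebraMap k k') f)) :
    IsField (k' ⊗[k] K) := by
  let e := MvPolynomial.algebraTensorAlgEquiv (σ := σ) k k'
  have he : e ((1 : k') ⊗ₜ[k] f) = MvPolynomial.map (algebraMap k k') f := by
    rw [MvPolynomial.algebraTensorAlgEquiv_tmul, one_smul]
  haveI : Nontrivial (k' ⊗[k] K) := Module.FaithfullyFlat.lTensor_nontrivial k k' K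
  set ι := Algebra.TensorProduct.map (AlgHom.id k' k') (aeval v : MvPolynomial σ k →ₐ[k] K)
  have hp : Prime ((1 : k') ⊗ₜ[k] f) := by
    refine (MulEquiv.prime_iff e.toMulEquiv).1 ?_
    change Prime (e _)
    rw [he]; exact hirr.prime
  have hprime : (RingHom.ker ι).IsPrime := by
    rw [ker_lTensor hker k', Ideal.span_singleton_prime hp.ne_zero]; exact hp
  have hfrac : ∀ z : k' ⊗[k] K, ∃ (s : MvPolynomial σ k) (w : k' ⊗[k] MvPolynomial σ k),
      IsUnit ((1 : k') ⊗ₜ[k] aeval v s) ∧ (1 : k') ⊗ₜ[k] aeval v s * z = ι w := by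
    intro z
    induction z using TensorProduct.induction_on with
    | zero => exact ⟨1, 0, by simp [← Algebra.TensorProduct.one_def], by simp⟩
    | tmul c m =>
      obtain ⟨r, s, hm⟩ := (IntermediateField.mem_adjoin_range_iff k v m).1 (by rw [hgen]; trivial)
      rcases eq_or_ne (aeval v s) 0 with h0 | h0
      · refine ⟨1, 0, by simp [← Algebra.TensorProduct.one_def], ?_⟩
        rw [show m = 0 by rw [hm, h0, div_zero]]; simp
      · refine ⟨s, c ⊗ₜ r, (IsUnit.mk0 _ h0).map (Algebra.TensorProduct.includeRight : K →ₐ[k] k' ⊗[k] K), ?_⟩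
        rw [Algebra.TensorProduct.tmul_mul_tmul, one_mul, Algebra.TensorProduct.map_tmul, AlgHom.id_apply, hm,
          mul_div_cancel₀ _ h0]
    | add a b ha hb =>
      obtain ⟨s, p, hs, hsp⟩ := ha
      obtain ⟨t, q, ht, htq⟩ := hb
      refine ⟨s * t, (1 : k') ⊗ₜ t * p + (1 : k') ⊗ₜ s * q, ?_, ?_⟩
      · rw [map_mul, ← mul_one (1 : k'), ← Algebra.TensorProduct.tmul_mul_tmul]
        exact hs.mul ht
      · rw [map_mul (aeval v), ← mul_one (1 : k'), ← Algebra.TensorProduct.tmul_mul_tmul, mul_one, map_add,
          map_mul, map_mul, Algebra.TensorProduct.map_tmul, Algebra.TensorProduct.map_tmul, AlgHom.id_apply,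
          ← hsp, ← htq]
        ring
  haveI : NoZeroDivisors (k' ⊗[k] K) := by
    refine ⟨fun {a b} hab => ?_⟩
    obtain ⟨s, p, hs, hsp⟩ := hfrac a
    obtain ⟨t, q, ht, htq⟩ := hfrac b
    have h : ι (p * q) = 0 := by
      rw [map_mul, ← hsp, ← htq, mul_mul_mul_comm, hab, mul_zero]
    rcases hprime.mem_or_mem (RingHom.mem_ker.2 h) with h | h
    · rw [RingHom.mem_ker, ← hsp] at h; exact Or.inl (hs.mul_right_eq_zero.1 h)
    · rw [RingHom.mem_ker, ← htq] at h; exact Or.inr (ht.mul_right_eq_zero.1 h)
  let c := (Algebra.TensorProduct.comm k K k').toRingEquiv.toMulEquiv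
  haveI : Nontrivial (K ⊗[k] k') := c.toEquiv.nontrivial
  haveI : NoZeroDivisors (K ⊗[k] k') := Function.Injective.noZeroDivisors c c.injective (map_zero _) (map_mul _)
  haveI : IsDomain (K ⊗[k] k') := NoZeroDivisors.to_isDomain _
  exact MulEquiv.isField (isField_of_isIntegral_of_isField' (R := K) (Field.toIsField K)) c.symm

/-- Geometric fields have algebraically closed constants. -/
theorem mem_const_of_isGeometric (hg : FunFld.IsGeometric k K) (c : K) (hc : IsAlgebraic k c) :
    c ∈ Set.range (algebraMap k K) := by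
  by_contra hne
  set p := minpoly k c
  haveI : Fact (Irreducible p) := ⟨minpoly.irreducible hc.isIntegral⟩
  haveI : FiniteDimensional k (AdjoinRoot p) := (AdjoinRoot.powerBasis (minpoly.ne_zero hc.isIntegral)).finite
  have hF := hg (AdjoinRoot p) inferInstance
  set z : AdjoinRoot p ⊗[k] K := AdjoinRoot.root p ⊗ₜ 1 - 1 ⊗ₜ c
  let φ : AdjoinRoot p ⊗[k] K →ₐ[k] K := Algebra.TensorProduct.lift
    (AdjoinRoot.liftAlgHom p (Algebra.ofId k K) c (minpoly.aeval k c)) (AlgHom.id k K) fun _ _ => Commute.all _ _
  have hφ : φ z = 0 := by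
    simp only [z, φ, map_sub, Algebra.TensorProduct.lift_tmul, map_one, one_mul, mul_one, AlgHom.id_apply]
    rw [sub_eq_zero]; exact AdjoinRoot.liftAlgHom_root p (Algebra.ofId k K) c (minpoly.aeval k c)
  rcases eq_or_ne z 0 with h0 | h0
  · -- coordinates along `1`
    have hdeg : 2 ≤ p.natDegree := by
      by_contra h
      refine hne ?_
      have h1 : p.natDegree = 1 := by
        have : 0 < p.natDegree := minpoly.natDegree_pos hc.isIntegral
        omega
      exact minpoly.mem_range_of_degree_eq_one k c (by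
        rw [Polynomial.degree_eq_natDegree (minpoly.ne_zero hc.isIntegral), h1]; rfl)
    let pb := AdjoinRoot.powerBasis (minpoly.ne_zero hc.isIntegral)
    have hpd : 2 ≤ pb.dim := hdeg
    let l : AdjoinRoot p →ₗ[k] k := pb.basis.coord ⟨1, hpd⟩
    have hl1 : l 1 = 0 := by
      have e : (1 : AdjoinRoot p) = pb.basis ⟨0, by omega⟩ := by simp
      change pb.basis.repr 1 ⟨1, hpd⟩ = 0
      rw [e, pb.basis.repr_self]
      simp
    have hlr : l (AdjoinRoot.root p) = 1 := by
      have e : AdjoinRoot.root p = pb.basis ⟨1, hpd⟩ := by rw [pb.basis_eq_pow]; simp [pb, p]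
      change pb.basis.repr _ ⟨1, hpd⟩ = 1
      rw [e, pb.basis.repr_self]
      simp
    have h := congrArg ((TensorProduct.lid k K).toLinearMap ∘ₗ l.rTensor K) h0
    simp [z, hl1, hlr] at h
  · obtain ⟨w, hw⟩ := hF.mul_inv_cancel h0
    have h := congrArg φ hw
    rw [map_mul, hφ, zero_mul, map_one] at h
    exact zero_ne_one h

theorem finite_over_of_relation {x y : K} {f : MvPolynomial (Fin 2) k} (hf : f ≠ 0)
    (hker : RingHom.ker (aeval ![x, y] : MvPolynomial (Fin 2) k →ₐ[k] K) = Ideal.span {f})
    (hxy : IntermediateField.adjoin k ({x, y} : Set K) = ⊤) (hx : Transcendental k x) :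
    FiniteDimensional (IntermediateField.adjoin k ({x} : Set K)) K := by
  set E := IntermediateField.adjoin k ({x} : Set K)
  have halg : IsAlgebraic E y := by
    by_contra hy
    have hy' : Transcendental (Algebra.adjoin k (Set.range fun _ : Fin 1 => x)) y := by
      intro h
      refine hy ?_
      have hle : Algebra.adjoin k (Set.range fun _ : Fin 1 => x) ≤ E.toSubalgebra := by
        rw [Set.range_const]; exact IntermediateField.algebra_adjoin_le_adjoin k _
      letI : Algebra (Algebra.adjoin k (Set.range fun _ : Fin 1 => x)) E := (Subalgebra.inclusion hle).toRingHom.toAlgebra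
      haveI : IsScalarTower (Algebra.adjoin k (Set.range fun _ : Fin 1 => x)) E K := IsScalarTower.of_algebraMap_eq fun _ => rfl
      exact h.extendScalars (Subalgebra.inclusion_injective hle)
    have hai : AlgebraicIndependent k (fun _ : Fin 1 => x) := (algebraicIndependent_unique_type_iff).2 hx
    have hai2 := ((hai.option_iff_transcendental y).2 hy').comp
      (![some 0, none] : Fin 2 → Option (Fin 1)) (by intro a b; fin_cases a <;> fin_cases b <;> simp)
    have hfun : ((fun o : Option (Fin 1) => o.elim y fun _ => x) ∘ ![some 0, none]) = ![x, y] := by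
      funext i; fin_cases i <;> rfl
    rw [hfun] at hai2
    have h := RingHom.mem_ker.1 (hker.symm ▸ Ideal.mem_span_singleton_self f :
      f ∈ RingHom.ker (aeval ![x, y] : MvPolynomial (Fin 2) k →ₐ[k] K))
    exact hf (hai2 (by rw [h, map_zero]))
  have hint : IsIntegral E y := halg.isIntegral
  haveI := IntermediateField.adjoin.finiteDimensional hint
  have htop : IntermediateField.adjoin E ({y} : Set K) = ⊤ := by
    refine IntermediateField.restrictScalars_injective k ?_
    rw [IntermediateField.restrictScalars_top, IntermediateField.adjoin_adjoin_left, Set.singleton_union, hxy]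
  exact Module.Finite.of_surjective (IntermediateField.adjoin E ({y} : Set K)).val.toLinearMap fun z =>
    ⟨⟨z, htop ▸ IntermediateField.mem_top⟩, rfl⟩

end Groth.Agent.H23Proj
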