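import Mathlib
import Groth.Agent.H23Proj.Homog
import Groth.Agent.H23Proj.Basic

/-!
The Jacobian criterion for the local ring of a curve at a point.
-/

set_option autoImplicit false
set_option linter.style.haveILetI false
set_option linter.unusedSectionVars false
set_option linter.unusedVariables false

namespace Groth.Agent.H23Proj

open MvPolynomial WithZero Groth.Agent.H23FunFld

variable {k K : Type*} [Field k] [Field K] [Algebra k K]

/-- The elements `a / w` with `a`, `w` polynomials in `z` and `w` a unit at `P`. -/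
def locSub {ι : Type*} (P : FunFld.Place k K) (z : ι → K) : Subalgebra k K where
  carrier := {x | ∃ a ∈ Algebra.adjoin k (Set.range z), ∃ w ∈ Algebra.adjoin k (Set.range z),
    P.1 w = 1 ∧ x * w = a}
  mul_mem' := by
    rintro x y ⟨a, ha, w, hw, hw1, hxa⟩ ⟨b, hb, v, hv, hv1, hyb⟩
    exact ⟨a * b, mul_mem ha hb, w * v, mul_mem hw hv, by rw [map_mul, hw1, hv1, mul_one],
      by rw [← hxa, ← hyb]; ring⟩
  add_mem' := by
    rintro x y ⟨a, ha, w, hw, hw1, hxa⟩ ⟨b, hb, v, hv, hv1, hyb⟩
    exact ⟨a * v + b * w, add_mem (mul_mem ha hv) (mul_mem hb hw), w * v, mul_mem hw hv,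
      by rw [map_mul, hw1, hv1, mul_one], by rw [← hxa, ← hyb]; ring⟩
  algebraMap_mem' c := ⟨_, Subalgebra.algebraMap_mem _ c, 1, one_mem _, map_one _, mul_one _⟩

theorem adjoin_le_locSub {ι : Type*} (P : FunFld.Place k K) (z : ι → K) :
    Algebra.adjoin k (Set.range z) ≤ locSub P z := fun a ha => ⟨a, ha, 1, one_mem _, map_one _, mul_one _⟩

theorem inv_mem_locSub {ι : Type*} {P : FunFld.Place k K} {z : ι → K} {x : K}
    (hx : x ∈ locSub P z) (h : P.1 x = 1) : x⁻¹ ∈ locSub P z := by
  obtain ⟨a, ha, w, hw, hw1, hxa⟩ := hx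
  have hx0 : x ≠ 0 := fun h0 => by simp [h0] at h
  exact ⟨w, hw, a, ha, by rw [← hxa, map_mul, h, hw1, one_mul], by rw [← hxa, inv_mul_cancel_left₀ hx0]⟩

theorem le_exp_neg_one {P : FunFld.Place k K} {x : K} (h : P.1 x < 1) : P.1 x ≤ exp (-1) := by
  rcases eq_or_ne x 0 with rfl | hx
  · simp
  · rw [val_le_exp_iff P hx]
    have := (val_lt_one_iff P hx).1 h
    omega

theorem exists_gen_of_finrank_eq_one {V : Type*} [AddCommGroup V] [Module k V] (W : Submodule k V)
    (h : Module.finrank k W = 1) : ∃ v ∈ W, v ≠ 0 ∧ ∀ w ∈ W, ∃ r : k, r • v = w := by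
  obtain ⟨v, hv, hspan⟩ := finrank_eq_one_iff'.1 h
  refine ⟨v, v.2, fun h0 => hv (Subtype.ext h0), fun w hw => ?_⟩
  obtain ⟨r, hr⟩ := hspan ⟨w, hw⟩
  exact ⟨r, congrArg Subtype.val hr⟩

theorem inLocRing_iff {ι : Type*} {φ : ι → K} {P : FunFld.Place k K} {j : ι} (hj0 : φ j ≠ 0)
    (hj : ∀ i, P.1 (φ i) ≤ P.1 (φ j)) (x : K) :
    FunFld.InLocRing φ P x ↔ x ∈ locSub P (fun i => φ i / φ j) := by
  refine ⟨?_, fun h => ⟨j, hj0, hj, h⟩⟩
  rintro ⟨l, hl0, hl, a, ha, w, hw, hw1, hxa⟩
  have h1 : P.1 (φ l / φ j) = 1 := by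
    rw [map_div₀, le_antisymm (hj l) (hl j), div_self (val_ne_zero P hj0)]
  have hle : Algebra.adjoin k (Set.range fun i => φ i / φ l) ≤ locSub P (fun i => φ i / φ j) := by
    refine Algebra.adjoin_le ?_
    rintro _ ⟨i, rfl⟩
    have := mul_mem (adjoin_le_locSub P _ (Algebra.subset_adjoin ⟨i, rfl⟩) : φ i / φ j ∈ locSub P fun i => φ i / φ j)
      (inv_mem_locSub (adjoin_le_locSub P _ (Algebra.subset_adjoin ⟨l, rfl⟩) :
        φ l / φ j ∈ locSub P fun i => φ i / φ j) h1)
    rwa [inv_div, div_mul_div_cancel₀ hj0] at this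
  have h2 := mul_mem (hle ha) (inv_mem_locSub (hle hw) hw1)
  rwa [← hxa, mul_inv_cancel_right₀ (fun h0 => by simp [h0] at hw1)] at h2

variable {ι : Type*} [Fintype ι] [DecidableEq ι]

/-- The gradient at the point `c`, as a linear map. -/
noncomputable def grad (c : ι → k) : MvPolynomial ι k →ₗ[k] (ι → k) :=
  LinearMap.pi fun i => (aeval c : MvPolynomial ι k →ₐ[k] k).toLinearMap ∘ₗ (pderiv i).toLinearMap

theorem grad_apply (c : ι → k) (g : MvPolynomial ι k) (i : ι) :
    grad c g i = aeval c (pderiv i g) := rfl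

theorem grad_mul (c : ι → k) (g h : MvPolynomial ι k) :
    grad c (g * h) = aeval c g • grad c h + aeval c h • grad c g := by
  funext i
  simp only [grad_apply, Pi.add_apply, Pi.smul_apply, smul_eq_mul, pderiv_mul, map_add, map_mul]
  ring

theorem grad_X (c : ι → k) (i : ι) : grad c (X i) = Pi.single i 1 := by
  funext l
  rw [grad_apply, pderiv_X]
  rcases eq_or_ne i l with rfl | h
  · simp
  · simp [h, Ne.symm h]

theorem grad_C (c : ι → k) (a : k) : grad c (C a) = 0 := by
  funext l; simp [grad_apply]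

/-- Taylor expansion of first order. -/
theorem taylor {S : Type*} [CommRing S] [Algebra k S] (c : ι → k) (v : ι → S) (g : MvPolynomial ι k) :
    aeval v g - algebraMap k S (aeval c g) - ∑ i, grad c g i • (v i - algebraMap k S (c i)) ∈
      Ideal.span (Set.range fun i => v i - algebraMap k S (c i)) *
        Ideal.span (Set.range fun i => v i - algebraMap k S (c i)) := by
  set I := Ideal.span (Set.range fun i => v i - algebraMap k S (c i))
  induction g using MvPolynomial.induction_on with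
  | C a => simp [grad_C]
  | add p q hp hq =>
    convert add_mem hp hq using 1
    simp only [map_add, Pi.add_apply, add_smul, Finset.sum_add_distrib]
    ring
  | mul_X p l hp =>
    have hu : ∀ i, v i - algebraMap k S (c i) ∈ I := fun i => Ideal.subset_span ⟨i, rfl⟩
    have hL : ∑ i, grad c p i • (v i - algebraMap k S (c i)) ∈ I :=
      Ideal.sum_mem _ fun i _ => by rw [Algebra.smul_def]; exact I.mul_mem_left _ (hu i)
    have := add_mem ((I * I).mul_mem_right (v l) hp) (Ideal.mul_mem_mul hL (hu l))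
    convert this using 1
    simp only [map_mul, grad_mul, grad_X, aeval_X, Pi.add_apply, Pi.smul_apply, smul_eq_mul, add_smul,
      Finset.sum_add_distrib, mul_smul, ← Finset.smul_sum]
    rw [show ∑ i, (Pi.single l 1 : ι → k) i • (v i - algebraMap k S (c i)) = v l - algebraMap k S (c l) by
      simp [Pi.single_apply, ite_smul]]
    simp only [Algebra.smul_def]
    ring

variable {P : FunFld.Place k K} {z : ι → K} {c : ι → k}
  (hc : ∀ i, P.1 (z i - algebraMap k K (c i)) < 1)
include hc

theorem val_z_le (i : ι) : P.1 (z i) ≤ 1 := by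
  have := P.1.map_add (z i - algebraMap k K (c i)) (algebraMap k K (c i))
  rw [sub_add_cancel] at this
  exact this.trans (max_le (hc i).le (P.2.1 _))

theorem locSub_val_le {x : K} (hx : x ∈ locSub P z) : P.1 x ≤ 1 := by
  obtain ⟨a, ha, w, hw, hw1, hxa⟩ := hx
  have hle : ∀ {y : K}, y ∈ Algebra.adjoin k (Set.range z) → P.1 y ≤ 1 := by
    intro y hy
    induction hy using Algebra.adjoin_induction with
    | mem y hy => obtain ⟨i, rfl⟩ := hy; exact val_z_le hc i
    | algebraMap r => exact P.2.1 r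
    | add a b _ _ ha hb => exact (P.1.map_add _ _).trans (max_le ha hb)
    | mul a b _ _ ha hb => rw [map_mul]; exact mul_le_one' ha hb
  have h1 := hle ha
  rwa [← hxa, map_mul, hw1, mul_one] at h1

theorem val_taylor_le (g : MvPolynomial ι k) :
    P.1 (aeval z g - algebraMap k K (aeval c g) - ∑ i, grad c g i • (z i - algebraMap k K (c i))) ≤
      exp (-2) := by
  let R := locSub P z
  let v : ι → R := fun i => ⟨z i, adjoin_le_locSub P z (Algebra.subset_adjoin ⟨i, rfl⟩)⟩
  have h := taylor c v g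
  set I := Ideal.span (Set.range fun i => v i - algebraMap k R (c i))
  have hI : ∀ x ∈ I, P.1 (x : K) ≤ exp (-1) := by
    intro x hx
    induction hx using Submodule.span_induction with
    | mem y hy => obtain ⟨i, rfl⟩ := hy; exact le_exp_neg_one (hc i)
    | zero => simp
    | add a b _ _ ha hb => exact (P.1.map_add _ _).trans (max_le ha hb)
    | smul r a _ ha =>
      rw [smul_eq_mul, Subalgebra.coe_mul, map_mul]
      exact (mul_le_of_le_one_left zero_le (locSub_val_le hc r.2)).trans ha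
  have hII : ∀ x ∈ I * I, P.1 (x : K) ≤ exp (-2) := by
    intro x hx
    refine Submodule.mul_induction_on hx (fun a ha b hb => ?_) fun a b ha hb => ?_
    · rw [Subalgebra.coe_mul, map_mul, show (-2 : ℤ) = -1 + -1 by norm_num, exp_add]
      exact mul_le_mul' (hI a ha) (hI b hb)
    · exact (P.1.map_add _ _).trans (max_le ha hb)
  have h2 := hII _ h
  convert h2 using 3
  have e : ∀ y : R, (y : K) = R.val y := fun _ => rfl
  rw [e, map_sub, map_sub, map_sum, comp_aeval_apply]
  simp only [map_smul, map_sub, AlgHom.commutes]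
  rfl

theorem aeval_point_eq_zero {g : MvPolynomial ι k} (h : P.1 (aeval z g) < 1) : aeval c g = 0 := by
  by_contra h0
  have h1 := val_taylor_le hc g
  have h2 : P.1 (∑ i, grad c g i • (z i - algebraMap k K (c i))) < 1 :=
    P.1.map_sum_lt' zero_lt_one fun i _ => (val_smul_le P _ _).trans_lt (hc i)
  have h3 : P.1 (algebraMap k K (aeval c g)) < 1 := by
    have : algebraMap k K (aeval c g) = aeval z g -
        ((aeval z g - algebraMap k K (aeval c g) - ∑ i, grad c g i • (z i - algebraMap k K (c i))) +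
          ∑ i, grad c g i • (z i - algebraMap k K (c i))) := by ring
    rw [this]
    refine (P.1.map_sub _ _).trans_lt (max_lt h ((P.1.map_add _ _).trans_lt (max_lt (h1.trans_lt ?_) h2)))
    rw [← exp_zero, exp_lt_exp]; norm_num
  rw [val_const P h0] at h3
  exact lt_irrefl _ h3

variable (z c) in
omit hc in
/-- The span of the gradients of the relations. -/
noncomputable def tanSpan : Submodule k (ι → k) :=
  (LinearMap.ker (aeval z : MvPolynomial ι k →ₐ[k] K).toLinearMap).map (grad c)

variable (z c) in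
omit hc in
/-- The ideal of the point in the local ring. -/
noncomputable def ptIdeal (P : FunFld.Place k K) : Ideal (locSub P z) :=
  Ideal.span (Set.range fun i =>
    (⟨z i, adjoin_le_locSub P z (Algebra.subset_adjoin ⟨i, rfl⟩)⟩ : locSub P z) -
      algebraMap k (locSub P z) (c i))

theorem val_lt_of_mem_ptIdeal {y : locSub P z} (hy : y ∈ ptIdeal z c P) : P.1 (y : K) < 1 := by
  unfold ptIdeal at hy
  induction hy using Submodule.span_induction with
  | mem y hy => obtain ⟨i, rfl⟩ := hy; exact hc i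
  | zero => simp
  | add a b _ _ ha hb => exact (P.1.map_add _ _).trans_lt (max_lt ha hb)
  | smul r a _ ha =>
    rw [smul_eq_mul, Subalgebra.coe_mul, map_mul]
    exact (mul_le_of_le_one_left zero_le (locSub_val_le hc r.2)).trans_lt ha

omit hc in
theorem coe_aeval_lift (g : MvPolynomial ι k) :
    ((aeval (fun i => (⟨z i, adjoin_le_locSub P z (Algebra.subset_adjoin ⟨i, rfl⟩)⟩ : locSub P z)) g :
      locSub P z) : K) = aeval z g := by
  exact comp_aeval_apply _ (locSub P z).val g

theorem mem_ptIdeal_of_lt {y : locSub P z} (hy : P.1 (y : K) < 1) : y ∈ ptIdeal z c P := by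
  obtain ⟨a, ha, w, hw, hw1, hya⟩ := y.2
  rw [Algebra.adjoin_range_eq_range_aeval, AlgHom.mem_range] at ha
  obtain ⟨A, rfl⟩ := ha
  have hAc : aeval c A = 0 := aeval_point_eq_zero hc (by rw [← hya, map_mul, hw1, mul_one]; exact hy)
  have h2 := taylor c
    (fun i => (⟨z i, adjoin_le_locSub P z (Algebra.subset_adjoin ⟨i, rfl⟩)⟩ : locSub P z)) A
  rw [hAc, map_zero, sub_zero] at h2
  have h4 := add_mem (Ideal.mul_le_left h2 : _ ∈ ptIdeal z c P)
    (Ideal.sum_mem (ptIdeal z c P) (t := Finset.univ) (f := fun i => grad c A i •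
      ((⟨z i, adjoin_le_locSub P z (Algebra.subset_adjoin ⟨i, rfl⟩)⟩ : locSub P z) -
        algebraMap k (locSub P z) (c i))) fun i _ => by
      rw [Algebra.smul_def]; exact Ideal.mul_mem_left _ _ (Ideal.subset_span ⟨i, rfl⟩))
  rw [sub_add_cancel] at h4
  have hy' : y = ⟨w⁻¹, inv_mem_locSub (adjoin_le_locSub P z hw) hw1⟩ *
      aeval (fun i => (⟨z i, adjoin_le_locSub P z (Algebra.subset_adjoin ⟨i, rfl⟩)⟩ : locSub P z)) A := by
    apply Subtype.ext
    rw [Subalgebra.coe_mul, coe_aeval_lift, ← hya, mul_comm (y : K),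
      inv_mul_cancel_left₀ (fun h0 => by simp [h0] at hw1)]
  rw [hy']
  exact Ideal.mul_mem_left _ _ h4

theorem exists_principal (h : Module.finrank k (tanSpan z c).dualAnnihilator = 1) :
    ∃ t : K, t ∈ locSub P z ∧ P.1 t < 1 ∧
      ∀ y : K, y ∈ locSub P z → P.1 y < 1 → ∃ r ∈ locSub P z, y = r * t := by
  obtain ⟨ψ₁, hψ₁W, hψ₁, hspan⟩ := exists_gen_of_finrank_eq_one _ h
  obtain ⟨i₀, hi₀⟩ : ∃ i₀, ψ₁ (Pi.single i₀ 1) ≠ 0 := by
    by_contra hall
    simp only [not_exists, not_not] at hall
    exact hψ₁ ((Pi.basisFun k ι).ext fun i => by simpa [Pi.basisFun_apply] using hall i)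
  set v : ι → locSub P z := fun i => ⟨z i, adjoin_le_locSub P z (Algebra.subset_adjoin ⟨i, rfl⟩)⟩ with hv
  set t := v i₀ - algebraMap k (locSub P z) (c i₀)
  have hle : ptIdeal z c P ≤ Ideal.span {t} := by
    refine Submodule.le_of_le_smul_of_le_jacobson_bot (Submodule.fg_span (Set.finite_range _))
      (I := ptIdeal z c P) (fun y hy => ?_) (Ideal.span_le.2 ?_)
    · rw [Ideal.mem_jacobson_bot]
      intro r
      have hlt := val_lt_of_mem_ptIdeal hc (Ideal.mul_mem_right r (ptIdeal z c P) hy)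
      have h2 : P.1 ((y * r + 1 : locSub P z) : K) = 1 := by
        rw [Subalgebra.coe_add, Subalgebra.coe_one,
          P.1.map_add_eq_of_lt_right (by rwa [map_one]), map_one]
      refine IsUnit.of_mul_eq_one ⟨_, inv_mem_locSub (y * r + 1).2 h2⟩ (Subtype.ext ?_)
      exact mul_inv_cancel₀ fun h0 => by rw [h0] at h2; simp at h2
    · rintro _ ⟨i, rfl⟩
      obtain ⟨g, hg, hgv⟩ : (Pi.single i 1 - (ψ₁ (Pi.single i 1) / ψ₁ (Pi.single i₀ 1)) •
          Pi.single i₀ 1 : ι → k) ∈ tanSpan z c := by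
        rw [← Subspace.forall_mem_dualAnnihilator_apply_eq_zero_iff]
        intro ψ hψ
        obtain ⟨r, hr⟩ := hspan ψ hψ
        rw [← hr, LinearMap.smul_apply, map_sub, map_smul, smul_eq_mul, smul_eq_mul,
          div_mul_cancel₀ _ hi₀, sub_self, mul_zero]
      have hg' : aeval z g = 0 := hg
      have hgc : aeval c g = 0 := aeval_point_eq_zero hc (by rw [hg', map_zero]; exact zero_lt_one)
      have h2 := taylor c v g
      have hgv0 : aeval v g = 0 := Subtype.ext ((coe_aeval_lift g).trans hg')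
      rw [hgv0, hgc, map_zero, sub_zero, zero_sub, neg_mem_iff, hgv] at h2
      simp only [Pi.sub_apply, Pi.smul_apply, sub_smul, Finset.sum_sub_distrib, Pi.single_apply, smul_eq_mul,
        mul_ite, mul_one, mul_zero, ite_smul, zero_smul, one_smul, Finset.sum_ite_eq', Finset.mem_univ,
        if_true] at h2
      refine Submodule.mem_sup.2 ⟨(ψ₁ (Pi.single i 1) / ψ₁ (Pi.single i₀ 1)) • t, ?_, _, h2,
        add_sub_cancel _ _⟩
      rw [Algebra.smul_def]
      exact Ideal.mul_mem_left _ _ (Ideal.mem_span_singleton_self t)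
  refine ⟨(t : K), t.2, hc i₀, fun y hy hy1 => ?_⟩
  obtain ⟨r, hr⟩ := Ideal.mem_span_singleton'.1 (hle (mem_ptIdeal_of_lt hc (y := ⟨y, hy⟩) hy1))
  exact ⟨r, r.2, (congrArg Subtype.val hr).symm⟩

theorem mem_locSub_of_principal (hgen : IntermediateField.adjoin k (Set.range z) = ⊤) {t : K}
    (ht : t ∈ locSub P z) (htlt : P.1 t < 1)
    (hmem : ∀ y : K, y ∈ locSub P z → P.1 y < 1 → ∃ r ∈ locSub P z, y = r * t) {x : K}
    (hx : P.1 x ≤ 1) : x ∈ locSub P z := by
  have hdec : ∀ n : ℕ, ∀ y ∈ locSub P z, y ≠ 0 → P.ord y ≤ n → ∃ (m : ℕ) (w : K),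
      w ∈ locSub P z ∧ P.1 w = 1 ∧ y = t ^ m * w := by
    intro n
    induction n with
    | zero =>
      intro y hyR hy0 hy
      refine ⟨0, y, hyR, ?_, by rw [pow_zero, one_mul]⟩
      rw [val_eq_exp P hy0, ← exp_zero]
      have := (val_le_one_iff P hy0).1 (locSub_val_le hc hyR)
      push_cast at hy
      congr 1; omega
    | succ n ih =>
      intro y hyR hy0 hy
      by_cases h1 : P.1 y < 1
      · obtain ⟨r, hrR, hyr⟩ := hmem y hyR h1
        have hr0 : r ≠ 0 := fun h0 => hy0 (by rw [hyr, h0, zero_mul])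
        have ht0 : t ≠ 0 := fun h0 => hy0 (by rw [hyr, h0, mul_zero])
        have hord : P.ord r ≤ n := by
          have h3 := (val_lt_one_iff P ht0).1 htlt
          rw [hyr, ord_mul P hr0 ht0] at hy
          push_cast at hy
          omega
        obtain ⟨m, w, hw, hw1, hrw⟩ := ih r hrR hr0 hord
        exact ⟨m + 1, w, hw, hw1, by rw [hyr, hrw]; ring⟩
      · exact ⟨0, y, hyR, le_antisymm (locSub_val_le hc hyR) (not_lt.1 h1), by rw [pow_zero, one_mul]⟩
  have hfrac : ∀ y : K, y ≠ 0 → ∃ (m n : ℕ) (w : K), w ∈ locSub P z ∧ P.1 w = 1 ∧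
      y * t ^ n = t ^ m * w := by
    intro y hy0
    have hy : y ∈ IntermediateField.adjoin k (Set.range z) := hgen ▸ IntermediateField.mem_top
    obtain ⟨a, ha, b, hb, hyab⟩ := IntermediateField.mem_adjoin_iff_div.1 hy
    have ha0 : a ≠ 0 := fun h0 => hy0 (by rw [hyab, h0, zero_div])
    have hb0 : b ≠ 0 := fun h0 => hy0 (by rw [hyab, h0, div_zero])
    obtain ⟨m, w, hw, hw1, hae⟩ := hdec _ a (adjoin_le_locSub P z ha) ha0 (Int.self_le_toNat _)
    obtain ⟨n, w', hw', hw1', hbe⟩ := hdec _ b (adjoin_le_locSub P z hb) hb0 (Int.self_le_toNat _)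
    refine ⟨m, n, w * w'⁻¹, mul_mem hw (inv_mem_locSub hw' hw1'),
      by rw [map_mul, map_inv₀, hw1, hw1', inv_one, mul_one], ?_⟩
    have hw0 : w' ≠ 0 := fun h0 => by simp [h0] at hw1'
    have htn : t ^ n ≠ 0 := fun h0 => hb0 (by rw [hbe, h0, zero_mul])
    rw [hyab, hae, hbe]
    field_simp
  obtain ⟨π, hπ0, hπ⟩ := exists_val_eq P (-1)
  have hπlt : P.1 π < 1 := by rw [hπ, ← exp_zero, exp_lt_exp]; norm_num
  have ht0 : t ≠ 0 := by
    rintro rfl
    obtain ⟨a, ha, b, hb, hπab⟩ := IntermediateField.mem_adjoin_iff_div.1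
      (show π ∈ IntermediateField.adjoin k (Set.range z) from hgen ▸ IntermediateField.mem_top)
    have key : ∀ y ∈ Algebra.adjoin k (Set.range z), y ≠ 0 → P.1 y = 1 := fun y hy hy0 => by
      refine le_antisymm (locSub_val_le hc (adjoin_le_locSub P z hy)) (not_lt.1 fun h1 => hy0 ?_)
      obtain ⟨r, -, hr⟩ := hmem y (adjoin_le_locSub P z hy) h1
      rw [hr, mul_zero]
    rw [hπab, map_div₀, key a ha (fun h0 => hπ0 (by rw [hπab, h0, zero_div])),
      key b hb (fun h0 => hπ0 (by rw [hπab, h0, div_zero])), div_one] at hπlt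
    exact lt_irrefl _ hπlt
  rcases eq_or_ne x 0 with rfl | hx0
  · exact zero_mem _
  obtain ⟨m, n, w, hw, hw1, he⟩ := hfrac x hx0
  have hmn : n ≤ m := by
    by_contra hlt
    obtain ⟨d, rfl⟩ := Nat.exists_eq_add_of_le (not_le.1 hlt).le
    rw [pow_add, ← mul_assoc, mul_comm x, mul_assoc] at he
    have h2 := mul_left_cancel₀ (pow_ne_zero _ ht0) he
    have h3 : P.1 (x * t ^ d) < 1 := by
      rw [map_mul, map_pow]
      exact (mul_le_of_le_one_left zero_le hx).trans_lt (pow_lt_one₀ zero_le htlt (by omega))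
    rw [h2, hw1] at h3
    exact lt_irrefl _ h3
  obtain ⟨d, rfl⟩ := Nat.exists_eq_add_of_le hmn
  rw [pow_add, mul_comm x, mul_assoc] at he
  rw [mul_left_cancel₀ (pow_ne_zero _ ht0) he]
  exact mul_mem (pow_mem ht _) hw

variable [IsAlgClosed k] (hK : FunFld.IsFunctionField k K)
  (hgen : IntermediateField.adjoin k (Set.range z) = ⊤)
include hK hgen

/-- The Jacobian criterion. -/
theorem forall_mem_locSub_iff :
    (∀ x : K, P.1 x ≤ 1 → x ∈ locSub P z) ↔ Module.finrank k (tanSpan z c) + 1 = Fintype.card ι := by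
  classical
  have hdual : Module.finrank k (tanSpan z c) + Module.finrank k (tanSpan z c).dualAnnihilator = Fintype.card ι := by
    rw [Subspace.finrank_add_finrank_dualAnnihilator_eq, Module.finrank_fintype_fun_eq_card]
  rw [← hdual, Nat.add_left_cancel_iff, eq_comm]
  set u : ι → K := fun i => z i - algebraMap k K (c i) with hu
  obtain ⟨π, hπ0, hπ⟩ := exists_val_eq P (-1)
  refine ⟨?_, fun h1 x hx => ?_⟩
  swap
  · obtain ⟨t, ht, htlt, hmem⟩ := exists_principal hc h1
    exact mem_locSub_of_principal hc hgen ht htlt hmem hx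
  · intro hO
    obtain ⟨a, ha, w, hw, hw1, hta⟩ := hO π (by rw [hπ, ← exp_zero, exp_le_exp]; norm_num)
    have hPa : P.1 a = exp (-1) := by rw [← hta, map_mul, hπ, hw1, mul_one]
    have ha0 : a ≠ 0 := fun h => exp_ne_zero (hPa.symm.trans (by rw [h, map_zero]))
    rw [Algebra.adjoin_range_eq_range_aeval, AlgHom.mem_range] at ha
    obtain ⟨T, rfl⟩ := ha
    have hTlt : P.1 (aeval z T) < 1 := by rw [hPa, ← exp_zero, exp_lt_exp]; norm_num
    have hTc : aeval c T = 0 := aeval_point_eq_zero hc hTlt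
    have hα : ∀ i, ∃ α : k, P.1 (u i - α • aeval z T) ≤ exp (-2) := by
      intro i
      obtain ⟨α, hα⟩ := eq_one_of_isAlgClosed hK P (z := u i / aeval z T) (by
        rw [map_div₀, div_le_one₀ (zero_lt_iff.2 (val_ne_zero P ha0)), hPa]
        exact le_exp_neg_one (hc i))
      refine ⟨α, ?_⟩
      rw [show u i - α • aeval z T = (u i / aeval z T - algebraMap k K α) * aeval z T by
        rw [sub_mul, div_mul_cancel₀ _ ha0, ← Algebra.smul_def], map_mul, hPa,
        show (-2 : ℤ) = -1 + -1 by norm_num, exp_add]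
      exact mul_le_mul' (le_exp_neg_one hα) le_rfl
    choose α hα using hα
    have hlin : ∀ g : MvPolynomial ι k, aeval c g = 0 → P.1 (aeval z g - (∑ i, grad c g i * α i) • aeval z T) ≤ exp (-2) := by
      intro g hg
      have h1 := val_taylor_le hc g
      rw [hg, map_zero, sub_zero] at h1
      have h2 : P.1 (∑ i, grad c g i • (u i - α i • aeval z T)) ≤ exp (-2) :=
        P.1.map_sum_le fun i _ => (val_smul_le P _ _).trans (hα i)
      have := (P.1.map_add _ _).trans (max_le h1 h2)
      convert this using 2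
      simp only [hu, smul_sub, Finset.sum_sub_distrib, ← mul_smul, ← Finset.sum_smul]
      ring
    let ψ₀ : Module.Dual k (ι → k) := ∑ i, α i • LinearMap.proj i
    have hψ₀ : ∀ v : ι → k, ψ₀ v = ∑ i, v i * α i := fun v => by simp [ψ₀, mul_comm]
    have hψmem : ψ₀ ∈ (tanSpan z c).dualAnnihilator := by
      rw [Submodule.mem_dualAnnihilator]
      rintro _ ⟨g, hg, rfl⟩
      have hg' : aeval z g = 0 := hg
      have h1 := hlin g (aeval_point_eq_zero hc (by rw [hg', map_zero]; exact zero_lt_one))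
      rw [hg', zero_sub, Valuation.map_neg, Algebra.smul_def, map_mul, hPa, ← hψ₀] at h1
      by_contra h0
      rw [val_const P h0, one_mul, exp_le_exp] at h1
      norm_num at h1
    have hψne : ψ₀ ≠ 0 := fun h0 => by
      have h1 := hlin T hTc
      rw [← hψ₀, h0, LinearMap.zero_apply, zero_smul, sub_zero, hPa, exp_le_exp] at h1
      norm_num at h1
    have hkey : ∀ ψ ∈ (tanSpan z c).dualAnnihilator, ψ = ψ (grad c T) • ψ₀ := by
      intro ψ hψ
      have hsq : ∀ g : MvPolynomial ι k, aeval c g = 0 → P.1 (aeval z g) ≤ exp (-2) → ψ (grad c g) = 0 := by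
        intro g hgc hg
        obtain ⟨b, hb, v, hv, hv1, hxb⟩ := hO (aeval z g / aeval z T ^ 2) (by
          rw [map_div₀, map_pow, hPa, ← exp_nsmul, div_le_one₀ (zero_lt_iff.2 exp_ne_zero)]
          simpa using hg)
        rw [Algebra.adjoin_range_eq_range_aeval, AlgHom.mem_range] at hb hv
        obtain ⟨B, rfl⟩ := hb
        obtain ⟨W, rfl⟩ := hv
        have hWc : aeval c W ≠ 0 := fun h0 => by
          have h3 := val_taylor_le hc W
          have h4 : P.1 (∑ i, grad c W i • (z i - algebraMap k K (c i))) < 1 :=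
            P.1.map_sum_lt' zero_lt_one fun i _ => (val_smul_le P _ _).trans_lt (hc i)
          rw [h0, map_zero, sub_zero] at h3
          have h5 := (P.1.map_add _ _).trans_lt (max_lt (h3.trans_lt (show exp (-2 : ℤ) < (1 : WithZero (Multiplicative ℤ)) by
            rw [← exp_zero, exp_lt_exp]; norm_num)) h4)
          rw [sub_add_cancel, hv1] at h5
          exact lt_irrefl _ h5
        have hrel : grad c (g * W - T ^ 2 * B) ∈ tanSpan z c := by
          refine Submodule.mem_map_of_mem (show aeval z (g * W - T ^ 2 * B) = 0 from ?_)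
          rw [map_sub, map_mul, map_mul, map_pow, sub_eq_zero, ← hxb]
          field_simp
        have h6 := (Submodule.mem_dualAnnihilator ψ).1 hψ _ hrel
        rw [map_sub, grad_mul, grad_mul, pow_two, grad_mul, map_mul, hgc, hTc] at h6
        simp only [zero_smul, mul_zero, zero_add, add_zero, smul_zero, sub_zero, map_smul, smul_eq_mul,
          mul_eq_zero] at h6
        exact h6.resolve_left hWc
      refine (Pi.basisFun k ι).ext fun i => ?_
      rw [Pi.basisFun_apply, LinearMap.smul_apply, smul_eq_mul, hψ₀]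
      have h1 := hsq (X i - C (c i) - C (α i) * T) (by rw [map_sub, map_sub, map_mul, hTc]; simp) (by simpa [hu, Algebra.smul_def] using hα i)
      rw [← smul_eq_C_mul] at h1
      simp only [map_sub, grad_X, grad_C, sub_zero, map_smul, smul_eq_mul, sub_eq_zero] at h1
      simp [h1, Pi.single_apply, mul_comm]
    refine finrank_eq_one (⟨ψ₀, hψmem⟩ : (tanSpan z c).dualAnnihilator) (by simpa [Subtype.ext_iff] using hψne) fun ψ => ?_
    exact ⟨ψ.1 (grad c T), Subtype.ext (hkey ψ.1 ψ.2).symm⟩

omit hc hK hgen in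
theorem grad_mem_span {S : Set (MvPolynomial ι k)} (h0 : ∀ g ∈ S, aeval c g = 0) {g : MvPolynomial ι k}
    (hg : g ∈ Ideal.span S) : grad c g ∈ Submodule.span k (grad c '' S) ∧ aeval c g = 0 := by
  induction hg using Submodule.span_induction with
  | mem y hy => exact ⟨Submodule.subset_span ⟨y, hy, rfl⟩, h0 y hy⟩
  | zero => simp
  | add a b _ _ ha hb => exact ⟨by rw [map_add]; exact add_mem ha.1 hb.1, by rw [map_add, ha.2, hb.2, add_zero]⟩
  | smul r a _ ha =>
    rw [smul_eq_mul]
    refine ⟨?_, by rw [map_mul, ha.2, mul_zero]⟩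
    rw [grad_mul, ha.2, zero_smul, add_zero]
    exact Submodule.smul_mem _ _ ha.1

omit hc hK hgen in
/-- Polynomials vanishing on the affine part are combinations of homogeneous relations and `X j - 1`. -/
theorem mem_span_of_aeval_eq_zero {φ : ι → K} {j : ι} (hj0 : φ j ≠ 0) {S : Set (MvPolynomial ι k)}
    (hS : ∀ (G : MvPolynomial ι k) (e : ℕ), G.IsHomogeneous e → aeval φ G = 0 → G ∈ Ideal.span S)
    {g : MvPolynomial ι k} (hg : aeval (fun i => φ i / φ j) g = 0) :
    g ∈ Ideal.span (insert (X j - 1) S) := by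
  set I := Ideal.span (insert (X j - 1) S)
  set N := g.totalDegree
  set G : MvPolynomial ι k := ∑ e ∈ Finset.range (N + 1), homogeneousComponent e g * X j ^ (N - e)
  have hG : G.IsHomogeneous N := IsHomogeneous.sum _ _ _ fun e he => by
    have h1 := (homogeneousComponent_isHomogeneous e g).mul (isHomogeneous_X_pow (R := k) j (N - e))
    rwa [Nat.add_sub_cancel' (Nat.lt_succ_iff.1 (Finset.mem_range.1 he))] at h1
  have h1 : g - G ∈ I := by
    have hX : Ideal.Quotient.mk I (X j) = 1 := by
      rw [← map_one (Ideal.Quotient.mk I), Ideal.Quotient.mk_eq_mk_iff_sub_mem]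
      exact Ideal.subset_span (Set.mem_insert _ _)
    rw [← Ideal.Quotient.mk_eq_mk_iff_sub_mem]
    conv_lhs => rw [← sum_homogeneousComponent g]
    simp only [G, map_sum, map_mul, map_pow, hX, one_pow, mul_one]
    rfl
  have h2 : aeval (fun i => φ i / φ j) G = 0 := by
    rw [← hg]
    conv_rhs => rw [← sum_homogeneousComponent g]
    simp only [G, map_sum, map_mul, map_pow, aeval_X, div_self hj0, one_pow, mul_one]
    rfl
  have h3 : G ∈ I := Ideal.span_mono (Set.subset_insert _ _)
    (hS G N hG (by rw [aeval_eq_pow_mul hj0 hG, h2, mul_zero]))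
  simpa using add_mem h1 h3

omit hc hgen in
theorem adjoin_ratios {φ : ι → K} {i₀ j : ι} (h0 : φ i₀ ≠ 0) (hj0 : φ j ≠ 0)
    (hbir : IntermediateField.adjoin k (Set.range fun i => φ i / φ i₀) = ⊤) :
    IntermediateField.adjoin k (Set.range fun i => φ i / φ j) = ⊤ := by
  refine top_le_iff.1 (hbir ▸ IntermediateField.adjoin_le_iff.2 ?_)
  rintro _ ⟨i, rfl⟩
  show φ i / φ i₀ ∈ IntermediateField.adjoin k (Set.range fun i => φ i / φ j)
  rw [← div_div_div_cancel_right₀ hj0 (φ i) (φ i₀)]
  exact div_mem (IntermediateField.subset_adjoin k _ ⟨i, rfl⟩) (IntermediateField.subset_adjoin k _ ⟨i₀, rfl⟩)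

omit hc hgen in
theorem exists_point {φ : ι → K} {j : ι} (hj0 : φ j ≠ 0) (hj : ∀ i, P.1 (φ i) ≤ P.1 (φ j)) :
    ∃ c : ι → k, c j = 1 ∧ ∀ i, P.1 (φ i / φ j - algebraMap k K (c i)) < 1 := by
  choose c hc using fun i => eq_one_of_isAlgClosed hK P (val_ratio_le_one hj0 hj i)
  refine ⟨c, ?_, hc⟩
  by_contra h
  have h1 := hc j
  rw [div_self hj0, ← map_one (algebraMap k K), ← map_sub, val_const P (sub_ne_zero.2 (Ne.symm h))] at h1
  exact lt_irrefl _ h1

omit hgen in
/-- Nonsingularity in terms of homogeneous relations. -/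
theorem isNonsingularAt_iff_grad {φ : ι → K} {i₀ j : ι} (h0 : φ i₀ ≠ 0) (hj0 : φ j ≠ 0)
    (hbir : IntermediateField.adjoin k (Set.range fun i => φ i / φ i₀) = ⊤)
    (hj : ∀ i, P.1 (φ i) ≤ P.1 (φ j)) (hcj : z = fun i => φ i / φ j) {S : Set (MvPolynomial ι k)}
    (hS : ∀ (G : MvPolynomial ι k) (e : ℕ), G.IsHomogeneous e → aeval φ G = 0 → G ∈ Ideal.span S)
    (hS0 : ∀ g ∈ S, aeval z g = 0) :
    FunFld.IsNonsingularAt φ P ↔
      Module.finrank k (Submodule.span k (insert (Pi.single j 1) (grad c '' S)) : Submodule k (ι → k)) + 1 =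
        Fintype.card ι := by
  subst hcj
  have hgen := adjoin_ratios hK h0 hj0 hbir
  rw [show FunFld.IsNonsingularAt φ P ↔ ∀ x : K, P.1 x ≤ 1 → x ∈ locSub P (fun i => φ i / φ j) from
    forall_congr' fun x => imp_congr_right fun _ => inLocRing_iff hj0 hj x,
    forall_mem_locSub_iff hc hK hgen]
  have hz : ∀ g ∈ insert (X j - 1 : MvPolynomial ι k) S, aeval (fun i => φ i / φ j) g = 0 := by
    rintro g (rfl | hg)
    · simp [div_self hj0]
    · exact hS0 g hg
  have hgr : grad c (X j - 1 : MvPolynomial ι k) = Pi.single j 1 := by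
    rw [map_sub, grad_X, ← C_1, grad_C, sub_zero]
  have key : tanSpan (fun i => φ i / φ j) c = Submodule.span k (insert (Pi.single j 1) (grad c '' S)) := by
    rw [← hgr, ← Set.image_insert_eq]
    refine le_antisymm ?_ (Submodule.span_le.2 ?_)
    · rintro _ ⟨g, hg, rfl⟩
      exact (grad_mem_span (fun h hh => aeval_point_eq_zero hc (by rw [hz h hh, map_zero]; exact zero_lt_one))
        (mem_span_of_aeval_eq_zero hj0 hS hg)).1
    · rintro _ ⟨g, hg, rfl⟩
      exact Submodule.mem_map_of_mem (hz g hg)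
  rw [key]

omit hK hgen in
theorem val_sub_point_lt (g : MvPolynomial ι k) : P.1 (aeval z g - algebraMap k K (aeval c g)) < 1 := by
  have h2 : P.1 (∑ i, grad c g i • (z i - algebraMap k K (c i))) < 1 :=
    P.1.map_sum_lt' zero_lt_one fun i _ => (val_smul_le P _ _).trans_lt (hc i)
  have h3 := (P.1.map_add _ _).trans_lt (max_lt ((val_taylor_le hc g).trans_lt
    (show exp (-2 : ℤ) < (1 : WithZero (Multiplicative ℤ)) by rw [← exp_zero, exp_lt_exp]; norm_num)) h2)
  rwa [sub_add_cancel] at h3

omit [Fintype ι] [DecidableEq ι] hc hK hgen in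
theorem residue_eq_algebraMap (P : FunFld.Place k K) (x : P.O) (e : k)
    (h : P.1 ((x : K) - algebraMap k K e) < 1) :
    IsLocalRing.residue P.O x = algebraMap k (IsLocalRing.ResidueField P.O) e := by
  rw [show algebraMap k (IsLocalRing.ResidueField P.O) e =
    IsLocalRing.residue P.O (algebraMap k P.O e) from rfl, ← sub_eq_zero, ← map_sub,
    IsLocalRing.residue_eq_zero_iff, IsLocalRing.mem_maximalIdeal, mem_nonunits_iff]
  intro hu
  have h1 := (Valuation.Integers.isUnit_iff_valuation_eq_one (Valuation.integer.integers P.1)).1 hu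
  exact absurd h1 (ne_of_lt h)

omit hc hK hgen in
theorem euler_point {f : MvPolynomial ι k} (hhom : f.IsHomogeneous f.totalDegree) (hf0 : aeval c f = 0) :
    ∑ i, grad c f i * c i = 0 := by
  have := congrArg (aeval c) hhom.sum_X_mul_pderiv
  simp only [map_sum, map_mul, map_nsmul, aeval_X, hf0, smul_zero] at this
  simpa [grad_apply, mul_comm] using this

omit [Field K] [Algebra k K] [Fintype ι] [DecidableEq ι] hc hK hgen in
theorem rank_map_algebraMap {κ : Type*} [Field κ] [Algebra k κ] (hb : Function.Bijective (algebraMap k κ))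
    {r n : ℕ} (N : Matrix (Fin r) (Fin n) k) :
    (N.map (algebraMap k κ)).rank = Module.finrank k (Submodule.span k (Set.range N)) := by
  let e : k ≃ₐ[k] κ := AlgEquiv.ofBijective (Algebra.ofId k κ) hb
  rw [Matrix.rank_eq_finrank_span_row]
  let E : (Fin n → k) ≃ₗ[k] (Fin n → κ) := LinearEquiv.piCongrRight fun _ => e.toLinearEquiv
  have h2 := Module.finrank_mul_finrank k κ
    (Submodule.span κ (Set.range (N.map (algebraMap k κ)).row))
  rw [← e.toLinearEquiv.finrank_eq, Module.finrank_self, one_mul] at h2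
  rw [h2]
  have h3 : (Submodule.span κ (Set.range (N.map (algebraMap k κ)).row)).restrictScalars k =
      (Submodule.span k (Set.range N)).map (E : (Fin n → k) →ₗ[k] (Fin n → κ)) := by
    rw [Submodule.map_span, ← Set.range_comp]
    refine le_antisymm ?_ (Submodule.span_le_restrictScalars k κ _)
    intro v hv
    rw [Submodule.restrictScalars_mem] at hv
    induction hv using Submodule.span_induction with
    | mem y hy => exact Submodule.subset_span hy
    | zero => exact zero_mem _
    | add a b _ _ ha hb' => exact add_mem ha hb'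
    | smul a b _ hb' =>
      obtain ⟨a', rfl⟩ := hb.2 a
      rw [algebraMap_smul]
      exact Submodule.smul_mem _ _ hb'
  rw [← LinearEquiv.finrank_map_eq E, ← h3]
  rfl

end Groth.Agent.H23Proj
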