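import Mathlib
import Groth.Agent.H23Proj.Jacobian
import Groth.Agent.H23Proj.PlaneModel
import Groth.Agent.H23Diff.Exist
import Groth.Agent.H23Ext.Over
import Groth.Agent.S12575
import Groth.Agent.S11005

/-!
The order of `dx / f_y` at a point of a monic affine plane model.
-/

set_option autoImplicit false
set_option linter.style.haveILetI false
set_option linter.unusedSectionVars false
set_option linter.unusedVariables false

namespace Groth.Agent.H23Proj

open MvPolynomial WithZero Groth.Agent.H23FunFld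

universe u v

variable {k : Type u} {K : Type v} [Field k] [Field K] [Algebra k K]

/-- Two variables as polynomials in the second over polynomials in the first. -/
noncomputable def bivar : MvPolynomial (Fin 2) k →ₐ[k] Polynomial (Polynomial k) :=
  aeval ![Polynomial.C Polynomial.X, Polynomial.X]

noncomputable def bivarEquiv : MvPolynomial (Fin 2) k ≃ₐ[k] Polynomial (Polynomial k) := by
  refine AlgEquiv.ofAlgHom bivar
    (Polynomial.aevalTower (Polynomial.aeval (X 0 : MvPolynomial (Fin 2) k)) (X 1)) ?_ ?_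
  · refine Polynomial.algHom_ext' ?_ ?_
    · refine Polynomial.algHom_ext ?_
      simp [bivar]
    · simp [bivar]
  · refine algHom_ext fun i => ?_
    fin_cases i <;> simp [bivar]

theorem derivative_bivar (g : MvPolynomial (Fin 2) k) :
    Polynomial.derivative (bivar g) = bivar (pderiv 1 g) := by
  induction g using MvPolynomial.induction_on with
  | C a => simp [bivar, Polynomial.algebraMap_apply]
  | add p q hp hq => simp [hp, hq]
  | mul_X p i hp =>
    rw [map_mul, Polynomial.derivative_mul, hp, pderiv_mul, map_add, map_mul, map_mul]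
    fin_cases i <;> simp [bivar, pderiv_X]

theorem eval_bivar {v : Fin 2 → K} (g : MvPolynomial (Fin 2) k) :
    Polynomial.eval₂ (Polynomial.aeval (v 0) : Polynomial k →ₐ[k] K).toRingHom (v 1) (bivar g) = aeval v g := by
  induction g using MvPolynomial.induction_on with
  | C a => simp [bivar, Polynomial.algebraMap_apply]
  | add p q hp hq => simp only [map_add, Polynomial.eval₂_add, hp, hq]
  | mul_X p i hp =>
    rw [map_mul, Polynomial.eval₂_mul, hp, map_mul]
    fin_cases i <;> simp [bivar]

theorem val_eq_one_of_eval_ne_zero {P : FunFld.Place k K} {x : K} (hx : P.1 x < 1) {q : Polynomial k}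
    (hq : q.coeff 0 ≠ 0) : P.1 (Polynomial.aeval x q) = 1 := by
  conv_lhs => rw [← Polynomial.X_mul_divX_add q]
  rw [map_add, map_mul, Polynomial.aeval_X, Polynomial.aeval_C, P.1.map_add_eq_of_lt_right, val_const P hq]
  rw [val_const P hq, map_mul]
  refine (mul_le_of_le_one_right zero_le ?_).trans_lt hx
  rw [Polynomial.aeval_eq_sum_range]
  exact P.1.map_sum_le fun i _ => (val_smul_le P _ _).trans (by rw [map_pow]; exact pow_le_one₀ zero_le hx.le)

theorem exists_unit_pow {P : FunFld.Place k K} {x : K} (hx : P.1 x < 1) {q : Polynomial k}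
    (hq : q ≠ 0) : ∃ (m : ℕ) (w : Polynomial k), Polynomial.aeval x q = x ^ m * Polynomial.aeval x w ∧
      P.1 (Polynomial.aeval x w) = 1 := by
  obtain ⟨w, hw, hndvd⟩ := q.exists_eq_pow_rootMultiplicity_mul_and_not_dvd hq 0
  rw [map_zero, sub_zero] at hw hndvd
  refine ⟨q.rootMultiplicity 0, w, ?_, val_eq_one_of_eval_ne_zero hx fun h0 => hndvd ?_⟩
  · conv_lhs => rw [hw]
    simp
  · rw [Polynomial.X_dvd_iff]; exact h0

variable [IsAlgClosed k]

/-- Restricting a place to `k(x)` for a zero `x`: `x` is a uniformizer, and functions regular there are fractions. -/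
theorem place_below {x : K} (P : FunFld.Place k (IntermediateField.adjoin k ({x} : Set K)))
    (hP : P.1 ⟨x, IntermediateField.mem_adjoin_simple_self k x⟩ < 1) :
    P.1 ⟨x, IntermediateField.mem_adjoin_simple_self k x⟩ = exp (-1) ∧
      ∀ z, P.1 z ≤ 1 → ∃ a w : Polynomial k,
        P.1 (Polynomial.aeval ⟨x, IntermediateField.mem_adjoin_simple_self k x⟩ w) = 1 ∧
        z * Polynomial.aeval ⟨x, IntermediateField.mem_adjoin_simple_self k x⟩ w =
          Polynomial.aeval ⟨x, IntermediateField.mem_adjoin_simple_self k x⟩ a := by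
  set X' : IntermediateField.adjoin k ({x} : Set K) := ⟨x, IntermediateField.mem_adjoin_simple_self k x⟩
  have hdec : ∀ z : IntermediateField.adjoin k ({x} : Set K), z ≠ 0 → ∃ (m n : ℕ) (a w : Polynomial k),
      P.1 (Polynomial.aeval X' a) = 1 ∧ P.1 (Polynomial.aeval X' w) = 1 ∧
        z * (X' ^ n * Polynomial.aeval X' w) = X' ^ m * Polynomial.aeval X' a := by
    intro z hz
    obtain ⟨r, s, hzrs⟩ := (IntermediateField.mem_adjoin_simple_iff (F := k) (α := x) (z : K)).1 z.2
    have hzrs' : z = Polynomial.aeval X' r / Polynomial.aeval X' s := by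
      apply Subtype.ext
      rw [hzrs, IntermediateField.coe_div, ← IntermediateField.aeval_coe, ← IntermediateField.aeval_coe]
    have hr : r ≠ 0 := fun h => hz (by rw [hzrs', h, map_zero, zero_div])
    have hs : s ≠ 0 := fun h => hz (by rw [hzrs', h, map_zero, div_zero])
    obtain ⟨m, a, hra, ha⟩ := exists_unit_pow hP hr
    obtain ⟨n, w, hsw, hw⟩ := exists_unit_pow hP hs
    have hs0 : Polynomial.aeval X' s ≠ 0 := fun h => hz (by rw [hzrs', h, div_zero])
    exact ⟨m, n, a, w, ha, hw, by rw [← hsw, ← hra, hzrs', div_mul_cancel₀ _ hs0]⟩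
  have hX0 : X' ≠ 0 := by
    intro h0
    obtain ⟨π, hπ0, hπ⟩ := exists_val_eq P (-1)
    obtain ⟨r, s, hrs⟩ := (IntermediateField.mem_adjoin_simple_iff (F := k) (α := x) (π : K)).1 π.2
    have hx0 : x = 0 := congrArg Subtype.val h0
    have h1 : (π : K) = algebraMap k K (r.coeff 0 / s.coeff 0) := by
      rw [hrs, hx0, map_div₀, Polynomial.coeff_zero_eq_aeval_zero, Polynomial.coeff_zero_eq_aeval_zero,
        ← Polynomial.aeval_algebraMap_apply, ← Polynomial.aeval_algebraMap_apply, map_zero]
    have h2 : π = algebraMap k _ (r.coeff 0 / s.coeff 0) := Subtype.ext h1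
    have h3 : r.coeff 0 / s.coeff 0 ≠ 0 := fun h => hπ0 (by rw [h2, h, map_zero])
    rw [h2, val_const P h3, ← exp_zero, exp_inj] at hπ
    norm_num at hπ
  have hunif : P.1 X' = exp (-1) := by
    obtain ⟨π, hπ0, hπ⟩ := exists_val_eq P (-1)
    obtain ⟨m, n, a, w, ha, hw, he⟩ := hdec π hπ0
    have := congrArg P.1 he
    rw [map_mul, map_mul, map_mul, ha, hw, map_pow, map_pow, hπ, mul_one, mul_one, val_eq_exp P hX0,
      ← exp_nsmul, ← exp_nsmul, ← exp_add, exp_inj, nsmul_eq_mul, nsmul_eq_mul] at this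
    rw [val_eq_exp P hX0, exp_inj]
    have h1 : P.ord X' * ((m : ℤ) - n) = 1 := by linear_combination this
    have h2 := (val_lt_one_iff P hX0).1 hP
    rcases Int.eq_one_or_neg_one_of_mul_eq_one h1 with h | h <;> omega
  refine ⟨hunif, fun z hz => ?_⟩
  rcases eq_or_ne z 0 with rfl | hz0
  · exact ⟨0, 1, by rw [map_one, map_one], by rw [zero_mul, map_zero]⟩
  obtain ⟨m, n, a, w, ha, hw, he⟩ := hdec z hz0
  have hnm : n ≤ m := by
    have := congrArg P.1 he
    rw [map_mul, map_mul, map_mul, ha, hw, map_pow, map_pow, mul_one, mul_one, hunif] at this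
    have h1 : P.1 z * exp (-1) ^ n ≤ exp (-1) ^ n := mul_le_of_le_one_left zero_le hz
    rw [this, ← exp_nsmul, ← exp_nsmul, exp_le_exp, nsmul_eq_mul, nsmul_eq_mul] at h1
    omega
  obtain ⟨d, rfl⟩ := Nat.exists_eq_add_of_le hnm
  refine ⟨Polynomial.X ^ d * a, w, hw, mul_left_cancel₀ (pow_ne_zero n hX0) ?_⟩
  rw [map_mul, map_pow, Polynomial.aeval_X, mul_left_comm, he, pow_add, mul_assoc]

/-- A monic irreducible relation is the minimal polynomial over `k(x)`. -/
theorem minpoly_eq {v : Fin 2 → K} (htr : Transcendental k (v 0)) {f : MvPolynomial (Fin 2) k}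
    (hf : Irreducible f) (hmon : (bivar f).Monic) (hfv : aeval v f = 0) :
    minpoly (IntermediateField.adjoin k ({v 0} : Set K)) (v 1) =
      (bivar f).map (Polynomial.aeval
        (⟨v 0, IntermediateField.mem_adjoin_simple_self k (v 0)⟩ : IntermediateField.adjoin k ({v 0} : Set K)) :
          Polynomial k →ₐ[k] _).toRingHom := by
  set F0 := IntermediateField.adjoin k ({v 0} : Set K)
  set X' : F0 := ⟨v 0, IntermediateField.mem_adjoin_simple_self k (v 0)⟩
  letI : Algebra (Polynomial k) F0 := (Polynomial.aeval X' : Polynomial k →ₐ[k] F0).toRingHom.toAlgebra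
  have hinj : Function.Injective (algebraMap (Polynomial k) F0) := by
    intro a b hab
    apply (transcendental_iff_injective.1 htr)
    have := congrArg Subtype.val hab
    change ((Polynomial.aeval X' a : F0) : K) = ((Polynomial.aeval X' b : F0) : K) at this
    rwa [← IntermediateField.aeval_coe, ← IntermediateField.aeval_coe] at this
  haveI : FaithfulSMul (Polynomial k) F0 := (faithfulSMul_iff_algebraMap_injective _ _).2 hinj
  haveI : IsFractionRing (Polynomial k) F0 := IsFractionRing.of_field _ _ fun z => by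
    obtain ⟨r, s, hrs⟩ := (IntermediateField.mem_adjoin_simple_iff (F := k) (α := v 0) (z : K)).1 z.2
    refine ⟨r, s, Subtype.ext ?_⟩
    change (z : K) = ((Polynomial.aeval X' r / Polynomial.aeval X' s : F0) : K)
    rw [hrs, IntermediateField.coe_div, ← IntermediateField.aeval_coe, ← IntermediateField.aeval_coe]
  have hirr : Irreducible (bivar f) := (MulEquiv.irreducible_iff (bivarEquiv (k := k))).2 hf
  refine (minpoly.eq_of_irreducible_of_monic
    ((Polynomial.Monic.irreducible_iff_irreducible_map_fraction_map (K := F0) hmon).1 hirr) ?_ (hmon.map _)).symm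
  rw [Polynomial.aeval_def]
  change Polynomial.eval₂ _ _ ((bivar f).map (algebraMap (Polynomial k) F0)) = 0
  rw [Polynomial.eval₂_map, show (algebraMap F0 K).comp (algebraMap (Polynomial k) F0) =
    (Polynomial.aeval (v 0) : Polynomial k →ₐ[k] K).toRingHom from RingHom.ext fun a => (IntermediateField.aeval_coe F0 X' a).symm,
    eval_bivar, hfv]

variable (hK : FunFld.IsFunctionField k K)
include hK

/-- The order of `dx / f_y` at the origin. -/
theorem adjoint_affine (v : Fin 2 → K) (hv : IntermediateField.adjoin k (Set.range v) = ⊤)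
    (f : MvPolynomial (Fin 2) k) (hf : Irreducible f) (hfv : aeval v f = 0) (hmon : (bivar f).Monic)
    (Q : FunFld.Place k K) (hQ : ∀ i, Q.1 (v i) < 1) (Φ : K →ₐ[k] LaurentSeries k)
    (hΦ : LocRes.IsExpansionAt Q.1 Φ) (hne : LocRes.vDiff Φ (aeval v (pderiv 1 f))⁻¹ (v 0) ≠ 0) :
    LocRes.ordDiff Φ (aeval v (pderiv 1 f))⁻¹ (v 0) ≤ 0 ∧
      (LocRes.ordDiff Φ (aeval v (pderiv 1 f))⁻¹ (v 0) = 0 ↔ ∀ z : K, Q.1 z ≤ 1 → z ∈ locSub Q v) := by
  classical
  have hg : FunFld.IsGeometric k K := Groth.Agent.H23Geom.isGeometric_of_perfectField hK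
  set fy := aeval v (pderiv 1 f) with hfydef
  have hfy : fy ≠ 0 := fun h => hne (by simp [LocRes.vDiff, h])
  have hDx := Groth.Agent.H23Diff.D_ne_zero_of_vDiff hΦ hne
  have hvd : LocRes.vDiff Φ fy⁻¹ (v 0) = Q.1 fy⁻¹ * LocRes.vDiff Φ 1 (v 0) := by
    rw [LocRes.vDiff, LocRes.vDiff, map_mul, map_mul, hΦ.1, map_one, map_one, one_mul]
  have hvd1 : LocRes.vDiff Φ 1 (v 0) ≠ 0 := fun h => hne (by rw [hvd, h, mul_zero])
  have hord : LocRes.ordDiff Φ fy⁻¹ (v 0) = LocRes.ordDiff Φ 1 (v 0) - Q.ord fy := by
    rw [LocRes.ordDiff, hvd, WithZero.log_mul (val_ne_zero Q (inv_ne_zero hfy)) hvd1, map_inv₀, WithZero.log_inv,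
      LocRes.ordDiff, FunFld.Place.ord]
    ring
  set F0 := IntermediateField.adjoin k ({v 0} : Set K)
  set X' : F0 := ⟨v 0, IntermediateField.mem_adjoin_simple_self k (v 0)⟩
  have hx0 : v 0 ≠ 0 := fun h => hDx (by rw [h, map_zero])
  have htr : Transcendental k (v 0) := transcendental_of_val_ne_one Q hx0 (hQ 0).ne
  obtain ⟨hF, hgF⟩ := Groth.Agent.S11005.result k K hK hg F0 ⟨v 0, IntermediateField.mem_adjoin_simple_self k _, htr⟩
  haveI : FiniteDimensional F0 K := finiteDimensional_adjoin hK htr
  haveI : Algebra.IsSeparable F0 K := Groth.Agent.H23Geom.isSeparable_of_D_ne_zero hK hg hDx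
  obtain ⟨P, hP⟩ := Groth.Agent.H23Ext.exists_below (K' := K) hF.1 Q
  obtain ⟨e, he⟩ := hP
  have hle : ∀ a : F0, Q.1 (a : K) ≤ 1 ↔ P.1 a ≤ 1 := fun a => Groth.Agent.H23Ext.le_one_iff_of_isOver ⟨e, he⟩ a
  have hPX : P.1 X' < 1 := lt_of_not_ge fun h => by
    have h1 : Q.1 (algebraMap F0 K X') = P.1 X' ^ e := he X'
    exact (h1 ▸ one_le_pow₀ h).not_gt (hQ 0)
  obtain ⟨hunif, hfrac⟩ := place_below P hPX
  haveI : P.1.HasExtension Q.1 := ⟨Valuation.isEquiv_iff_val_le_one.2 fun {a} => (hle a).symm⟩
  obtain ⟨φ, hφ⟩ := Groth.Agent.H23Diff.exists_expansion hF P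
  have hx : LocRes.vDiff φ 1 X' ≠ 0 := by
    rw [Groth.Agent.H23Diff.vDiff_eq hφ hunif 1 (c := 1) (by rw [one_smul]), one_mul, map_one]
    exact one_ne_zero
  have hdiff : LocRes.diffExp φ Φ e X' = LocRes.ordDiff Φ 1 (v 0) := by
    rw [LocRes.diffExp, Groth.Agent.H23Diff.ordDiff_eq hφ hunif 1 (c := 1) (by rw [one_smul]), one_mul,
      show P.ord (1 : F0) = 0 by simp [FunFld.Place.ord], mul_zero, sub_zero]
    rfl
  have hsurj : Function.Surjective (algebraMap (IsLocalRing.ResidueField P.O) (IsLocalRing.ResidueField Q.O)) := by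
    intro r
    obtain ⟨z, rfl⟩ := IsLocalRing.residue_surjective r
    obtain ⟨c, hc⟩ := eq_one_of_isAlgClosed hK Q z.2
    refine ⟨IsLocalRing.residue P.O (algebraMap k P.O c), ?_⟩
    rw [Valuation.HasExtension.algebraMap_residue_eq_residue_algebraMap, residue_eq_algebraMap Q z c hc]
    rfl
  have hmin := minpoly_eq htr hf hmon hfv
  have hder : Polynomial.aeval (v 1) (Polynomial.derivative (minpoly F0 (v 1))) = fy := by
    rw [hmin, Polynomial.derivative_map, Polynomial.aeval_def, Polynomial.eval₂_map, derivative_bivar,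
      show (algebraMap F0 K).comp (Polynomial.aeval X' : Polynomial k →ₐ[k] F0).toRingHom =
        (Polynomial.aeval (v 0) : Polynomial k →ₐ[k] K).toRingHom from
        RingHom.ext fun a => (IntermediateField.aeval_coe F0 X' a).symm, eval_bivar]
  have hgen : IntermediateField.adjoin F0 ({v 1} : Set K) = ⊤ := by
    refine IntermediateField.restrictScalars_eq_top_iff (K := k) |>.1 (top_le_iff.1 ?_)
    rw [← hv, IntermediateField.adjoin_le_iff]
    rintro _ ⟨i, rfl⟩
    fin_cases i
    · exact IntermediateField.algebraMap_mem (IntermediateField.adjoin F0 ({v 1} : Set K)) X'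
    · exact IntermediateField.mem_adjoin_simple_self F0 (v 1)
  have hint : IsIntegral P.O (v 1) := by
    have hX1 : P.1 X' ≤ 1 := hPX.le
    refine ⟨(bivar f).map (Polynomial.aeval (⟨X', hX1⟩ : P.O) : Polynomial k →ₐ[k] P.O).toRingHom, hmon.map _, ?_⟩
    rw [Polynomial.eval₂_map]
    have hcomp : (algebraMap P.O K).comp (Polynomial.aeval (⟨X', hX1⟩ : P.O) : Polynomial k →ₐ[k] P.O).toRingHom =
        (Polynomial.aeval (v 0) : Polynomial k →ₐ[k] K).toRingHom := by
      refine Polynomial.ringHom_ext (fun a => ?_) ?_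
      · simp; rfl
      · simp; rfl
    rw [hcomp, eval_bivar, hfv]
  obtain ⟨hge, heq⟩ := Groth.Agent.S12575.result k F0 K hF hgF k k P Q e he φ hφ Φ hΦ X' hx hvd1 hsurj (v 1) hgen hint
  rw [hder, hdiff] at hge heq
  refine ⟨by rw [hord]; omega, fun h0 z hz => ?_, fun hns => ?_⟩
  · obtain ⟨a, ha, b, hb, hb1, hzab⟩ := heq (by rw [hord] at h0; omega) z hz
    have hO : ∀ r ∈ Algebra.adjoin P.O ({v 1} : Set K), r ∈ locSub Q v := by
      intro r hr
      induction hr using Algebra.adjoin_induction with
      | mem r hr => rw [Set.mem_singleton_iff.1 hr]; exact adjoin_le_locSub Q v (Algebra.subset_adjoin ⟨1, rfl⟩)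
      | algebraMap r =>
        obtain ⟨p, w, hw, hpw⟩ := hfrac r.1 r.2
        have hpoly : ∀ q : Polynomial k, ((Polynomial.aeval X' q : F0) : K) ∈ Algebra.adjoin k (Set.range v) := by
          intro q
          rw [← IntermediateField.aeval_coe]
          exact Algebra.adjoin_mono (Set.singleton_subset_iff.2 (Set.mem_range_self (0 : Fin 2)))
            (Polynomial.aeval_mem_adjoin_singleton k (v 0))
        refine ⟨_, hpoly p, _, hpoly w, ?_, congrArg Subtype.val hpw⟩
        have h1 := he (Polynomial.aeval X' w)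
        rw [hw, one_pow] at h1
        exact h1
      | add a b _ _ ha hb => exact add_mem ha hb
      | mul a b _ _ ha hb => exact mul_mem ha hb
    have := mul_mem (hO a ha) (inv_mem_locSub (hO b hb) hb1)
    rwa [← hzab, mul_inv_cancel_right₀ (fun h => by simp [h] at hb1)] at this
  · have hc : ∀ i, Q.1 (v i - algebraMap k K ((0 : Fin 2 → k) i)) < 1 := fun i => by simpa using hQ i
    have hfin := (forall_mem_locSub_iff hc hK hv).1 hns
    have hW : tanSpan v (0 : Fin 2 → k) = Submodule.span k {grad (0 : Fin 2 → k) f} := by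
      refine le_antisymm ?_ (Submodule.span_le.2 (Set.singleton_subset_iff.2
        (Submodule.mem_map_of_mem (show aeval v f = 0 from hfv))))
      rintro _ ⟨g, hg', rfl⟩
      have hvec : ![v 0, v 1] = v := by funext i; fin_cases i <;> rfl
      obtain ⟨h, rfl⟩ := ker_aeval hK (x := v 0) (y := v 1) (by
        rw [← hv]; congr 1; rw [← hvec]; simp [Set.pair_comm]) hf (by rw [hvec]; exact hfv) g
        (by rw [hvec]; exact hg')
      rw [grad_mul, show aeval (0 : Fin 2 → k) f = 0 from
        aeval_point_eq_zero hc (by rw [hfv, map_zero]; exact zero_lt_one), zero_smul, zero_add]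
      exact Submodule.smul_mem _ _ (Submodule.mem_span_singleton_self _)
    rw [hW, Fintype.card_fin] at hfin
    have hgrad : grad (0 : Fin 2 → k) f ≠ 0 := fun h => by
      rw [h, Submodule.span_zero_singleton, finrank_bot] at hfin
      omega
    have htay := val_taylor_le hc f
    rw [hfv, show aeval (0 : Fin 2 → k) f = 0 from
      aeval_point_eq_zero hc (by rw [hfv, map_zero]; exact zero_lt_one)] at htay
    simp only [Pi.zero_apply, map_zero, sub_zero, zero_sub, Valuation.map_neg, Fin.sum_univ_two] at htay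
    have hnot : ¬ ∀ i, Q.1 (v i) ≤ exp (-2) := by
      intro hall
      obtain ⟨π, hπ0, hπ⟩ := exists_val_eq Q (-1)
      obtain ⟨a, ha, w, hw, hw1, hπa⟩ := hns π (by rw [hπ, ← exp_zero, exp_le_exp]; norm_num)
      rw [Algebra.adjoin_range_eq_range_aeval, AlgHom.mem_range] at ha
      obtain ⟨A, rfl⟩ := ha
      have hPa : Q.1 (aeval v A) = exp (-1) := by rw [← hπa, map_mul, hπ, hw1, mul_one]
      have hA0 := aeval_point_eq_zero hc (show Q.1 (aeval v A) < 1 by rw [hPa, ← exp_zero, exp_lt_exp]; norm_num)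
      have h1 := val_taylor_le hc A
      rw [hA0] at h1
      simp only [Pi.zero_apply, map_zero, sub_zero] at h1
      have h2 := (Q.1.map_add _ _).trans (max_le h1
        (Q.1.map_sum_le (s := Finset.univ) (f := fun i => grad (0 : Fin 2 → k) A i • v i)
          fun i _ => (val_smul_le Q _ _).trans (hall i)))
      rw [sub_add_cancel, hPa, exp_le_exp] at h2
      norm_num at h2
    have hrel : ∀ {a b : k} {s t : K}, a ≠ 0 → Q.1 (a • s + b • t) ≤ exp (-2) → Q.1 t ≤ exp (-2) →
        Q.1 s ≤ exp (-2) := by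
      intro a b s t ha h1 h2
      have h3 := (Q.1.map_sub _ _).trans (max_le h1 ((val_smul_le Q b t).trans h2))
      rwa [add_sub_cancel_right, Algebra.smul_def, map_mul, val_const Q ha, one_mul] at h3
    set d := grad (0 : Fin 2 → k) f
    have hfyv : Q.1 (fy - algebraMap k K (d 1)) < 1 := val_sub_point_lt hc _
    have hunit : ∀ {w : K}, Q.1 w < 1 → ¬ Q.1 w ≤ exp (-2) → Q.1 w = exp (-1) := by
      intro w hw hw2
      rcases eq_or_ne w 0 with rfl | hw0
      · exact absurd (by simp) hw2
      rw [val_le_exp_iff Q hw0] at hw2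
      have := (val_lt_one_iff Q hw0).1 hw
      rw [val_eq_exp Q hw0, exp_inj]
      omega
    have hchain : aeval v (pderiv 0 f) • KaehlerDifferential.D k K (v 0) +
        fy • KaehlerDifferential.D k K (v 1) = 0 := by
      have h : ∀ g : MvPolynomial (Fin 2) k, KaehlerDifferential.D k K (aeval v g) =
          aeval v (pderiv 0 g) • KaehlerDifferential.D k K (v 0) +
            aeval v (pderiv 1 g) • KaehlerDifferential.D k K (v 1) := by
        intro g
        induction g using MvPolynomial.induction_on with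
        | C a => simp
        | add p q hp hq => simp only [map_add, hp, hq, add_smul]; abel
        | mul_X p i hp =>
          rw [map_mul, Derivation.leibniz, hp, aeval_X]
          fin_cases i <;> simp [pderiv_mul, pderiv_X, add_smul, mul_smul, smul_add] <;>
            (simp only [← mul_smul, mul_comm]; abel)
      have := h f
      rw [hfv, map_zero] at this
      exact this.symm
    by_cases hd1 : d 1 = 0
    · have hd0 : d 0 ≠ 0 := fun h => hgrad (by funext i; fin_cases i <;> assumption)
      have hy1 : Q.1 (v 1) = exp (-1) := hunit (hQ 1) fun h =>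
        hnot fun i => by fin_cases i; exacts [hrel hd0 htay h, h]
      have hfx : Q.1 (aeval v (pderiv 0 f)) = 1 := by
        have h1 := Q.1.map_add_eq_of_lt_right
          (show Q.1 (aeval v (pderiv 0 f) - algebraMap k K (d 0)) < Q.1 (algebraMap k K (d 0)) by
            rw [val_const Q hd0]; exact val_sub_point_lt hc _)
        rwa [sub_add_cancel, val_const Q hd0] at h1
      have hfx0 : aeval v (pderiv 0 f) ≠ 0 := fun h => by simp [h] at hfx
      have hDx' : KaehlerDifferential.D k K (v 0) =
          (-(fy / aeval v (pderiv 0 f))) • KaehlerDifferential.D k K (v 1) := by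
        rw [← sub_eq_zero, ← smul_right_injective _ hfx0 |>.eq_iff, smul_zero, smul_sub, ← mul_smul, mul_neg,
          mul_div_cancel₀ _ hfx0, neg_smul, sub_neg_eq_add]
        exact hchain
      rw [Groth.Agent.H23Diff.ordDiff_eq hΦ hy1 fy⁻¹ hDx', mul_neg, mul_div_assoc', inv_mul_cancel₀ hfy,
        FunFld.Place.ord, Valuation.map_neg, map_div₀, map_one, hfx, div_one, log_one, neg_zero]
    · have hx1 : Q.1 (v 0) = exp (-1) := hunit (hQ 0) fun h => hnot fun i => by
        fin_cases i
        exacts [h, hrel hd1 (by rwa [add_comm] at htay) h]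
      have hfy1 : Q.1 fy = 1 := by
        have h1 := Q.1.map_add_eq_of_lt_right
          (show Q.1 (fy - algebraMap k K (d 1)) < Q.1 (algebraMap k K (d 1)) by rw [val_const Q hd1]; exact hfyv)
        rwa [sub_add_cancel, val_const Q hd1] at h1
      rw [Groth.Agent.H23Diff.ordDiff_eq hΦ hx1 fy⁻¹ (c := 1) (by rw [one_smul]), mul_one, FunFld.Place.ord,
        map_inv₀, hfy1, inv_one, log_one, neg_zero]

end Groth.Agent.H23Proj
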