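import Mathlib
import Groth.Agent.H23Proj.Adjoint

/-!
Change of projective coordinates for the adjoint divisor.
-/

set_option autoImplicit false
set_option linter.unusedSectionVars false
set_option linter.unusedVariables false

namespace Groth.Agent.H23Proj

open MvPolynomial WithZero Groth.Agent.H23FunFld

variable {k K : Type*} [Field k] [Field K] [Algebra k K]

theorem locSub_le_of_mem {ι κ : Type*} {P : FunFld.Place k K} {z : ι → K} {z' : κ → K}
    (h : ∀ i, z i ∈ locSub P z') : locSub P z ≤ locSub P z' := by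
  rintro x ⟨a, ha, w, hw, hw1, hxa⟩
  have hle : Algebra.adjoin k (Set.range z) ≤ locSub P z' := Algebra.adjoin_le (Set.range_subset_iff.2 h)
  have h2 := mul_mem (hle ha) (inv_mem_locSub (hle hw) hw1)
  rwa [← hxa, mul_inv_cancel_right₀ (fun h0 => by simp [h0] at hw1)] at h2

variable {n : ℕ}

/-- A linear substitution. -/
noncomputable def lin (A : Matrix (Fin n) (Fin n) k) : MvPolynomial (Fin n) k →ₐ[k] MvPolynomial (Fin n) k :=
  aeval fun i => ∑ j, C (A i j) * X j

theorem aeval_lin (A : Matrix (Fin n) (Fin n) k) {S : Type*} [CommRing S] [Algebra k S] (u : Fin n → S)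
    (G : MvPolynomial (Fin n) k) :
    aeval u (lin A G) = aeval (fun i => ∑ j, algebraMap k S (A i j) * u j) G := by
  rw [lin, comp_aeval_apply]
  congr 2
  funext i
  simp

theorem lin_comp (A B : Matrix (Fin n) (Fin n) k) (G : MvPolynomial (Fin n) k) :
    lin B (lin A G) = lin (A * B) G := by
  conv_lhs => rw [lin]
  rw [aeval_lin, lin]
  congr 2
  funext i
  simp only [Matrix.mul_apply, map_sum, map_mul, Finset.sum_mul, Finset.mul_sum, algebraMap_eq, mul_assoc]
  exact Finset.sum_comm

theorem lin_one (G : MvPolynomial (Fin n) k) : lin (1 : Matrix (Fin n) (Fin n) k) G = G := by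
  rw [lin, show (fun i => ∑ j, C ((1 : Matrix (Fin n) (Fin n) k) i j) * X j) = (X : Fin n → MvPolynomial (Fin n) k) from
    funext fun i => by simp [Matrix.one_apply, apply_ite C], aeval_X_left_apply]

theorem irreducible_lin {A : Matrix (Fin n) (Fin n) k} (hA : A.det ≠ 0) {G : MvPolynomial (Fin n) k}
    (hG : Irreducible G) : Irreducible (lin A G) := by
  have h1 : A⁻¹ * A = 1 := Matrix.nonsing_inv_mul _ (isUnit_iff_ne_zero.2 hA)
  have h2 : A * A⁻¹ = 1 := Matrix.mul_nonsing_inv _ (isUnit_iff_ne_zero.2 hA)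
  let E : MvPolynomial (Fin n) k ≃ₐ[k] MvPolynomial (Fin n) k := AlgEquiv.ofAlgHom (lin A) (lin A⁻¹)
    (AlgHom.ext fun G => by rw [AlgHom.comp_apply, lin_comp, h1, lin_one, AlgHom.id_apply])
    (AlgHom.ext fun G => by rw [AlgHom.comp_apply, lin_comp, h2, lin_one, AlgHom.id_apply])
  exact (MulEquiv.irreducible_iff E).2 hG

theorem isHomogeneous_lin {A : Matrix (Fin n) (Fin n) k} {G : MvPolynomial (Fin n) k} {d : ℕ}
    (hG : G.IsHomogeneous d) : (lin A G).IsHomogeneous d := by
  have := hG.aeval (fun i => ∑ j, C (A i j) * X j) (n := 1)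
    fun i => IsHomogeneous.sum _ _ _ fun j _ => isHomogeneous_C_mul_X _ _
  rwa [one_mul] at this

theorem pderiv_lin (A : Matrix (Fin n) (Fin n) k) (l : Fin n) (G : MvPolynomial (Fin n) k) :
    pderiv l (lin A G) = ∑ i, C (A i l) * lin A (pderiv i G) := by
  induction G using MvPolynomial.induction_on with
  | C a => simp [lin]
  | add p q hp hq => simp [hp, hq, Finset.sum_add_distrib, mul_add]
  | mul_X p m hp =>
    rw [map_mul, pderiv_mul, hp]
    have : pderiv l (lin A (X m)) = C (A m l) := by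
      simp [lin, pderiv_X, Pi.single_apply]
    rw [this]
    simp only [pderiv_mul, map_add, map_mul, mul_add, Finset.sum_add_distrib, Finset.sum_mul, ← mul_assoc]
    congr 1
    simp [pderiv_X, Pi.single_apply, apply_ite (lin A), mul_ite, Finset.sum_ite_eq, mul_comm]

theorem dehom_pderiv (i : Fin n) (G : MvPolynomial (Fin (n + 1)) k) :
    dehom (pderiv i.succ G) = pderiv i (dehom G) := by
  induction G using MvPolynomial.induction_on with
  | C a => simp [dehom]
  | add p q hp hq => simp [hp, hq]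
  | mul_X p m hp =>
    rw [pderiv_mul, map_add, map_mul, map_mul, hp, map_mul, pderiv_mul]
    congr 1
    simp only [dehom, aeval_X]
    refine Fin.cases ?_ (fun l => ?_) m
    · simp [pderiv_X]
    · rcases eq_or_ne i l with rfl | h
      · simp [pderiv_X]
      · simp [pderiv_X, h, Ne.symm h]

theorem irreducible_dehom {G : MvPolynomial (Fin (n + 1)) k} {d : ℕ} (hG : G.IsHomogeneous d)
    (hirr : Irreducible G) (h0 : ¬ IsUnit (dehom G)) : Irreducible (dehom G) := by
  refine ⟨h0, fun a b hab => ?_⟩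
  by_contra hc
  rw [not_or] at hc
  have hne : dehom G ≠ 0 := fun h => hirr.ne_zero (eq_zero_of_dehom_eq_zero hG h)
  have ha0 : a ≠ 0 := fun h => hne (by rw [hab, h, zero_mul])
  have hb0 : b ≠ 0 := fun h => hne (by rw [hab, h, mul_zero])
  have hdeg : a.totalDegree + b.totalDegree ≤ d := by
    rw [← totalDegree_mul_of_isDomain ha0 hb0, ← hab]
    exact totalDegree_dehom_le hG
  have heq : G = hom (d - b.totalDegree) a * hom b.totalDegree b := by
    refine eq_of_dehom_eq hG ?_ ?_
    · have h := (hom_isHomogeneous (d - b.totalDegree) a).mul (hom_isHomogeneous b.totalDegree b)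
      rwa [Nat.sub_add_cancel (by omega)] at h
    · rw [map_mul, dehom_hom (by omega), dehom_hom le_rfl, hab]
  rcases hirr.isUnit_or_isUnit heq with h | h
  · have := h.map (dehom : MvPolynomial (Fin (n + 1)) k →ₐ[k] _)
    rw [dehom_hom (by omega)] at this
    exact hc.1 this
  · have := h.map (dehom : MvPolynomial (Fin (n + 1)) k →ₐ[k] _)
    rw [dehom_hom le_rfl] at this
    exact hc.2 this

theorem monic_bivar_dehom {G : MvPolynomial (Fin 3) k} {d : ℕ} (hG : G.IsHomogeneous d)
    (h1 : aeval ![(0 : k), 0, 1] G = 1) : (bivar (dehom G)).Monic := by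
  classical
  set t : (Fin 3 →₀ ℕ) → Polynomial (Polynomial k) := fun s =>
    Polynomial.C (Polynomial.C (G.coeff s) * Polynomial.X ^ s 1) * Polynomial.X ^ s 2 with ht
  have hsum : bivar (dehom G) = ∑ s ∈ G.support, t s := by
    conv_lhs => rw [G.as_sum]
    rw [map_sum, map_sum]
    refine Finset.sum_congr rfl fun s hs => ?_
    rw [dehom, aeval_monomial, Finsupp.prod_fintype _ _ (fun i => pow_zero _), Fin.prod_univ_three]
    rw [show (Fin.cons 1 X : Fin 3 → MvPolynomial (Fin 2) k) 0 = 1 from rfl,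
      show (Fin.cons 1 X : Fin 3 → MvPolynomial (Fin 2) k) 1 = X 0 from rfl,
      show (Fin.cons 1 X : Fin 3 → MvPolynomial (Fin 2) k) 2 = X 1 from rfl]
    simp [bivar, ht, Polynomial.algebraMap_apply, mul_assoc]
  have hdeg : ∀ s ∈ G.support, s 0 + s 1 + s 2 = d := fun s hs => by
    rw [hG.degree_eq_sum_deg_support hs, Finset.sum_subset (Finset.subset_univ _) (fun i _ hi =>
      Finsupp.notMem_support_iff.1 hi), Fin.sum_univ_three]
  refine Polynomial.monic_of_natDegree_le_of_coeff_eq_one d ?_ ?_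
  · rw [hsum]
    refine Polynomial.natDegree_sum_le_of_forall_le _ _ fun s hs => ?_
    refine (Polynomial.natDegree_C_mul_X_pow_le _ _).trans ?_
    have := hdeg s hs
    omega
  · rw [hsum, Polynomial.finsetSum_coeff]
    rw [G.as_sum, map_sum] at h1
    rw [← map_one (Polynomial.C : k →+* Polynomial k), ← h1, map_sum]
    refine Finset.sum_congr rfl fun s hs => ?_
    rw [aeval_monomial, Finsupp.prod_fintype _ _ (fun i => pow_zero _), Fin.prod_univ_three]
    simp only [ht, Polynomial.coeff_C_mul_X_pow]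
    have := hdeg s hs
    by_cases h2 : d = s 2
    · have h0' : s 0 = 0 := by omega
      have h1' : s 1 = 0 := by omega
      simp [h2, h0', h1']
    · rw [if_neg h2]
      rcases Nat.eq_zero_or_pos (s 0) with h0' | h0'
      · have h1' : s 1 ≠ 0 := by omega
        simp [zero_pow h1']
      · simp [zero_pow h0'.ne']

variable [IsAlgClosed k]

/-- A change of coordinates moving `a` to the origin and giving a monic equation. -/
theorem exists_coord {F : MvPolynomial (Fin 3) k} {e : ℕ} (he : 0 < e) (hF : F.IsHomogeneous e) (hF0 : F ≠ 0)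
    {a : Fin 3 → k} {j : Fin 3} (haj : a j = 1) (g : Fin 3 → K) (hg : g 2 ≠ 0) :
    ∃ A : Matrix (Fin 3) (Fin 3) k, A.det ≠ 0 ∧ (∀ i, A i 0 = a i) ∧
      aeval (fun i => A i 2) F = 1 ∧ ∑ i, algebraMap k K (A i 2) * g i ≠ 0 := by
  classical
  obtain ⟨ψ, hψ⟩ : ∃ ψ : Module.Dual k K, ψ (g 2) ≠ 0 := by
    by_contra hall
    simp only [not_exists, not_not] at hall
    exact hg ((Module.forall_dual_apply_eq_zero_iff k (g 2)).1 hall)
  obtain ⟨l, hl⟩ : ∃ l, l ≠ j := exists_ne j
  set ℓ : MvPolynomial (Fin 3) k := ∑ i, C (ψ (g i)) * X i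
  set m : MvPolynomial (Fin 3) k := X l - C (a l) * X j
  have hℓ : ℓ ≠ 0 := fun h => hψ (by
    have := congrArg (aeval (Pi.single 2 1 : Fin 3 → k)) h
    simpa [ℓ, Pi.single_apply] using this)
  have hm : m ≠ 0 := fun h => one_ne_zero (α := k) (by
    have := congrArg (aeval (Pi.single l 1 : Fin 3 → k)) h
    simpa [m, Pi.single_apply, hl.symm] using this)
  obtain ⟨p₀, hp₀⟩ : ∃ p₀ : Fin 3 → k, aeval p₀ (F * ℓ * m) ≠ 0 := by
    by_contra hall
    simp only [not_exists, not_not] at hall
    exact mul_ne_zero (mul_ne_zero hF0 hℓ) hm (MvPolynomial.funext fun p => by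
      rw [map_zero]; exact hall p)
  rw [map_mul, map_mul, mul_ne_zero_iff, mul_ne_zero_iff] at hp₀
  obtain ⟨⟨hpF, hpℓ⟩, hpm⟩ := hp₀
  obtain ⟨t, ht⟩ := IsAlgClosed.exists_pow_nat_eq (aeval p₀ F)⁻¹ he
  have ht0 : t ≠ 0 := fun h => inv_ne_zero hpF (by rw [← ht, h, zero_pow he.ne'])
  set p : Fin 3 → k := fun i => t * p₀ i
  have hFp : aeval p F = 1 := by rw [aeval_smul_of_isHomogeneous hF, ht, inv_mul_cancel₀ hpF]
  have hℓp : ∑ i, algebraMap k K (p i) * g i ≠ 0 := fun h => by
    have h2 := congrArg ψ h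
    simp only [← Algebra.smul_def, map_sum, map_smul, map_zero, smul_eq_mul, p, mul_assoc, ← Finset.mul_sum] at h2
    refine hpℓ ?_
    simpa [ℓ, mul_comm] using (mul_eq_zero.1 h2).resolve_left ht0
  obtain ⟨r, hr⟩ : ∃ r : Fin 3,
      (Matrix.of fun i c => ![a i, if i = r then 1 else 0, p i] c).det ≠ 0 := by
    by_contra hall
    simp only [not_exists, not_not] at hall
    have h0 := hall 0
    have h1 := hall 1
    have h2 := hall 2
    simp [Matrix.det_fin_three] at h0 h1 h2
    have hpair : ∀ i c, a i * p c = a c * p i := by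
      intro i c
      fin_cases i <;> fin_cases c <;> simp only [Fin.zero_eta, Fin.mk_one, Fin.reduceFinMk, Fin.isValue] <;> first
        | rfl
        | linear_combination h0 | linear_combination -1 * h0 | linear_combination h1
        | linear_combination -1 * h1 | linear_combination h2 | linear_combination -1 * h2
    have h3 := hpair j l
    rw [haj, one_mul] at h3
    refine hpm ?_
    have h4 : p₀ l = a l * p₀ j := mul_left_cancel₀ ht0 (h3.trans (mul_left_comm _ _ _))
    simp [m, h4]
  exact ⟨_, hr, fun i => rfl, hFp, hℓp⟩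

end Groth.Agent.H23Proj
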