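import Mathlib
import Groth.Agent.H23Proj.Jacobian
import Groth.Agent.H23Proj.Model
import Groth.Agent.H23FunFld.Riemann
import Groth.Agent.H23Proj.PlaneModel

/-!
The semi-normalisation of the local ring of an affine plane curve at a point.
-/

set_option autoImplicit false
set_option linter.style.haveILetI false
set_option linter.unusedSectionVars false
set_option linter.unusedVariables false

namespace Groth.Agent.H23Proj

open MvPolynomial WithZero Groth.Agent.H23FunFld

variable {k K : Type*} [Field k] [Field K] [Algebra k K]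

theorem relDim_map {V W : Type*} [AddCommGroup V] [Module k V] [AddCommGroup W] [Module k W]
    {A B : Submodule k V} (f : V →ₗ[k] W) (hf : Function.Injective f) {n : ℤ} (h : RelDim A B n) :
    RelDim (A.map f) (B.map f) n := by
  haveI := h.1
  let e := Submodule.equivMapOfInjective f hf B
  have h2 := RelDim.of_surjective (A := A.map f) (B := B.map f)
    ((A.comap B.subtype).mkQ ∘ₗ e.symm.toLinearMap)
    ((Submodule.mkQ_surjective _).comp e.symm.surjective) (fun x => by
      obtain ⟨y, rfl⟩ := e.surjective x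
      rw [LinearMap.comp_apply, LinearEquiv.coe_coe, LinearEquiv.symm_apply_apply, Submodule.mkQ_apply,
        Submodule.Quotient.mk_eq_zero, Submodule.mem_comap, Submodule.coe_subtype,
        Submodule.coe_equivMapOfInjective_apply]
      refine ⟨fun hy => Submodule.mem_map_of_mem hy, ?_⟩
      rintro ⟨z, hz, hzy⟩
      rwa [← hf hzy])
  rw [h.2] at h2
  exact h2

theorem exists_relDim_left {V : Type*} [AddCommGroup V] [Module k V] {A B C : Submodule k V} (hAB : A ≤ B)
    (hBC : B ≤ C) {n : ℤ} (h : RelDim A C n) : ∃ m, RelDim A B m := by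
  haveI := h.1
  refine ⟨_, FiniteDimensional.of_injective
    (Submodule.mapQ (A.comap B.subtype) (A.comap C.subtype) (Submodule.inclusion hBC) fun x hx => hx) ?_, rfl⟩
  rw [← LinearMap.ker_eq_bot, Submodule.eq_bot_iff]
  intro x hx
  induction x using Submodule.Quotient.induction_on with
  | _ x =>
    change (Submodule.Quotient.mk (Submodule.inclusion hBC x) : ↥C ⧸ A.comap C.subtype) = 0 at hx
    rw [Submodule.Quotient.mk_eq_zero] at hx
    rw [Submodule.Quotient.mk_eq_zero]
    exact hx

theorem exists_relDim_right {V : Type*} [AddCommGroup V] [Module k V] {A B C : Submodule k V} (hAB : A ≤ B)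
    {n : ℤ} (h : RelDim A C n) : ∃ m, RelDim B C m := by
  haveI := h.1
  exact ⟨_, Module.Finite.of_surjective (Submodule.factor
    (show A.comap C.subtype ≤ B.comap C.subtype from fun x hx => hAB hx)) (Submodule.factor_surjective _), rfl⟩

variable {P : FunFld.Place k K} {v : Fin 2 → K} {c : Fin 2 → k}

theorem sameImage_iff (hc : ∀ i, P.1 (v i - algebraMap k K (c i)) < 1) (Q : FunFld.Place k K) :
    FunFld.SameImage ![(1 : K), v 0, v 1] P Q ↔ ∀ i, Q.1 (v i - algebraMap k K (c i)) < 1 := by
  set φ : Fin 3 → K := ![(1 : K), v 0, v 1]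
  have hle : ∀ (R : FunFld.Place k K), (∀ i, R.1 (v i - algebraMap k K (c i)) < 1) → ∀ i, R.1 (φ i) ≤ 1 := by
    intro R hR i
    fin_cases i
    · simp [φ]
    · exact val_z_le hR 0
    · exact val_z_le hR 1
  constructor
  · rintro ⟨j, hj0, hjP, hjQ, he⟩
    choose e heP heQ using he
    have hP1 : P.1 (φ j) = 1 := le_antisymm (hle P hc j) (by simpa [φ] using hjP 0)
    have he0 : e 0 ≠ 0 := fun h => by
      have := heP 0
      rw [h, map_zero, sub_zero, map_div₀, hP1] at this
      simp [φ] at this
    have hQ1 : Q.1 (φ j) = 1 := by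
      have h1 := Q.1.map_add_eq_of_lt_right
        (show Q.1 (φ 0 / φ j - algebraMap k K (e 0)) < Q.1 (algebraMap k K (e 0)) by
          rw [val_const Q he0]; exact heQ 0)
      rw [sub_add_cancel, val_const Q he0, map_div₀, show φ 0 = 1 from rfl, map_one, one_div,
        inv_eq_one] at h1
      exact h1
    have key : ∀ (R : FunFld.Place k K), R.1 (φ j) = 1 → (∀ i, R.1 (φ i / φ j - algebraMap k K (e i)) < 1) →
        ∀ i : Fin 2, R.1 (v i - algebraMap k K (e i.succ / e 0)) < 1 := by
      intro R hR hRe i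
      have hid : v i - algebraMap k K (e i.succ / e 0) =
          (φ i.succ / φ j - algebraMap k K (e i.succ)) * φ j -
            algebraMap k K (e i.succ / e 0) * ((φ 0 / φ j - algebraMap k K (e 0)) * φ j) := by
        have hv : φ i.succ = v i := by fin_cases i <;> rfl
        have h0 : (φ 0 / φ j - algebraMap k K (e 0)) * φ j = 1 - algebraMap k K (e 0) * φ j := by
          rw [sub_mul, div_mul_cancel₀ _ hj0]; rfl
        have he0' : algebraMap k K (e 0) ≠ 0 := (map_ne_zero _).2 he0
        rw [h0, hv, sub_mul, div_mul_cancel₀ _ hj0, map_div₀]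
        field_simp
        ring
      rw [hid]
      refine (R.1.map_sub _ _).trans_lt (max_lt ?_ ?_)
      · rw [map_mul, hR, mul_one]; exact hRe _
      · rw [map_mul, map_mul _ (_ - _), hR, mul_one]
        exact (mul_le_of_le_one_left zero_le (R.2.1 _)).trans_lt (hRe _)
    intro i
    have hci : c i = e i.succ / e 0 := by
      by_contra hne
      have h1 := (P.1.map_sub _ _).trans_lt (max_lt (key P hP1 heP i) (hc i))
      rw [sub_sub_sub_cancel_left, ← map_sub, val_const P (sub_ne_zero.2 hne)] at h1
      exact lt_irrefl _ h1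
    rw [hci]
    exact key Q hQ1 heQ i
  · intro hQ
    refine ⟨0, one_ne_zero, fun i => ?_, fun i => ?_, fun i => ?_⟩
    · simpa [φ] using hle P hc i
    · simpa [φ] using hle Q hQ i
    · fin_cases i
      · exact ⟨1, by simp [φ], by simp [φ]⟩
      · exact ⟨c 0, by simpa [φ] using hc 0, by simpa [φ] using hQ 0⟩
      · exact ⟨c 1, by simpa [φ] using hc 1, by simpa [φ] using hQ 1⟩

variable [IsAlgClosed k] (hK : FunFld.IsFunctionField k K)
  (hv : IntermediateField.adjoin k (Set.range v) = ⊤)
  (hc : ∀ i, P.1 (v i - algebraMap k K (c i)) < 1)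
include hK hv

theorem exists_ne_const : ∃ i, ∀ a : k, v i ≠ algebraMap k K a := by
  by_contra hall
  simp only [not_exists, not_forall, not_not] at hall
  obtain ⟨x, hx, -⟩ := hK.1
  have hbot : IntermediateField.adjoin k (Set.range v) ≤ ⊥ := by
    rw [IntermediateField.adjoin_le_iff]
    rintro _ ⟨i, rfl⟩
    obtain ⟨a, ha⟩ := hall i
    exact IntermediateField.mem_bot.2 ⟨a, ha.symm⟩
  obtain ⟨a, ha⟩ := IntermediateField.mem_bot.1 (hbot (hv ▸ IntermediateField.mem_top : x ∈ _))
  exact hx (ha ▸ isAlgebraic_algebraMap a)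

theorem finite_fibre_affine (c : Fin 2 → k) :
    {Q : FunFld.Place k K | ∀ i, Q.1 (v i - algebraMap k K (c i)) < 1}.Finite := by
  obtain ⟨i, hi⟩ := exists_ne_const hK hv
  refine (finite_zeros hK (v i - algebraMap k K (c i))).subset fun Q hQ => ?_
  exact (val_lt_one_iff Q (sub_ne_zero.2 (hi _))).1 (hQ i)

include hc

theorem locSub_le_semiBall : Subalgebra.toSubmodule (locSub P v) ≤
    semiBall {Q : FunFld.Place k K | ∀ i, Q.1 (v i - algebraMap k K (c i)) < 1} 0 := by
  rintro z ⟨a, ha, w, hw, hw1, hza⟩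
  refine mem_semiBall.2 fun Q hQ => ?_
  rw [Algebra.adjoin_range_eq_range_aeval, AlgHom.mem_range] at hw ha
  obtain ⟨W, rfl⟩ := hw
  obtain ⟨A, rfl⟩ := ha
  have hWc : aeval c W ≠ 0 := fun h0 => by
    have := val_sub_point_lt hc W
    rw [h0, map_zero, sub_zero, hw1] at this
    exact lt_irrefl _ this
  have hQW : Q.1 (aeval v W) = 1 := by
    have h1 := Q.1.map_add_eq_of_lt_right
      (show Q.1 (aeval v W - algebraMap k K (aeval c W)) < Q.1 (algebraMap k K (aeval c W)) by
        rw [val_const Q hWc]; exact val_sub_point_lt hQ W)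
    rwa [sub_add_cancel, val_const Q hWc] at h1
  have hA := locSub_val_le hQ (adjoin_le_locSub Q v (Algebra.adjoin_range_eq_range_aeval (R := k) v ▸
    ⟨A, rfl⟩ : aeval v A ∈ Algebra.adjoin k (Set.range v)))
  rw [← hza, map_mul, hQW, mul_one] at hA
  simpa using hA

/-- A conductor from the local ring to its semi-normalisation. -/
theorem exists_conductor_local : ∃ h : K, h ≠ 0 ∧ h ∈ locSub P v ∧
    ∀ z : K, (∀ Q : FunFld.Place k K, (∀ i, Q.1 (v i - algebraMap k K (c i)) < 1) → Q.1 z ≤ 1) →
      h * z ∈ locSub P v := by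
  classical
  have hex : ∀ i, ∃ e : k, v i ≠ algebraMap k K e := fun i => by
    by_contra hall
    simp only [not_exists, not_not] at hall
    have := (hall 0).symm.trans (hall 1)
    exact zero_ne_one ((algebraMap k K).injective this)
  choose e he using hex
  set φ : Option (Fin 2) → K := fun o => o.elim 1 fun i => v i - algebraMap k K (e i) with hφ
  have hne : ∀ o, φ o ≠ 0 := by
    rintro (_ | i)
    · exact one_ne_zero
    · exact sub_ne_zero.2 (he i)
  have hgen : IntermediateField.adjoin k (Set.range φ) = ⊤ := by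
    refine top_le_iff.1 (hv ▸ IntermediateField.adjoin_le_iff.2 ?_)
    rintro _ ⟨i, rfl⟩
    rw [SetLike.mem_coe, ← sub_add_cancel (v i) (algebraMap k K (e i))]
    exact add_mem (IntermediateField.subset_adjoin k _ ⟨some i, rfl⟩) (IntermediateField.algebraMap_mem _ _)
  have hA : ∀ {n : ℕ} {z : K}, z ∈ Submodule.span k (Set.range φ) ^ n → z ∈ locSub P v := by
    intro n z hz
    have h1 := div_pow_mem (none : Option (Fin 2)) hz
    rw [show φ none = 1 from rfl, one_pow, div_one] at h1
    refine adjoin_le_locSub P v (Algebra.adjoin_le ?_ h1)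
    rintro _ ⟨o, rfl⟩
    change φ o / 1 ∈ Algebra.adjoin k (Set.range v)
    rw [div_one]
    rcases o with _ | i
    · exact one_mem _
    · exact sub_mem (Algebra.subset_adjoin ⟨i, rfl⟩) (Subalgebra.algebraMap_mem _ _)
  obtain ⟨r, h, hh0, hhmem, m₁, hm₁⟩ :=
    exists_conductor (φ := φ) hK (i₀ := none) rfl hne hgen
  refine ⟨h, hh0, hA hhmem, fun z hz => ?_⟩
  set D := FunFld.mapDiv k φ with hD
  set B : Finset (FunFld.Place k K) := (poleDiv (k := k) z).support.filter fun Q => ∀ i, Q.1 (v i) ≤ 1
  have hBc : ∀ Q ∈ B, ∃ i, ∃ a : k, a ≠ c i ∧ Q.1 (v i - algebraMap k K a) < 1 := by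
    intro Q hQ
    obtain ⟨hQs, hQv⟩ := Finset.mem_filter.1 hQ
    choose a ha using fun i => eq_one_of_isAlgClosed hK Q (hQv i)
    by_contra hall
    simp only [not_exists, not_and] at hall
    have hQz := hz Q fun i => by
      by_contra hlt
      exact hall i (a i) (fun hai => hlt (hai ▸ ha i)) (ha i)
    rw [Finsupp.mem_support_iff, poleDiv_apply hK] at hQs
    rcases eq_or_ne z 0 with rfl | hz0
    · simp [ord_zero] at hQs
    · have := (val_le_one_iff Q hz0).1 hQz
      omega
  choose! i a hac hlt using hBc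
  set N : ℕ := ((poleDiv (k := k) z).deg).toNat with hN
  set w : K := ∏ Q ∈ B, (v (i Q) - algebraMap k K (a Q)) ^ (poleDiv (k := k) z Q).toNat with hw
  have hwA : w ∈ Algebra.adjoin k (Set.range v) := prod_mem fun Q _ =>
    pow_mem (sub_mem (Algebra.subset_adjoin (Set.mem_range_self _)) (Subalgebra.algebraMap_mem _ _)) _
  have hw1 : P.1 w = 1 := by
    rw [hw, map_prod]
    refine Finset.prod_eq_one fun Q hQ => ?_
    rw [map_pow]
    have h1 := P.1.map_add_eq_of_lt_right
      (show P.1 (v (i Q) - algebraMap k K (c (i Q))) < P.1 (algebraMap k K (c (i Q) - a Q)) by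
        rw [val_const P (sub_ne_zero.2 (hac Q hQ).symm)]; exact hc _)
    rw [map_sub, sub_add_sub_cancel, ← map_sub, val_const P (sub_ne_zero.2 (hac Q hQ).symm)] at h1
    rw [h1, one_pow]
  have hfin : ∀ Q : FunFld.Place k K, (∀ i, Q.1 (v i) ≤ 1) → Q.1 (w * z) ≤ 1 := by
    intro Q hQv
    have hle : ∀ R ∈ B, Q.1 (v (i R) - algebraMap k K (a R)) ≤ 1 := fun R _ =>
      (Q.1.map_sub _ _).trans (max_le (hQv _) (Q.2.1 _))
    rcases eq_or_ne z 0 with rfl | hz0
    · simp
    by_cases hQB : Q ∈ B
    · rw [hw, ← Finset.mul_prod_erase B _ hQB, map_mul, map_mul, map_prod, map_pow]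
      refine (mul_le_mul' (mul_le_mul' (pow_le_exp_of_lt_one (hlt Q hQB) _) (Finset.prod_le_one'
        fun R hR => ?_)) (mem_L_poleDiv hK z Q)).trans ?_
      · rw [map_pow]; exact pow_le_one₀ zero_le (hle R (Finset.mem_of_mem_erase hR))
      · rw [mul_one, ← exp_add, ← exp_zero, exp_le_exp]
        have := poleDiv_nonneg hK z Q
        simp only [Finsupp.coe_zero, Pi.zero_apply] at this
        omega
    · rw [map_mul, hw, map_prod]
      refine mul_le_one' (Finset.prod_le_one' fun R hR => by rw [map_pow]; exact pow_le_one₀ zero_le (hle R hR)) ?_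
      have h0 : poleDiv (k := k) z Q = 0 := by
        by_contra h0
        exact hQB (Finset.mem_filter.2 ⟨Finsupp.mem_support_iff.2 h0, hQv⟩)
      have := mem_L_poleDiv hK z Q
      rwa [h0, exp_zero] at this
  set M : ℕ := (poleDiv (k := k) (w * z)).deg.toNat + m₁ with hM
  have hmem : w * z ∈ FunFld.L (M • D) := by
    intro Q
    have hD0 : 0 ≤ D Q := DD_nonneg hK (φ := φ) (i₀ := none) rfl Q
    by_cases hQv : ∀ i, Q.1 (v i) ≤ 1
    · refine (hfin Q hQv).trans ?_
      rw [← exp_zero, exp_le_exp, Finsupp.smul_apply]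
      exact nsmul_nonneg hD0 M
    · simp only [not_forall, not_le] at hQv
      obtain ⟨l, hl⟩ := hQv
      have hDQ : 1 ≤ D Q := by
        have h1 := val_entry_le (φ := φ) hK Q (some l) (hne _)
        have h2 : Q.1 (φ (some l)) = Q.1 (v l) := by
          refine Q.1.map_sub_eq_of_lt_left ?_
          exact (Q.2.1 _).trans_lt hl
        rw [h2] at h1
        have h3 := hl.trans_le h1
        rw [← exp_zero, exp_lt_exp] at h3
        exact h3
      refine (mem_L_poleDiv hK (w * z) Q).trans (exp_le_exp.2 ?_)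
      rw [Finsupp.smul_apply, nsmul_eq_mul]
      have hpole : poleDiv (k := k) (w * z) Q ≤ (poleDiv (k := k) (w * z)).deg := by
        have h0 := poleDiv_nonneg hK (w * z)
        have hd := deg_mono (k := k) (D := Finsupp.single Q (poleDiv (k := k) (w * z) Q))
          (E := poleDiv (k := k) (w * z)) (fun R => by
            rcases eq_or_ne R Q with rfl | hR
            · simp
            · rw [Finsupp.single_eq_of_ne hR]; exact h0 R)
        rw [deg_single, deg_eq_one_of_isAlgClosed hK Q, Nat.cast_one, mul_one] at hd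
        exact hd
      calc poleDiv (k := k) (w * z) Q ≤ (M : ℤ) * 1 := by rw [mul_one, hM]; push_cast; omega
        _ ≤ (M : ℤ) * D Q := mul_le_mul_of_nonneg_left hDQ (Int.natCast_nonneg _)
  have h2 := hA (hm₁ M (Nat.le_add_left _ _) _ hmem)
  rw [show h * z = h * (w * z) * w⁻¹ by
    field_simp [show w ≠ 0 from fun h0 => by simp [h0] at hw1]]
  exact mul_mem h2 (inv_mem_locSub (adjoin_le_locSub P v hwA) hw1)

/-- The dimension of the local ring modulo a function is its total order over the point. -/
theorem relDim_mul_locSub {G : K} (hG0 : G ≠ 0) (hG : G ∈ locSub P v) :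
    RelDim ((Subalgebra.toSubmodule (locSub P v)).map (LinearMap.mulLeft k G))
      (Subalgebra.toSubmodule (locSub P v)) (∑ᶠ Q ∈ {Q : FunFld.Place k K |
        ∀ i, Q.1 (v i - algebraMap k K (c i)) < 1}, Q.ord G) := by
  classical
  have hSfin := finite_fibre_affine hK hv c
  set S := hSfin.toFinset with hS
  have hSset : ((S : Finset (FunFld.Place k K)) : Set (FunFld.Place k K)) =
      {Q : FunFld.Place k K | ∀ i, Q.1 (v i - algebraMap k K (c i)) < 1} := hSfin.coe_toFinset
  set R := Subalgebra.toSubmodule (locSub P v) with hR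
  set T := semiBall (S : Set (FunFld.Place k K)) (0 : FunFld.Divisor k K) with hT
  have hRT : R ≤ T := by rw [hT, hSset]; exact locSub_le_semiBall hK hv hc
  have key : ∀ {u : K}, u ≠ 0 → u ∈ locSub P v → RelDim (T.map (LinearMap.mulLeft k u)) T
      (∑ Q ∈ S, Q.ord u) := by
    intro u hu0 hu
    set E : FunFld.Divisor k K := Finsupp.onFinset S (fun Q => if Q ∈ S then Q.ord u else 0)
      (fun Q hQ => by by_contra h; simp [h] at hQ) with hE
    have hE0 : 0 ≤ E := fun Q => by
      simp only [hE, Finsupp.coe_zero, Pi.zero_apply, Finsupp.onFinset_apply]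
      split_ifs with h
      · exact (val_le_one_iff Q hu0).1 (mem_semiBall.1 (hRT hu) Q h |>.trans_eq (by simp))
      · exact le_rfl
    have h1 := relDim_semiBall S (fun Q _ => finiteDimensional_residueField hK Q) (-E) E hE0
      Finsupp.support_onFinset_subset
    rw [neg_add_cancel] at h1
    have hdeg : E.deg = ∑ Q ∈ S, Q.ord u := by
      rw [FunFld.Divisor.deg, Finsupp.sum_of_support_subset E Finsupp.support_onFinset_subset _ (by simp)]
      exact Finset.sum_congr rfl fun Q hQ => by simp [hE, hQ, deg_eq_one_of_isAlgClosed hK Q]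
    have hmap : semiBall (S : Set (FunFld.Place k K)) (-E) = T.map (LinearMap.mulLeft k u) := by
      ext x
      constructor
      · intro hx
        refine ⟨x / u, mem_semiBall.2 fun Q hQ => ?_, mul_div_cancel₀ _ hu0⟩
        have h2 := mem_semiBall.1 hx Q hQ
        simp only [hE, Finsupp.neg_apply, Finsupp.onFinset_apply, Finset.mem_coe.1 hQ, if_true] at h2
        rw [map_div₀, Finsupp.coe_zero, Pi.zero_apply, exp_zero, div_le_one₀ (zero_lt_iff.2 (val_ne_zero Q hu0)),
          val_eq_exp Q hu0]
        exact h2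
      · rintro ⟨y, hy, rfl⟩
        refine mem_semiBall.2 fun Q hQ => ?_
        have h2 := mem_semiBall.1 hy Q hQ
        simp only [Finsupp.coe_zero, Pi.zero_apply, exp_zero] at h2
        simp only [hE, Finsupp.neg_apply, Finsupp.onFinset_apply, Finset.mem_coe.1 hQ, if_true,
          LinearMap.mulLeft_apply, map_mul, val_eq_exp Q hu0]
        exact mul_le_of_le_one_right zero_le h2
    rw [hmap, hdeg] at h1
    exact h1
  obtain ⟨h, hh0, hh, hcond⟩ := exists_conductor_local hK hv hc
  obtain ⟨n, hn⟩ : ∃ n, RelDim R T n := by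
    refine exists_relDim_right ?_ (key hh0 hh)
    rintro _ ⟨y, hy, rfl⟩
    exact hcond y fun Q hQ => by simpa using mem_semiBall.1 hy Q (hSfin.mem_toFinset.2 hQ)
  have hGinj : Function.Injective (LinearMap.mulLeft k G) := mul_right_injective₀ hG0
  have h1 := relDim_map _ hGinj hn
  have h2 := key hG0 hG
  have hGT : T.map (LinearMap.mulLeft k G) ≤ T := by
    rintro _ ⟨y, hy, rfl⟩
    refine mem_semiBall.2 fun Q hQ => ?_
    have h3 := mem_semiBall.1 (hRT hG) Q hQ
    have h4 := mem_semiBall.1 hy Q hQ
    simp only [Finsupp.coe_zero, Pi.zero_apply, exp_zero] at h3 h4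
    simp only [Finsupp.coe_zero, Pi.zero_apply, exp_zero, LinearMap.mulLeft_apply, map_mul]
    exact mul_le_one' h3 h4
  have h3 := RelDim.trans (Submodule.map_mono hRT) hGT h1 h2
  have hGR : R.map (LinearMap.mulLeft k G) ≤ R := by
    rintro _ ⟨y, hy, rfl⟩
    exact (locSub P v).mul_mem hG hy
  obtain ⟨m, hm⟩ := exists_relDim_left hGR hRT h3
  have h4 := (RelDim.trans hGR hRT hm hn).unique h3
  rw [finsum_mem_eq_finite_toFinset_sum _ hSfin]
  convert hm using 1
  simp only [hS] at h4
  omega

end Groth.Agent.H23Proj
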