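import Mathlib
import Groth.Agent.H23Proj.Model
import Groth.Agent.S11078

/-!
The local ring of a birational projective map at a point of the image.
-/

set_option autoImplicit false
set_option linter.style.haveILetI false
set_option linter.unusedSectionVars false

namespace Groth.Agent.H23Proj

open WithZero Groth.Agent.H23FunFld

variable {k K : Type*} [Field k] [IsAlgClosed k] [Field K] [Algebra k K]
  (hK : FunFld.IsFunctionField k K) {n : ℕ} {φ : Fin (n + 1) → K}

local notation "V" => Submodule.span k (Set.range φ)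
local notation "DD" => FunFld.mapDiv k φ

omit [IsAlgClosed k] in
theorem exp_sum' {ι : Type*} (s : Finset ι) (f : ι → ℤ) :
    (exp (∑ i ∈ s, f i) : WithZero (Multiplicative ℤ)) = ∏ i ∈ s, exp (f i) := by
  classical
  induction s using Finset.induction_on with
  | empty => simp
  | insert a t h ih => rw [Finset.sum_insert h, Finset.prod_insert h, exp_add, ih]

include hK

variable (hne : ∀ i, φ i ≠ 0)
include hne

theorem val_le_of_mem {v : K} (hv : v ∈ V) (Q : FunFld.Place k K) : Q.1 v ≤ exp (DD Q) :=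
  V_le_L hK hne hv Q

theorem max_iff (Q : FunFld.Place k K) (j : Fin (n + 1)) :
    (∀ i, Q.1 (φ i) ≤ Q.1 (φ j)) ↔ Q.1 (φ j) = exp (DD Q) := by
  refine ⟨fun h => le_antisymm (val_entry_le hK Q j (hne j)) ?_, fun h i => h ▸ val_entry_le hK Q i (hne i)⟩
  obtain ⟨i, hi⟩ := exists_attain hK hne Q
  exact hi ▸ h i

/-- Forms vanish simultaneously at places with one image point. -/
theorem vanish_iff_of_sameImage {P Q : FunFld.Place k K} (h : FunFld.SameImage φ P Q) {v : K} (hv : v ∈ V) :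
    P.1 v < exp (DD P) ↔ Q.1 v < exp (DD Q) := by
  obtain ⟨j, hj0, hjP, hjQ, hc⟩ := h
  choose c hcP hcQ using hc
  obtain ⟨a, rfl⟩ := (Submodule.mem_span_range_iff_exists_fun k).1 hv
  have key : ∀ R : FunFld.Place k K, (∀ i, R.1 (φ i) ≤ R.1 (φ j)) →
      (∀ i, R.1 (φ i / φ j - algebraMap k K (c i)) < 1) →
      (R.1 (∑ i, a i • φ i) < exp (DD R) ↔ ∑ i, a i * c i = 0) := by
    intro R hjR hcR
    have hR := (max_iff hK hne R j).1 hjR
    have hz : R.1 ((∑ i, a i • φ i) / φ j - algebraMap k K (∑ i, a i * c i)) < 1 := by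
      rw [Finset.sum_div, map_sum, ← Finset.sum_sub_distrib]
      refine R.1.map_sum_lt' zero_lt_one fun i _ => ?_
      rw [smul_div_assoc, map_mul, Algebra.smul_def, ← mul_sub, map_mul]
      exact (mul_le_of_le_one_left zero_le (R.2.1 _)).trans_lt (hcR i)
    rw [← hR, ← div_lt_one₀ (zero_lt_iff.2 (val_ne_zero R hj0)), ← map_div₀]
    constructor
    · intro h1
      by_contra h0
      have h2 := (R.1.map_sub ((∑ i, a i • φ i) / φ j) ((∑ i, a i • φ i) / φ j - algebraMap k K (∑ i, a i * c i))).trans_lt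
        (max_lt h1 hz)
      rw [sub_sub_cancel, val_const R h0] at h2
      exact lt_irrefl _ h2
    · intro h0
      rwa [h0, map_zero, sub_zero] at hz
  rw [key P hjP hcP, key Q hjQ hcQ]

/-- Places with distinct image points are separated by a form. -/
theorem exists_separating_form {P Q : FunFld.Place k K} (h : ¬ FunFld.SameImage φ P Q) :
    ∃ v ∈ V, P.1 v = exp (DD P) ∧ Q.1 v < exp (DD Q) := by
  by_contra hno
  simp only [not_exists, not_and] at hno
  obtain ⟨j, hj⟩ := exists_attain hK hne P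
  have hjQ : Q.1 (φ j) = exp (DD Q) :=
    le_antisymm (val_entry_le hK Q j (hne j)) (not_lt.1 fun hlt => hno _ (Submodule.subset_span ⟨j, rfl⟩) hj hlt)
  refine h ⟨j, hne j, (max_iff hK hne P j).2 hj, (max_iff hK hne Q j).2 hjQ, fun i => ?_⟩
  obtain ⟨c, hc⟩ := eq_one_of_isAlgClosed hK Q (val_ratio_le_one (hne j) ((max_iff hK hne Q j).2 hjQ) i)
  refine ⟨c, ?_, hc⟩
  have hv : φ i - c • φ j ∈ V :=
    sub_mem (Submodule.subset_span ⟨i, rfl⟩) (Submodule.smul_mem _ _ (Submodule.subset_span ⟨j, rfl⟩))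
  have e : φ i / φ j - algebraMap k K c = (φ i - c • φ j) / φ j := by
    rw [Algebra.smul_def, sub_div, mul_div_cancel_right₀ _ (hne j)]
  rw [e, map_div₀, div_lt_one₀ (zero_lt_iff.2 (val_ne_zero _ (hne j)))] at hc ⊢
  rw [hj]
  rw [hjQ] at hc
  exact lt_of_le_of_ne (val_le_of_mem hK hne hv P) fun h1 => hno _ hv h1 hc

theorem sameImage_self (P : FunFld.Place k K) : FunFld.SameImage φ P P := by
  obtain ⟨j, hj⟩ := exists_attain hK hne P
  have hm := (max_iff hK hne P j).2 hj
  refine ⟨j, hne j, hm, hm, fun i => ?_⟩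
  obtain ⟨c, hc⟩ := eq_one_of_isAlgClosed hK P (val_ratio_le_one (hne j) hm i)
  exact ⟨c, hc, hc⟩

theorem finite_fibre (hn : 1 ≤ n) (hφ : LinearIndependent k φ) (P : FunFld.Place k K) :
    {Q : FunFld.Place k K | FunFld.SameImage φ P Q}.Finite := by
  obtain ⟨j, hj⟩ := exists_attain hK hne P
  obtain ⟨i, hij⟩ : ∃ i : Fin (n + 1), i ≠ j := by
    haveI : Nontrivial (Fin (n + 1)) := Fin.nontrivial_iff_two_le.2 (by omega)
    exact exists_ne j
  obtain ⟨c, hc⟩ := eq_one_of_isAlgClosed hK P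
    (val_ratio_le_one (hne j) ((max_iff hK hne P j).2 hj) i)
  set v := φ i - c • φ j
  have hv : v ∈ V := sub_mem (Submodule.subset_span ⟨i, rfl⟩) (Submodule.smul_mem _ _ (Submodule.subset_span ⟨j, rfl⟩))
  have hv0 : v ≠ 0 := fun h0 => by
    have := Fintype.linearIndependent_iff.1 hφ (Pi.single i (1 : k) - Pi.single j c) (by
      simp only [Pi.sub_apply, sub_smul, Finset.sum_sub_distrib, Pi.single_apply, ite_smul, zero_smul,
        Finset.sum_ite_eq', Finset.mem_univ, if_true, one_smul]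
      exact h0) i
    simp [hij] at this
  have hPv : P.1 v < exp (DD P) := by
    rw [← hj, ← div_lt_one₀ (zero_lt_iff.2 (val_ne_zero _ (hne j))), ← map_div₀]
    simpa [v, Algebra.smul_def, sub_div, hne j] using hc
  refine ((Groth.Agent.H23Ext.finite_support hK.1 v).union (DD).support.finite_toSet).subset fun Q hQ => ?_
  have h1 := (vanish_iff_of_sameImage hK hne hQ hv).1 hPv
  by_contra hno
  simp only [Set.mem_union, Function.mem_support, Finset.mem_coe, Finsupp.mem_support_iff, not_or,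
    not_not] at hno
  rw [val_eq_exp Q hv0, hno.1, hno.2, neg_zero] at h1
  exact lt_irrefl _ h1

omit hne in
theorem exists_high_vanishing_aux {i₀ : Fin (n + 1)} (h₀ : φ i₀ = 1) (hne : ∀ i, φ i ≠ 0)
    (hgen : IntermediateField.adjoin k (Set.range φ) = ⊤) (P : FunFld.Place k K) :
    ∃ N : ℕ, ∀ z : K, (∀ Q : FunFld.Place k K, FunFld.SameImage φ P Q → Q.1 z ≤ exp (-(N : ℤ))) →
      FunFld.InLocRing φ P z := by
  classical
  obtain ⟨r, h, hh0, hh, m₁, hm₁⟩ := exists_conductor hK h₀ hne hgen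
  obtain ⟨j, hj⟩ := exists_attain hK hne P
  set g := φ j ^ r / h
  have hg0 : g ≠ 0 := div_ne_zero (pow_ne_zero _ (hne j)) hh0
  have hgsupp := Groth.Agent.H23Ext.finite_support hK.1 g
  obtain ⟨N, hN⟩ : ∃ N : ℕ, ∀ Q : FunFld.Place k K, -(Q.ord g) ≤ N :=
    ⟨hgsupp.toFinset.sup fun Q => (-(Q.ord g)).toNat, fun Q => by
      by_cases h0 : Q.ord g = 0
      · rw [h0]; simp
      · exact (Int.self_le_toNat _).trans (by
          exact_mod_cast Finset.le_sup (f := fun Q : FunFld.Place k K => (-(Q.ord g)).toNat)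
            (hgsupp.mem_toFinset.2 h0))⟩
  refine ⟨N, fun z hz => ?_⟩
  set S : Finset (FunFld.Place k K) :=
    ((hgsupp.union (Groth.Agent.H23Ext.finite_support hK.1 z)).toFinset).filter
      fun Q => ¬ FunFld.SameImage φ P Q
  choose v hvV hvP hvQ using fun Q : S => exists_separating_form hK hne ((Finset.mem_filter.1 Q.2).2)
  set e : S → ℕ := fun Q => ((-((Q : FunFld.Place k K).ord z + (Q : FunFld.Place k K).ord g))).toNat
  set w := φ j ^ m₁ * ∏ Q : S, v Q ^ e Q
  set a := m₁ + ∑ Q : S, e Q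
  have hwV : w ∈ V ^ a := by
    refine mul_mem_V (Submodule.pow_mem_pow _ (show φ j ∈ V from Submodule.subset_span ⟨j, rfl⟩) _) ?_
    have : ∀ T : Finset S, ∏ Q ∈ T, v Q ^ e Q ∈ V ^ (∑ Q ∈ T, e Q) := by
      intro T
      induction T using Finset.induction_on with
      | empty => simp
      | insert Q T hQT ih =>
        rw [Finset.prod_insert hQT, Finset.sum_insert hQT]
        exact mul_mem_V (Submodule.pow_mem_pow _ (hvV Q) _) ih
    exact this _
  have hwP : P.1 w = exp ((a • DD) P) := by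
    rw [map_mul, map_pow, map_prod, hj]
    simp only [map_pow, hvP, ← exp_nsmul]
    rw [← exp_sum', ← exp_add, ← Finset.sum_smul, ← add_smul, Finsupp.smul_apply]
  have hv0 : ∀ Q, v Q ≠ 0 := fun Q h0 => exp_ne_zero (by rw [← hvP Q, h0, map_zero])
  have hw0 : w ≠ 0 := fun h0 => exp_ne_zero (by rw [← hwP, h0, map_zero])
  have hwle : ∀ R : FunFld.Place k K, R.1 w ≤ exp ((a • DD) R) := fun R => V_pow_le_L hK hne a hwV R
  have hbL : z * g * w ∈ FunFld.L (a • DD) := by
    intro R
    rcases eq_or_ne z 0 with rfl | hz0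
    · simp
    rw [map_mul, map_mul, val_eq_exp R hz0, val_eq_exp R hg0, ← exp_add]
    by_cases hR : FunFld.SameImage φ P R
    · have h1 := hz R hR
      rw [val_le_exp_iff R hz0] at h1
      refine (mul_le_of_le_one_left zero_le ?_).trans (hwle R)
      rw [← exp_zero, exp_le_exp]
      have := hN R
      omega
    by_cases hRS : R ∈ S
    · rw [map_mul, map_pow, map_prod, ← Finset.mul_prod_erase _ _ (Finset.mem_univ (⟨R, hRS⟩ : S))]
      simp only [map_pow]
      have hj' : R.1 (φ j) ^ m₁ ≤ exp ((m₁ : ℤ) * DD R) := by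
        rw [← nsmul_eq_mul, exp_nsmul]
        exact pow_le_pow_left₀ zero_le (val_entry_le hK R j (hne j)) _
      have hself : R.1 (v ⟨R, hRS⟩) ^ e ⟨R, hRS⟩ ≤
          exp ((e ⟨R, hRS⟩ : ℤ) * (DD R - 1)) := by
        have h1 : R.1 (v ⟨R, hRS⟩) < exp (DD R) := hvQ ⟨R, hRS⟩
        rw [val_eq_exp R (hv0 _), exp_lt_exp] at h1
        rw [← nsmul_eq_mul, exp_nsmul]
        refine pow_le_pow_left₀ zero_le ?_ _
        rw [val_le_exp_iff R (hv0 _)]
        omega
      have hrest : ∏ x ∈ Finset.univ.erase (⟨R, hRS⟩ : S), R.1 (v x) ^ e x ≤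
          exp (∑ x ∈ Finset.univ.erase (⟨R, hRS⟩ : S), (e x : ℤ) * DD R) := by
        rw [exp_sum']
        refine Finset.prod_le_prod (fun _ _ => zero_le) fun x _ => ?_
        rw [← nsmul_eq_mul, exp_nsmul]
        exact pow_le_pow_left₀ zero_le (val_le_of_mem hK hne (hvV x) R) _
      refine (mul_le_mul' le_rfl (mul_le_mul' hj' (mul_le_mul' hself hrest))).trans ?_
      rw [← exp_add, ← exp_add, ← exp_add, exp_le_exp, Finsupp.smul_apply, nsmul_eq_mul,
        ← Finset.sum_mul]
      have hsplit : (a : ℤ) = m₁ + e ⟨R, hRS⟩ + ∑ x ∈ Finset.univ.erase (⟨R, hRS⟩ : S), (e x : ℤ) := by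
        simp only [a]
        push_cast
        rw [add_assoc, Finset.add_sum_erase _ (fun x : S => (e x : ℤ)) (Finset.mem_univ _)]
      have hemax : -(R.ord z + R.ord g) ≤ (e ⟨R, hRS⟩ : ℤ) := Int.self_le_toNat _
      rw [hsplit]
      nlinarith [hemax]
    · have h1 : R.ord g = 0 ∧ R.ord z = 0 := by
        simp only [S, Finset.mem_filter, Set.Finite.mem_toFinset, Set.mem_union, Function.mem_support,
          not_and, not_not] at hRS
        constructor <;> by_contra hne'
        · exact hR (hRS (Or.inl hne'))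
        · exact hR (hRS (Or.inr hne'))
      rw [h1.1, h1.2]
      simpa using hwle R
  have hzw := hm₁ a (Nat.le_add_right _ _) _ hbL
  refine ⟨j, hne j, (max_iff hK hne P j).2 hj, _, div_pow_mem j hzw, _, div_pow_mem j hwV, ?_, ?_⟩
  · rw [map_div₀, map_pow, hj, hwP, ← exp_nsmul, Finsupp.smul_apply, div_self exp_ne_zero]
  · have := hne j
    simp only [g]
    field_simp
    ring

omit hne in
/-- Functions vanishing to high order on the fibre lie in the local ring. -/
theorem exists_high_vanishing (hne : ∀ i, φ i ≠ 0)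
    (hbir : IntermediateField.adjoin k (Set.range fun i => φ i / φ 0) = ⊤) (P : FunFld.Place k K) :
    ∃ N : ℕ, ∀ z : K, (∀ Q : FunFld.Place k K, FunFld.SameImage φ P Q → Q.1 z ≤ exp (-(N : ℤ))) →
      FunFld.InLocRing φ P z := by
  let ψ : Fin (n + 1) → K := fun i => φ i / φ 0
  have hfun : ∀ j i, ψ i / ψ j = φ i / φ j := fun j i => div_div_div_cancel_right₀ (hne 0) _ _
  have hle : ∀ (R : FunFld.Place k K) i j, R.1 (ψ i) ≤ R.1 (ψ j) ↔ R.1 (φ i) ≤ R.1 (φ j) := fun R i j => by
    rw [map_div₀, map_div₀, div_le_div_iff_of_pos_right (zero_lt_iff.2 (val_ne_zero R (hne 0)))]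
  obtain ⟨N, hN⟩ := exists_high_vanishing_aux hK (φ := ψ) (i₀ := 0) (div_self (hne 0))
    (fun i => div_ne_zero (hne i) (hne 0)) hbir P
  refine ⟨N, fun z hz => ?_⟩
  obtain ⟨j, -, hj, u, hu, w, hw, hw1, e⟩ := hN z fun Q hQ => hz Q (by
    obtain ⟨j, -, h1, h2, h3⟩ := hQ
    exact ⟨j, hne j, fun i => (hle P i j).1 (h1 i), fun i => (hle Q i j).1 (h2 i),
      fun i => by simpa only [hfun] using h3 i⟩)
  rw [show (fun i => ψ i / ψ j) = fun i => φ i / φ j from funext (hfun j)] at hu hw
  exact ⟨j, hne j, fun i => (hle P i j).1 (hj i), u, hu, w, hw, hw1, e⟩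

/-- A parameter in the local ring comes from a form. -/
theorem exists_order_one {P : FunFld.Place k K} {t : K} (hloc : FunFld.InLocRing φ P t)
    (ht : P.1 t = exp (-1)) : ∃ v ∈ V, P.1 v = exp (DD P - 1) := by
  obtain ⟨j, hj0, hjmax, u, hu, w, hw, hw1, e⟩ := hloc
  have hj := (max_iff hK hne P j).1 hjmax
  by_contra hno
  simp only [not_exists, not_and] at hno
  have hratio : ∀ i, φ i / φ j ∈ congConst P 1 := by
    intro i
    obtain ⟨c, hc⟩ := eq_one_of_isAlgClosed hK P (val_ratio_le_one hj0 hjmax i)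
    refine ⟨c, ?_⟩
    rcases eq_or_ne (φ i / φ j - algebraMap k K c) 0 with h0 | h0
    · rw [h0, map_zero]; exact zero_le
    have hv : φ i - c • φ j ∈ V :=
      sub_mem (Submodule.subset_span ⟨i, rfl⟩) (Submodule.smul_mem _ _ (Submodule.subset_span ⟨j, rfl⟩))
    have h2 : (φ i / φ j - algebraMap k K c) * φ j = φ i - c • φ j := by
      rw [Algebra.smul_def, sub_mul, div_mul_cancel₀ _ hj0]
    have h3 := hno _ hv
    rw [← h2, map_mul, hj, val_eq_exp P h0, ← exp_add, exp_inj] at h3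
    rw [val_lt_one_iff P h0] at hc
    rw [val_le_exp_iff P h0]
    push_cast
    omega
  have hA : Algebra.adjoin k (Set.range fun i => φ i / φ j) ≤ congConst P 1 :=
    Algebra.adjoin_le (Set.range_subset_iff.2 hratio)
  obtain ⟨c, hc⟩ := hA hu
  have hu1 : P.1 u = exp (-1) := by rw [← e, map_mul, ht, hw1, mul_one]
  rcases eq_or_ne c 0 with rfl | hc0
  · rw [map_zero, sub_zero, hu1, exp_le_exp] at hc
    omega
  · have h1 := P.1.map_sub u (u - algebraMap k K c)
    rw [sub_sub_cancel, val_const P hc0, hu1, le_max_iff] at h1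
    rcases h1 with h1 | h1
    · rw [← exp_zero, exp_le_exp] at h1; omega
    · have h2 := h1.trans hc
      rw [← exp_zero, exp_le_exp] at h2; omega

/-- Nonsingularity: a one-point fibre and a form of order one. -/
theorem isNonsingularAt_iff (hn : 1 ≤ n) (hφ : LinearIndependent k φ)
    (hbir : IntermediateField.adjoin k (Set.range fun i => φ i / φ 0) = ⊤) (P : FunFld.Place k K) :
    FunFld.IsNonsingularAt φ P ↔ (∀ Q : FunFld.Place k K, FunFld.SameImage φ P Q → Q = P) ∧
      ∃ v ∈ V, P.1 v = exp (DD P - 1) := by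
  classical
  constructor
  · intro hns
    refine ⟨fun Q hQ => (place_eq_of_le fun z hz =>
      ((Groth.Agent.S11078.result k K hK hn φ hφ P Q).1 hQ z (hns z hz)).1).symm, ?_⟩
    obtain ⟨t, -, ht⟩ := exists_val_eq P (-1)
    exact exists_order_one hK hne (hns t (by rw [ht, ← exp_zero, exp_le_exp]; omega)) ht
  · rintro ⟨hfib, v, hv, hv1⟩ z hz
    obtain ⟨N, hN⟩ := exists_high_vanishing hK hne hbir P
    obtain ⟨j, hj⟩ := exists_attain hK hne P
    have hjmax := (max_iff hK hne P j).2 hj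
    set A := Algebra.adjoin k (Set.range fun i => φ i / φ j)
    set t := v / φ j
    have htA : t ∈ A := by
      simpa using div_pow_mem (φ := φ) j (n := 1) (v := v) (by rwa [pow_one])
    have ht : P.1 t = exp (-1) := by
      rw [map_div₀, hv1, hj, ← exp_sub]; congr 1; ring
    have key : ∀ M : ℕ, ∃ a ∈ A, P.1 (z - a) ≤ exp (-(M : ℤ)) := by
      intro M
      induction M with
      | zero => exact ⟨0, A.zero_mem, by simpa using hz⟩
      | succ M ih =>
        obtain ⟨a, ha, hza⟩ := ih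
        have hb : P.1 ((z - a) / t ^ M) ≤ 1 := by
          rw [map_div₀, map_pow, ht, ← exp_nsmul, div_le_one₀ (zero_lt_iff.2 exp_ne_zero)]
          simpa using hza
        obtain ⟨c, hc⟩ := eq_one_of_isAlgClosed hK P hb
        refine ⟨a + c • t ^ M, A.add_mem ha (A.smul_mem (A.pow_mem htA M) c), ?_⟩
        have ht0 : t ≠ 0 := fun h0 => exp_ne_zero (by rw [← ht, h0, map_zero])
        rw [show z - (a + c • t ^ M) = ((z - a) / t ^ M - algebraMap k K c) * t ^ M by
          rw [sub_mul, div_mul_cancel₀ _ (pow_ne_zero _ ht0), Algebra.smul_def]; ring, map_mul, map_pow, ht]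
        refine (mul_le_mul' (pow_le_exp_of_lt_one hc 1 |>.trans' (by rw [pow_one])) le_rfl).trans ?_
        rw [← exp_nsmul, ← exp_add, exp_le_exp]
        simp
    obtain ⟨a, ha, hza⟩ := key N
    obtain ⟨j', hj'0, hj'max, u, hu, w, hw, hw1, e⟩ := hN (z - a) fun Q hQ => by
      rw [hfib Q hQ]; exact hza
    -- pass to the entry `j`
    have hρ : φ j' / φ j ∈ A := Algebra.subset_adjoin ⟨j', rfl⟩
    have hρ1 : P.1 (φ j' / φ j) = 1 := by
      rw [map_div₀, (max_iff hK hne P j').1 hj'max, hj, div_self exp_ne_zero]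
    have hclear : ∀ b ∈ Algebra.adjoin k (Set.range fun i => φ i / φ j'), ∃ m : ℕ, b * (φ j' / φ j) ^ m ∈ A := by
      intro b hb
      induction hb using Algebra.adjoin_induction with
      | mem x hx =>
        obtain ⟨i, rfl⟩ := hx
        refine ⟨1, ?_⟩
        rw [pow_one, div_mul_div_cancel₀ hj'0]
        exact Algebra.subset_adjoin ⟨i, rfl⟩
      | algebraMap c => exact ⟨0, by rw [pow_zero, mul_one]; exact A.algebraMap_mem c⟩
      | add x y _ _ hx hy =>
        obtain ⟨p, hp⟩ := hx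
        obtain ⟨q, hq⟩ := hy
        refine ⟨p + q, ?_⟩
        rw [add_mul]
        refine A.add_mem ?_ ?_
        · rw [pow_add, ← mul_assoc]; exact A.mul_mem hp (A.pow_mem hρ q)
        · rw [add_comm p q, pow_add, ← mul_assoc]; exact A.mul_mem hq (A.pow_mem hρ p)
      | mul x y _ _ hx hy =>
        obtain ⟨p, hp⟩ := hx
        obtain ⟨q, hq⟩ := hy
        refine ⟨p + q, ?_⟩
        rw [show x * y * (φ j' / φ j) ^ (p + q) = x * (φ j' / φ j) ^ p * (y * (φ j' / φ j) ^ q) by ring]
        exact A.mul_mem hp hq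
    obtain ⟨p, hp⟩ := hclear u hu
    obtain ⟨q, hq⟩ := hclear w hw
    refine ⟨j, hne j, hjmax, u * (φ j' / φ j) ^ p * (φ j' / φ j) ^ q + a * (w * (φ j' / φ j) ^ q * (φ j' / φ j) ^ p),
      A.add_mem (A.mul_mem hp (A.pow_mem hρ q)) (A.mul_mem ha (A.mul_mem hq (A.pow_mem hρ p))),
      w * (φ j' / φ j) ^ q * (φ j' / φ j) ^ p, A.mul_mem hq (A.pow_mem hρ p), ?_, ?_⟩
    · rw [map_mul, map_mul, hw1, map_pow, map_pow, hρ1, one_pow, one_pow, one_mul, one_mul]
    · rw [← e]; ring

end Groth.Agent.H23Proj
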