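import Mathlib
import Groth.Agent.H23Proj.PlaneModel

/-!
Degree and genus of plane models.
-/

set_option autoImplicit false
set_option linter.style.haveILetI false
set_option linter.unusedSectionVars false

namespace Groth.Agent.H23Proj

open WithZero Groth.Agent.H23FunFld

variable {k K : Type*} [Field k] [IsAlgClosed k] [Field K] [Algebra k K]

/-- Replacing zero entries by `1` changes neither divisor, span nor local rings. -/
theorem fixZero_congr (hK : FunFld.IsFunctionField k K) {ι : Type*} [Fintype ι] [Nonempty ι]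
    {φ ψ : ι → K} {i₀ : ι} (hφ₀ : φ i₀ = 1) (hψ₀ : ψ i₀ = 1) (hψ : ∀ i, φ i = ψ i ∨ φ i = 0 ∧ ψ i = 1) :
    FunFld.mapDiv k φ = FunFld.mapDiv k ψ ∧
      Submodule.span k (Set.range φ) = Submodule.span k (Set.range ψ) ∧
      IntermediateField.adjoin k (Set.range φ) = IntermediateField.adjoin k (Set.range ψ) ∧
      ∀ Q : FunFld.Place k K, FunFld.IsNonsingularAt φ Q ↔ FunFld.IsNonsingularAt ψ Q := by
  refine ⟨?_, ?_, ?_, fun Q => ?_⟩
  · ext Q
    rw [mapDiv_apply hK.1, mapDiv_apply hK.1]
    congr 1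
    refine Finset.inf'_congr _ rfl fun i _ => ?_
    rcases hψ i with h | ⟨h, h'⟩
    · rw [h]
    · rw [h, h', ord_zero, ← map_one (algebraMap k K), ord_const]
  · refine le_antisymm (Submodule.span_le.2 ?_) (Submodule.span_le.2 ?_) <;> rintro _ ⟨i, rfl⟩ <;>
      rcases hψ i with h | ⟨h, h'⟩
    · exact h ▸ Submodule.subset_span ⟨i, rfl⟩
    · exact h ▸ zero_mem _
    · exact h ▸ Submodule.subset_span ⟨i, rfl⟩
    · exact h' ▸ hφ₀ ▸ Submodule.subset_span ⟨i₀, rfl⟩
  · refine le_antisymm (IntermediateField.adjoin_le_iff.2 ?_) (IntermediateField.adjoin_le_iff.2 ?_) <;>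
      rintro _ ⟨i, rfl⟩ <;> rcases hψ i with h | ⟨h, h'⟩
    · exact h ▸ IntermediateField.subset_adjoin _ _ ⟨i, rfl⟩
    · exact h ▸ zero_mem _
    · exact h ▸ IntermediateField.subset_adjoin _ _ ⟨i, rfl⟩
    · exact h' ▸ one_mem _
  · have hsub : ∀ j, Algebra.adjoin k (Set.range fun i => φ i / φ j) ≤
        Algebra.adjoin k (Set.range fun i => ψ i / φ j) := by
      intro j
      refine Algebra.adjoin_le ?_
      rintro _ ⟨i, rfl⟩
      rcases hψ i with h | ⟨h, -⟩
      · exact Algebra.subset_adjoin ⟨i, by simp only [h]⟩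
      · simp only [h, zero_div]; exact zero_mem _
    have hsup : ∀ j, Algebra.adjoin k (Set.range fun i => ψ i / φ j) ≤
        Algebra.adjoin k (Set.range fun i => φ i / φ j) := by
      intro j
      refine Algebra.adjoin_le ?_
      rintro _ ⟨i, rfl⟩
      rcases hψ i with h | ⟨-, h⟩
      · exact Algebra.subset_adjoin ⟨i, by simp only [h]⟩
      · exact Algebra.subset_adjoin ⟨i₀, by simp only [h, hφ₀]⟩
    refine forall_congr' fun z => imp_congr_right fun _ => ⟨?_, ?_⟩
    · rintro ⟨j, hj0, hj, u, hu, w, hw, hw1, e⟩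
      have hjψ : ψ j = φ j := ((hψ j).resolve_right fun h => hj0 h.1).symm
      refine ⟨j, hjψ ▸ hj0, fun i => ?_, u, ?_, w, ?_, hw1, e⟩
      · rw [hjψ]
        rcases hψ i with h | ⟨-, h⟩
        · rw [← h]; exact hj i
        · rw [h, ← hφ₀]; exact hj i₀
      · rw [hjψ]; exact hsub j hu
      · rw [hjψ]; exact hsub j hw
    · rintro ⟨j, hj0, hj, u, hu, w, hw, hw1, e⟩
      obtain ⟨j', hj'⟩ : ∃ j', φ j' = ψ j := (hψ j).elim (fun h => ⟨j, h⟩) fun h => ⟨i₀, hφ₀.trans h.2.symm⟩
      refine ⟨j', hj' ▸ hj0, fun i => ?_, u, ?_, w, ?_, hw1, e⟩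
      · rw [hj']
        rcases hψ i with h | ⟨h, -⟩
        · rw [h]; exact hj i
        · rw [h, map_zero]; exact zero_le
      · rw [← hj'] at hu; exact hsup j' hu
      · rw [← hj'] at hw; exact hsup j' hw

theorem range_vec_fix {x y x' y' : K} :
    IntermediateField.adjoin k (Set.range ![(1 : K), x', y']) = IntermediateField.adjoin k ({x', y'} : Set K) ∧
    IntermediateField.adjoin k (Set.range ![(1 : K), x, y]) = IntermediateField.adjoin k ({x, y} : Set K) := by
  constructor <;> rw [range_vec_three] <;>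
    refine le_antisymm (IntermediateField.adjoin_le_iff.2 (Set.insert_subset_iff.2 ⟨one_mem _,
      IntermediateField.subset_adjoin _ _⟩)) (IntermediateField.adjoin.mono k _ _ (Set.subset_insert _ _))

/-- Degree and genus of a plane model. -/
theorem plane_model (hK : FunFld.IsFunctionField k K) (x y : K)
    (hxy : IntermediateField.adjoin k ({x, y} : Set K) = ⊤) :
    (∀ f : MvPolynomial (Fin 2) k, Irreducible f → MvPolynomial.aeval ![x, y] f = 0 →
      (FunFld.mapDiv k ![(1 : K), x, y]).deg = f.totalDegree) ∧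
    2 * (FunFld.genus k K : ℤ) ≤ ((FunFld.mapDiv k ![(1 : K), x, y]).deg - 1) *
      ((FunFld.mapDiv k ![(1 : K), x, y]).deg - 2) ∧
    (2 * (FunFld.genus k K : ℤ) = ((FunFld.mapDiv k ![(1 : K), x, y]).deg - 1) *
        ((FunFld.mapDiv k ![(1 : K), x, y]).deg - 2) ↔
      ∀ Q : FunFld.Place k K, FunFld.IsNonsingularAt ![(1 : K), x, y] Q) := by
  classical
  let fz : K → K := fun a => if a = 0 then 1 else a
  let ψ : Fin 3 → K := ![1, fz x, fz y]
  set φ : Fin 3 → K := ![(1 : K), x, y]
  have hψ : ∀ i, φ i = ψ i ∨ φ i = 0 ∧ ψ i = 1 := by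
    intro i
    fin_cases i
    · exact Or.inl rfl
    · by_cases h : x = 0
      · exact Or.inr ⟨h, by simp [ψ, fz, h]⟩
      · exact Or.inl (by simp [φ, ψ, fz, h])
    · by_cases h : y = 0
      · exact Or.inr ⟨h, by simp [ψ, fz, h]⟩
      · exact Or.inl (by simp [φ, ψ, fz, h])
  obtain ⟨hdiv, hsp, hadj, hns⟩ := fixZero_congr hK (φ := φ) (ψ := ψ) (i₀ := 0) rfl rfl hψ
  have hne : ∀ i, ψ i ≠ 0 := by
    intro i
    fin_cases i <;> simp [ψ, fz]
    all_goals split_ifs with h
    all_goals first | exact one_ne_zero | exact h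
  have hgen : IntermediateField.adjoin k (Set.range ψ) = ⊤ := by
    rw [← hadj, (range_vec_fix (x := x) (y := y) (x' := x) (y' := y)).2, hxy]
  rw [hdiv]
  simp only [hns]
  set DD := FunFld.mapDiv k ψ
  set g := FunFld.genus k K
  have hd1 := one_le_deg hK (i₀ := 0) rfl hne hgen
  have hV : ∀ (f : MvPolynomial (Fin 2) k), Irreducible f → MvPolynomial.aeval ![x, y] f = 0 → ∀ m : ℕ,
      2 * (Module.finrank k (Submodule.span k (Set.range ψ) ^ (f.totalDegree + m) : Submodule k K) : ℤ) =
        2 * (f.totalDegree + m : ℕ) * f.totalDegree + 3 * f.totalDegree - (f.totalDegree : ℤ) ^ 2 := by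
    intro f hf hfxy m
    rw [← hsp]
    exact finrank_pow_span hK hxy hf hfxy m
  have hell : ∀ M : ℕ, 2 * g ≤ M → (FunFld.ell (M • DD) : ℤ) = M * DD.deg + 1 - g := fun M hM => by
    rw [ell_of_deg_large hK (by rw [deg_nsmul]; nlinarith), deg_nsmul]
  haveI : ∀ M : ℕ, FiniteDimensional k (FunFld.L (M • DD)) := fun M => finiteDimensional_L hK _
  haveI hfinV : ∀ M : ℕ, FiniteDimensional k (Submodule.span k (Set.range ψ) ^ M : Submodule k K) := fun M =>
    Submodule.finiteDimensional_of_le (V_pow_le_L hK hne M)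
  have hup : ∀ M : ℕ, (Module.finrank k (Submodule.span k (Set.range ψ) ^ M : Submodule k K) : ℤ) ≤
      FunFld.ell (M • DD) := fun M => by exact_mod_cast Submodule.finrank_mono (V_pow_le_L hK hne M)
  have hdeg : ∀ f : MvPolynomial (Fin 2) k, Irreducible f → MvPolynomial.aeval ![x, y] f = 0 →
      DD.deg = f.totalDegree := by
    intro f hf hfxy
    obtain ⟨r, h, hh0, -, m₁, hm₁⟩ := exists_conductor hK (i₀ := 0) rfl hne hgen
    set d := f.totalDegree
    have hlow : ∀ M, m₁ ≤ M → (FunFld.ell (M • DD) : ℤ) ≤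
        Module.finrank k (Submodule.span k (Set.range ψ) ^ (M + r) : Submodule k K) := fun M hM => by
      haveI := hfinV (M + r)
      have hle : (FunFld.L (M • DD)).map (LinearMap.mulLeft k h) ≤
          (Submodule.span k (Set.range ψ) ^ (M + r) : Submodule k K) := by
        rintro _ ⟨z, hz, rfl⟩
        exact hm₁ M hM z hz
      have h1 := Submodule.finrank_mono hle
      rw [← (Submodule.equivMapOfInjective _ (mul_right_injective₀ hh0) _).finrank_eq] at h1
      exact_mod_cast h1
    set M := d + m₁ + 2 * g + 3 * d + d * d + 2 * r * d + 2 with hMdef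
    obtain ⟨p, hp⟩ : ∃ p, M = d + p := ⟨M - d, by omega⟩
    have e1 := hV f hf hfxy p
    have e2 := hV f hf hfxy (p + r)
    rw [← hp] at e1
    rw [← add_assoc, ← hp] at e2
    have u1 := hup M
    have l1 := hlow M (by omega)
    rw [hell M (by omega)] at u1 l1
    have hMz : (M : ℤ) = d + m₁ + 2 * g + 3 * d + d * d + 2 * r * d + 2 := by exact_mod_cast hMdef
    push_cast at e1 e2
    rcases lt_trichotomy DD.deg (d : ℤ) with hlt | heq | hgt
    · exfalso
      nlinarith [mul_le_mul_of_nonneg_left (Int.add_one_le_iff.2 hlt) (Int.natCast_nonneg M)]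
    · exact heq
    · exfalso
      nlinarith [mul_le_mul_of_nonneg_left (Int.add_one_le_iff.2 hgt) (Int.natCast_nonneg M)]
  obtain ⟨f, hf, hfxy⟩ := exists_relation hK hxy
  have hd := hdeg f hf hfxy
  have key : ∀ M : ℕ, 2 * g + f.totalDegree ≤ M →
      2 * ((FunFld.ell (M • DD) : ℤ) - Module.finrank k (Submodule.span k (Set.range ψ) ^ M : Submodule k K)) =
        (DD.deg - 1) * (DD.deg - 2) - 2 * g := by
    intro M hM
    obtain ⟨p, rfl⟩ := Nat.exists_eq_add_of_le (show f.totalDegree ≤ M by omega)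
    have e1 := hV f hf hfxy p
    rw [hell _ (by omega), hd]
    push_cast at e1 ⊢
    linear_combination -e1
  refine ⟨hdeg, ?_, ⟨fun heq Q => ?_, fun hall => ?_⟩⟩
  · have h1 := key (2 * g + f.totalDegree) le_rfl
    have h2 := hup (2 * g + f.totalDegree)
    linarith
  · refine isNonsingularAt_of_full hK (i₀ := 0) rfl hne hgen (m₁ := 2 * g + f.totalDegree) (fun M hM => ?_) Q
    refine (Submodule.eq_of_le_of_finrank_le (V_pow_le_L hK hne M) ?_).ge
    have h1 := key M hM
    rw [← heq, sub_self] at h1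
    have : (FunFld.ell (M • DD) : ℤ) ≤
        Module.finrank k (Submodule.span k (Set.range ψ) ^ M : Submodule k K) := by linarith
    exact_mod_cast this
  · obtain ⟨M₀, hM₀⟩ := full_of_nonsingular hK (i₀ := 0) rfl hne hgen hall
    set M := M₀ + 2 * g + f.totalDegree
    have h1 := key M (by omega)
    haveI := hfinV M
    have h2 : (FunFld.ell (M • DD) : ℤ) ≤
        Module.finrank k (Submodule.span k (Set.range ψ) ^ M : Submodule k K) := by
      exact_mod_cast Submodule.finrank_mono (hM₀ M (by omega))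
    have h3 := hup M
    linarith

end Groth.Agent.H23Proj
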